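import Cfsg.Agent.ClassTwoFusion.RelAlperin

/-!
# One edge

The interface between the fusion analysis of a strongly closed subgroup `A` of class two and the recognition theorems.
-/

set_option autoImplicit false

namespace Cfsg.Agent.ClassTwoFusion.OneEdge

open Subgroup
open Cfsg.Agent.TwoFusion.ClosedFam
open Cfsg.Agent.ClassTwoFusion.RelAlperin

variable {G : Type*} [Group G]

/-- `X_E = ⟨𝒜 ∩ N_G(E)⟩`. -/
abbrev XG (𝒜 : Set G) (E : Subgroup G) : Subgroup G := fam 𝒜 (normalizer (E : Set G))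

/-- The strongly closed subgroup `A = E₁E₂` has exactly two essential subgroups `E₁`, `E₂` (relative to the closed
family `𝒜`), they are elementary abelian and `X_i = ⟨𝒜 ∩ N_G(E_i)⟩` induces `SL(2,F)` on `E_i`; with `Z = E₁ ∩ E₂` and
`C_i = C_{E_i}(X_i)` we have `|E_i : Z| = |Z : C_i| = |F|` and `C₁ ∩ C₂ = 1`. -/
structure OneEdge (F : Type*) [Field F] (𝒜 : Set G) (A E₁ E₂ : Subgroup G) where
  syl : IsSyl 𝒜 ⊤ A
  sup : E₁ ⊔ E₂ = A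
  sq₁ : ∀ x ∈ E₁, x * x = 1
  sq₂ : ∀ x ∈ E₂, x * x = 1
  cent₁ : centralizer (E₁ : Set G) ⊓ A ≤ E₁
  cent₂ : centralizer (E₂ : Set G) ⊓ A ≤ E₂
  ess : ∀ X : Subgroup G, IsEss 𝒜 A X → X = E₁ ∨ X = E₂
  φ₁ : ↥(XG 𝒜 E₁) →* Matrix.SpecialLinearGroup (Fin 2) F
  φ₂ : ↥(XG 𝒜 E₂) →* Matrix.SpecialLinearGroup (Fin 2) F
  surj₁ : Function.Surjective φ₁
  surj₂ : Function.Surjective φ₂
  ker₁ : ∀ x, φ₁ x = 1 ↔ (x : G) ∈ centralizer (E₁ : Set G)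
  ker₂ : ∀ x, φ₂ x = 1 ↔ (x : G) ∈ centralizer (E₂ : Set G)
  card₁ : Nat.card ↥E₁ = Nat.card F * Nat.card ↥(E₁ ⊓ E₂)
  card₂ : Nat.card ↥E₂ = Nat.card F * Nat.card ↥(E₁ ⊓ E₂)
  cardC₁ : Nat.card F * Nat.card ↥(E₁ ⊓ centralizer (XG 𝒜 E₁ : Set G)) = Nat.card ↥(E₁ ⊓ E₂)
  cardC₂ : Nat.card F * Nat.card ↥(E₂ ⊓ centralizer (XG 𝒜 E₂ : Set G)) = Nat.card ↥(E₁ ⊓ E₂)
  disj : (E₁ ⊓ centralizer (XG 𝒜 E₁ : Set G)) ⊓ (E₂ ⊓ centralizer (XG 𝒜 E₂ : Set G)) = ⊥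

/-- `OneEdge` together with the fact that `E₁`, `E₂` are normal in `A` and essential. -/
structure FullEdge (F : Type*) [Field F] (𝒜 : Set G) (A E₁ E₂ : Subgroup G) extends OneEdge F 𝒜 A E₁ E₂ where
  nor₁ : A ≤ normalizer (E₁ : Set G)
  nor₂ : A ≤ normalizer (E₂ : Set G)
  ess₁ : IsEss 𝒜 A E₁
  ess₂ : IsEss 𝒜 A E₂

end Cfsg.Agent.ClassTwoFusion.OneEdge
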