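import Cfsg.Agent.ClassTwoFusion.OneEdge
import Cfsg.Statements.S0222
import Cfsg.Agent.WeakTI.PslTwo

/-!
# Assembly of S1170

The strongly closed subgroup `A` of class two may be taken minimal; by Goldschmidt's theorem (S1169) and Bender's theorem
(S0222) there is no non-trivial abelian strongly closed subgroup, unless `G` is in the list.
-/

set_option autoImplicit false
set_option linter.style.haveILetI false

namespace Cfsg.Agent.ClassTwoFusion.Assembly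

open Subgroup
open scoped commutatorElement
open Cfsg.Agent.TwoFusion.ClosedFam
open Cfsg.Agent.ClassTwoFusion.RelAlperin Cfsg.Agent.ClassTwoFusion.OneEdge

universe u

/-- The conclusion of S1170. -/
def Concl (G : Type u) [Group G] : Prop :=
  (∃ (F : Type) (_ : Field F) (_ : Fintype F), (Fintype.card F % 16 = 7 ∨ Fintype.card F % 16 = 9) ∧ Nonempty (G ≃* Matrix.ProjectiveSpecialLinearGroup (Fin 2) F)) ∨ (∃ (F : Type) (_ : Field F) (_ : Fintype F) (q : ℕ), Fintype.card F = q ^ 2 ∧ Even q ∧ 4 ≤ q ∧ Nonempty (G ≃* Cfsg.PSU 3 F q)) ∨ Cfsg.IsSuzuki G ∨ (∃ (F : Type) (_ : Field F) (_ : Fintype F), CharP F 2 ∧ Nonempty (G ≃* Matrix.ProjectiveSpecialLinearGroup (Fin 3) F)) ∨ (∃ (F : Type) (_ : Field F) (_ : Fintype F), CharP F 2 ∧ 4 ≤ Fintype.card F ∧ Nonempty (G ≃* Cfsg.PSp 2 F)) ∨ Nonempty (G ≃* alternatingGroup (Fin 7))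

/-- Goldschmidt's theorem S1169 for the group `G`. -/
def Gold (G : Type u) [Group G] : Prop :=
  ∀ (S : Sylow 2 G) (A : Subgroup G), A ≠ ⊥ → IsMulCommutative A → Cfsg.IsStronglyClosed A (S : Subgroup G) →
    IsMulCommutative (S : Subgroup G) ∨ ∃ H : Subgroup G, Cfsg.IsStronglyEmbedded H

/-- Bender's theorem S0222 for the group `G`. -/
def Bend (G : Type u) [Group G] : Prop :=
  (∃ a b : G, a * b ≠ b * a) → ∀ H : Subgroup G, Cfsg.IsStronglyEmbedded H → (∃ (F : Type) (_ : Field F) (_ : Fintype F), CharP F 2 ∧ 4 ≤ Fintype.card F ∧ Nonempty (G ≃* Matrix.ProjectiveSpecialLinearGroup (Fin 2) F)) ∨ Cfsg.IsSuzuki G ∨ (∃ (F : Type) (_ : Field F) (_ : Fintype F) (q : ℕ), Fintype.card F = q ^ 2 ∧ Even q ∧ 4 ≤ q ∧ Nonempty (G ≃* Cfsg.PSU 3 F q))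

variable {G : Type u} [Group G]

/-- A group isomorphic to `PSL(2,F)`, `F` of characteristic two, has abelian 2-subgroups. -/
theorem comm_of_psl {F : Type} [Field F] [CharP F 2] (e : G ≃* Matrix.ProjectiveSpecialLinearGroup (Fin 2) F)
    {S : Subgroup G} (hS : IsPGroup 2 S) {x y : G} (hx : x ∈ S) (hy : y ∈ S) : x * y = y * x := by
  have hsq : ∀ x ∈ S, x * x = 1 := by
    intro x hx
    obtain ⟨k, hk⟩ := hS ⟨x, hx⟩
    exact Cfsg.Agent.WeakTI.PslTwo.mul_self e (k := k) (congrArg Subtype.val hk)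
  have h1 := hsq x hx
  have h2 := hsq y hy
  have h3 := hsq (x * y) (mul_mem hx hy)
  have hxi : x⁻¹ = x := inv_eq_of_mul_eq_one_left h1
  have hyi : y⁻¹ = y := inv_eq_of_mul_eq_one_left h2
  have h4 : (x * y)⁻¹ = x * y := inv_eq_of_mul_eq_one_left h3
  rw [mul_inv_rev, hxi, hyi] at h4
  exact h4.symm

/-- If a simple group with non-abelian Sylow 2-subgroup has a non-trivial abelian strongly closed subgroup, then it is
in the list. -/
theorem concl_of_abelian [Finite G] [IsSimpleGroup G] (hgold : Gold G) (hbend : Bend G) (S : Sylow 2 G)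
    (hS : ∃ x ∈ (S : Subgroup G), ∃ y ∈ (S : Subgroup G), x * y ≠ y * x) (B : Subgroup G) (hB : B ≠ ⊥)
    (hBc : IsMulCommutative B) (hBS : Cfsg.IsStronglyClosed B (S : Subgroup G)) : Concl G := by
  obtain ⟨x, hx, y, hy, hxy⟩ := hS
  rcases hgold S B hB hBc hBS with hc | ⟨H, hH⟩
  · exact absurd (congrArg Subtype.val (hc.is_comm.comm (⟨x, hx⟩ : (S : Subgroup G)) ⟨y, hy⟩)) hxy
  · rcases hbend ⟨x, y, hxy⟩ H hH with ⟨F, _, _, hF, -, ⟨e⟩⟩ | h | h
    · haveI := hF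
      exact absurd (comm_of_psl e S.2 hx hy) hxy
    · exact Or.inr (Or.inr (Or.inl h))
    · exact Or.inr (Or.inl h)

/-- The reduction: it remains to treat the case of one edge. -/
theorem concl_of [Finite G] [IsSimpleGroup G] (hgold : Gold G) (hbend : Bend G) (S : Sylow 2 G) (A : Subgroup G)
    (hAS : Cfsg.IsStronglyClosed A (S : Subgroup G)) (hA1 : ¬ IsMulCommutative A)
    (hA2 : ⁅(⊤ : Subgroup A), ⊤⁆ ≤ Subgroup.center A)
    (hedge : ∀ 𝒜 : Set G, IsClosedFam 𝒜 →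
      (∀ x ∈ fam 𝒜 (S : Subgroup G), ∀ y ∈ fam 𝒜 (S : Subgroup G), ∀ z ∈ fam 𝒜 (S : Subgroup G), Commute ⁅x, y⁆ z) →
      (∃ x ∈ fam 𝒜 (S : Subgroup G), ∃ y ∈ fam 𝒜 (S : Subgroup G), x * y ≠ y * x) →
      (∀ B ≤ fam 𝒜 (S : Subgroup G), Cfsg.IsStronglyClosed B (S : Subgroup G) → B = ⊥ ∨ B = fam 𝒜 (S : Subgroup G)) →
      Concl G) : Concl G := by
  classical
  -- the nontrivial strongly closed subgroups of `A`
  have hna : ∃ x ∈ A, ∃ y ∈ A, x * y ≠ y * x := by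
    by_contra hcon
    push Not at hcon
    exact hA1 ⟨⟨fun x y => Subtype.ext (hcon x x.2 y y.2)⟩⟩
  have hSna : ∃ x ∈ (S : Subgroup G), ∃ y ∈ (S : Subgroup G), x * y ≠ y * x := by
    obtain ⟨x, hx, y, hy, hxy⟩ := hna
    exact ⟨x, hAS.1 hx, y, hAS.1 hy, hxy⟩
  have hcl : ∀ x ∈ A, ∀ y ∈ A, ∀ z ∈ A, Commute ⁅x, y⁆ z := by
    intro x hx y hy z hz
    have h1 : ⁅(⟨x, hx⟩ : A), (⟨y, hy⟩ : A)⁆ ∈ ⁅(⊤ : Subgroup A), ⊤⁆ := commutator_mem_commutator (mem_top _) (mem_top _)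
    have h2 := mem_center_iff.1 (hA2 h1) (⟨z, hz⟩ : A)
    exact (congrArg Subtype.val h2).symm
  by_cases hab : ∃ B : Subgroup G, B ≠ ⊥ ∧ IsMulCommutative B ∧ Cfsg.IsStronglyClosed B (S : Subgroup G)
  · obtain ⟨B, hB, hBc, hBS⟩ := hab
    exact concl_of_abelian hgold hbend S hSna B hB hBc hBS
  push Not at hab
  -- a minimal one
  have hAbot : A ≠ ⊥ := by
    rintro rfl
    obtain ⟨x, hx, y, hy, hxy⟩ := hna
    rw [mem_bot] at hx
    exact hxy (by rw [hx, one_mul, mul_one])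
  obtain ⟨B, ⟨hBne, hBS, hBA⟩, hBmin⟩ : ∃ B : Subgroup G, (B ≠ ⊥ ∧ Cfsg.IsStronglyClosed B (S : Subgroup G) ∧ B ≤ A) ∧
      ∀ C : Subgroup G, (C ≠ ⊥ ∧ Cfsg.IsStronglyClosed C (S : Subgroup G) ∧ C ≤ A) → C ≤ B → B ≤ C := by
    obtain ⟨B, hB⟩ := Set.Finite.exists_minimal (Set.toFinite {B : Subgroup G | B ≠ ⊥ ∧
      Cfsg.IsStronglyClosed B (S : Subgroup G) ∧ B ≤ A}) ⟨A, hAbot, hAS, le_rfl⟩
    exact ⟨B, hB.1, fun C hC hCB => hB.2 hC hCB⟩
  set 𝒜 : Set G := {x : G | ∃ g : G, g * x * g⁻¹ ∈ B} with h𝒜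
  have hfam : IsClosedFam 𝒜 := isClosedFam_of_isStronglyClosed S B hBS
  have hfB : fam 𝒜 (S : Subgroup G) = B := by
    ext x
    rw [hfam.mem_fam_iff S.2]
    constructor
    · rintro ⟨⟨g, hg⟩, hxS⟩
      have := hBS.2 _ hg g⁻¹ (by
        have e : g⁻¹ * (g * x * g⁻¹) * g⁻¹⁻¹ = x := by group
        rw [e]; exact hxS)
      have e : g⁻¹ * (g * x * g⁻¹) * g⁻¹⁻¹ = x := by group
      rwa [e] at this
    · intro hx
      exact ⟨⟨1, by simpa using hx⟩, hBS.1 hx⟩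
  refine hedge 𝒜 hfam ?_ ?_ ?_
  · rw [hfB]
    intro x hx y hy z hz
    exact hcl x (hBA hx) y (hBA hy) z (hBA hz)
  · rw [hfB]
    by_contra hcon
    push Not at hcon
    exact hab B hBne ⟨⟨fun x y => Subtype.ext (hcon x x.2 y y.2)⟩⟩ hBS
  · rw [hfB]
    intro C hCB hCS
    by_cases hC : C = ⊥
    · exact Or.inl hC
    · exact Or.inr (le_antisymm hCB (hBmin C ⟨hC, hCS, hCB.trans hBA⟩ hCB))

end Cfsg.Agent.ClassTwoFusion.Assembly
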