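import Cfsg.Agent.ClassTwoFusion.RelAlperin
import Cfsg.Agent.TwoFusion.TransferIndex

/-!
# Fusion modulo a strongly closed subgroup

`A = fam 𝒜 S` is strongly closed in the Sylow 2-subgroup `S`.  Modulo `A`, all fusion in `S` is controlled by `N_G(A)`
(`exists_normalizer_mod`).  With the focal subgroup theorem: if `G` is simple and non-abelian, then every homomorphism
from `N_G(A)` to an abelian group which is trivial on `A` is trivial on `S` (`map_eq_one`).
-/

set_option autoImplicit false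
set_option linter.style.haveILetI false

namespace Cfsg.Agent.ClassTwoFusion.ModA

open Subgroup
open Cfsg.Agent.TwoFusion.ClosedFam
open Cfsg.Agent.Lib.GoldschmidtFusion

variable {G : Type*} [Group G]

/-- Modulo `A`, conjugation by `g` on `P` is conjugation by an element of `N_G(A)`. -/
def Mod (A P : Subgroup G) (g : G) : Prop :=
  ∃ n ∈ normalizer (A : Set G), ∀ r ∈ P, (n * r * n⁻¹)⁻¹ * (g * r * g⁻¹) ∈ A

theorem Mod.mono {A P Q : Subgroup G} {g : G} (h : Mod A P g) (hQ : Q ≤ P) : Mod A Q g := by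
  obtain ⟨n, hn, hr⟩ := h
  exact ⟨n, hn, fun r hrQ => hr r (hQ hrQ)⟩

theorem Mod.cent {A P : Subgroup G} {c : G} (hc : c ∈ centralizer (P : Set G)) : Mod A P c := by
  refine ⟨1, one_mem _, fun r hr => ?_⟩
  rw [conj_eq_of_mem_centralizer hc hr]
  simp

theorem Mod.of_normalizer {A P : Subgroup G} {g : G} (hg : g ∈ normalizer (A : Set G)) : Mod A P g :=
  ⟨g, hg, fun r _ => by rw [inv_mul_cancel]; exact one_mem _⟩

theorem Mod.mul {A P : Subgroup G} {g h : G} (hg : Mod A P g) (hh : Mod A (P.map (MulAut.conj g).toMonoidHom) h) :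
    Mod A P (h * g) := by
  obtain ⟨n, hn, hr⟩ := hg
  obtain ⟨m, hm, hs⟩ := hh
  refine ⟨m * n, mul_mem hm hn, fun r hrP => ?_⟩
  have h1 := hr r hrP
  have h2 := hs (g * r * g⁻¹) ⟨r, hrP, by simp⟩
  have h3 := (mem_normalizer_iff.1 hm _).1 h1
  have e : (m * n * r * (m * n)⁻¹)⁻¹ * (h * g * r * (h * g)⁻¹) =
      (m * ((n * r * n⁻¹)⁻¹ * (g * r * g⁻¹)) * m⁻¹) *
        ((m * (g * r * g⁻¹) * m⁻¹)⁻¹ * (h * (g * r * g⁻¹) * h⁻¹)) := by group
  rw [e]
  exact mul_mem h3 h2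

section Local

variable {𝒜 : Set G} (h : IsClosedFam 𝒜) (S : Sylow 2 G)
include h

theorem sylow_le_normalizer : (S : Subgroup G) ≤ normalizer (fam 𝒜 (S : Subgroup G) : Set G) :=
  h.le_normalizer_fam _

/-- The kernel of the action of `N_G(X)` on `X / (X ∩ A)`. -/
def ker (h : IsClosedFam 𝒜) (S : Sylow 2 G) (X : Subgroup G) (hX : X ≤ S) : Subgroup G where
  carrier := {k | k ∈ normalizer (X : Set G) ∧ ∀ r ∈ X, k * r * k⁻¹ * r⁻¹ ∈ fam 𝒜 (S : Subgroup G)}
  one_mem' := ⟨one_mem _, fun r _ => by simp⟩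
  mul_mem' := by
    rintro k l ⟨hk, hk'⟩ ⟨hl, hl'⟩
    refine ⟨mul_mem hk hl, fun r hr => ?_⟩
    have h1 := hk' (l * r * l⁻¹) ((mem_normalizer_iff.1 hl r).1 hr)
    have h2 := hl' r hr
    have e : k * l * r * (k * l)⁻¹ * r⁻¹ = (k * (l * r * l⁻¹) * k⁻¹ * (l * r * l⁻¹)⁻¹) * (l * r * l⁻¹ * r⁻¹) := by
      group
    rw [e]
    exact mul_mem h1 h2
  inv_mem' := by
    rintro k ⟨hk, hk'⟩
    refine ⟨inv_mem hk, fun r hr => ?_⟩
    have hr' : k⁻¹ * r * k ∈ X := by
      have := (mem_normalizer_iff.1 (inv_mem hk) r).1 hr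
      simpa using this
    have h1 := hk' (k⁻¹ * r * k) hr'
    have e : k⁻¹ * r * k⁻¹⁻¹ * r⁻¹ = (k * (k⁻¹ * r * k) * k⁻¹ * (k⁻¹ * r * k)⁻¹)⁻¹ := by group
    have e2 : (k * (k⁻¹ * r * k) * k⁻¹ * (k⁻¹ * r * k)⁻¹)⁻¹ = (k⁻¹ * r * k) * r⁻¹ := by group
    rw [e, e2]
    have h2 := inv_mem h1
    rwa [e2] at h2

theorem mem_ker {X : Subgroup G} (hX : X ≤ S) {k : G} :
    k ∈ ker h S X hX ↔ k ∈ normalizer (X : Set G) ∧ ∀ r ∈ X, k * r * k⁻¹ * r⁻¹ ∈ fam 𝒜 (S : Subgroup G) := Iff.rfl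

theorem normalizer_le_normalizer_ker {X : Subgroup G} (hX : X ≤ S) :
    normalizer (X : Set G) ≤ normalizer (ker h S X hX : Set G) := by
  have key : ∀ n ∈ normalizer (X : Set G), ∀ k ∈ ker h S X hX, n * k * n⁻¹ ∈ ker h S X hX := by
    rintro n hn k ⟨hk, hk'⟩
    refine ⟨mul_mem (mul_mem hn hk) (inv_mem hn), fun r hr => ?_⟩
    have hr' : n⁻¹ * r * n ∈ X := by
      have := (mem_normalizer_iff.1 (inv_mem hn) r).1 hr
      simpa using this
    have h1 := hk' _ hr'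
    have h2 : k * (n⁻¹ * r * n) * k⁻¹ * (n⁻¹ * r * n)⁻¹ ∈ X :=
      mul_mem ((mem_normalizer_iff.1 hk _).1 hr') (inv_mem hr')
    have h3 : k * (n⁻¹ * r * n) * k⁻¹ * (n⁻¹ * r * n)⁻¹ ∈ 𝒜 := ((h.mem_fam_iff S.2).1 h1).1
    have e : n * k * n⁻¹ * r * (n * k * n⁻¹)⁻¹ * r⁻¹ = n * (k * (n⁻¹ * r * n) * k⁻¹ * (n⁻¹ * r * n)⁻¹) * n⁻¹ := by
      group
    rw [e]
    exact (h.mem_fam_iff S.2).2 ⟨h.conj_mem _ h3 n, hX ((mem_normalizer_iff.1 hn _).1 h2)⟩
  intro n hn
  rw [mem_normalizer_iff]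
  intro k
  refine ⟨key n hn k, fun hk => ?_⟩
  have := key n⁻¹ (inv_mem hn) _ hk
  have e : n⁻¹ * (n * k * n⁻¹) * n⁻¹⁻¹ = k := by group
  rwa [e] at this

variable [Finite G]

/-- The inductive step. -/
theorem mod_of_normalizer {X : Subgroup G} (hX : X ≤ S)
    (hi : ¬ 2 ∣ ((S : Subgroup G) ⊓ normalizer (X : Set G)).relIndex (normalizer (X : Set G)))
    (ih : ∀ P : Subgroup G, P ≤ S → Nat.card X < Nat.card P → ∀ g : G, P.map (MulAut.conj g).toMonoidHom ≤ S →
      Mod (fam 𝒜 (S : Subgroup G)) P g) {g : G} (hg : g ∈ normalizer (X : Set G)) :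
    Mod (fam 𝒜 (S : Subgroup G)) X g := by
  haveI : Fact (Nat.Prime 2) := ⟨Nat.prime_two⟩
  set A := fam 𝒜 (S : Subgroup G) with hA
  by_cases hAX : A ≤ X
  · -- `A = 𝒜 ∩ X`
    have h1 : A = fam 𝒜 X := le_antisymm (fun x hx => mem_fam ((h.mem_fam_iff S.2).1 hx).1 (hAX hx)) (fam_mono 𝒜 hX)
    refine Mod.of_normalizer ?_
    rw [h1]
    exact h.normalizer_le_normalizer_fam X hg
  set K := ker h S X hX with hK
  have hKN : K ≤ normalizer (X : Set G) := fun k hk => hk.1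
  have hNK := normalizer_le_normalizer_ker h S hX
  -- `S ∩ K` is a Sylow subgroup of `K`
  set T := (S : Subgroup G) ⊓ K with hT
  have hTp : IsPGroup 2 T := S.2.to_le inf_le_left
  have hTi : ¬ 2 ∣ T.relIndex K := by
    intro hdvd
    apply hi
    refine dvd_trans hdvd ?_
    have e1 : T.relIndex K = ((S : Subgroup G) ⊓ normalizer (X : Set G)).relIndex K := by
      rw [← inf_relIndex_right ((S : Subgroup G) ⊓ normalizer (X : Set G)) K]
      congr 1
      rw [hT]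
      ext x
      simp only [mem_inf]
      exact ⟨fun hx => ⟨⟨hx.1, hKN hx.2⟩, hx.2⟩, fun hx => ⟨hx.1.1, hx.2⟩⟩
    rw [e1]
    have e2 : ((S : Subgroup G) ⊓ normalizer (X : Set G)).relIndex K =
        (((S : Subgroup G) ⊓ normalizer (X : Set G)).subgroupOf (normalizer (X : Set G))).relIndex
          (K.subgroupOf (normalizer (X : Set G))) := by
      rw [relIndex_subgroupOf hKN]
    rw [e2]
    haveI : (K.subgroupOf (normalizer (X : Set G))).Normal := by
      rw [normal_subgroupOf_iff_le_normalizer hKN]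
      exact hNK
    exact relIndex_dvd_index_of_normal_right _ _
  -- Frattini
  have hTg : T.map (MulAut.conj g).toMonoidHom ≤ K := by
    refine (map_conj_mono inf_le_right g).trans ?_
    rw [mem_normalizer_iff_map_conj.1 (hNK hg)]
  obtain ⟨k, hk, hkT⟩ := exists_conj_le_in (p := 2) hTp hTi hTg (hTp.map _)
  rw [map_conj_map_conj] at hkT
  -- `k * g` normalizes `X ⊔ T`
  have hkgX : (k * g) ∈ normalizer (X : Set G) := mul_mem (hKN hk) hg
  have hP : (X ⊔ T).map (MulAut.conj (k * g)).toMonoidHom ≤ S := by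
    rw [Subgroup.map_sup, mem_normalizer_iff_map_conj.1 hkgX]
    exact sup_le hX (hkT.trans inf_le_left)
  have hlt : Nat.card X < Nat.card (X ⊔ T : Subgroup G) := by
    refine Set.Finite.card_lt_card (Set.toFinite _) ?_
    have hTX : ¬ T ≤ X := by
      intro hTX
      -- `X < X ⊔ A`
      have hXA : X < X ⊔ A := left_lt_sup.2 hAX
      have hXAS : X ⊔ A ≤ (S : Subgroup G) := sup_le hX (fam_le 𝒜 _)
      have h1 := lt_inf_normalizer (p := 2) (S.2.to_le hXAS) hXA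
      obtain ⟨x, hx, hxX⟩ := SetLike.exists_of_lt h1
      have hXN : X ≤ normalizer (A : Set G) := hX.trans (sylow_le_normalizer h S)
      have h2 : x ∈ ((X ⊔ A : Subgroup G) : Set G) := hx.1
      rw [coe_mul_of_left_le_normalizer_right _ _ hXN] at h2
      obtain ⟨r, hr, a, ha, rfl⟩ := Set.mem_mul.1 h2
      have haN : a ∈ normalizer (X : Set G) := by
        have h3 : r⁻¹ * (r * a) ∈ normalizer (X : Set G) := mul_mem (inv_mem (le_normalizer hr)) hx.2
        simpa using h3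
      apply hxX
      refine mul_mem hr (hTX ⟨fam_le 𝒜 _ ha, haN, fun s hs => ?_⟩)
      have h4 : s * a⁻¹ * s⁻¹ ∈ A := (mem_normalizer_iff.1 (hXN hs) _).1 (inv_mem ha)
      have e : a * s * a⁻¹ * s⁻¹ = a * (s * a⁻¹ * s⁻¹) := by group
      rw [e]
      exact mul_mem ha h4
    have : X < X ⊔ T := left_lt_sup.2 hTX
    exact this
  have h5 : Mod A X (k * g) := (ih (X ⊔ T) (sup_le hX inf_le_left) hlt (k * g) hP).mono le_sup_left
  have h6 : Mod A (X.map (MulAut.conj (k * g)).toMonoidHom) k⁻¹ := by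
    rw [mem_normalizer_iff_map_conj.1 hkgX]
    refine ⟨1, one_mem _, fun r hr => ?_⟩
    have h7 := (inv_mem hk : k⁻¹ ∈ K).2 r hr
    have h8 : (k⁻¹ * r * k⁻¹⁻¹ * r⁻¹) ∈ A := h7
    have h9 := (mem_normalizer_iff.1 ((hX.trans (sylow_le_normalizer h S)) (inv_mem hr)) _).1 h8
    have e : (1 * r * 1⁻¹)⁻¹ * (k⁻¹ * r * k⁻¹⁻¹) = r⁻¹ * (k⁻¹ * r * k⁻¹⁻¹ * r⁻¹) * r⁻¹⁻¹ := by group
    rw [e]
    exact h9
  have h10 := h5.mul h6
  have e : k⁻¹ * (k * g) = g := by group
  rwa [e] at h10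

/-- **Modulo a strongly closed subgroup `A`, the fusion in `S` is controlled by `N_G(A)`.** -/
theorem exists_normalizer_mod {P : Subgroup G} (hP : P ≤ S) {g : G} (hg : P.map (MulAut.conj g).toMonoidHom ≤ S) :
    Mod (fam 𝒜 (S : Subgroup G)) P g := by
  haveI : Fact (Nat.Prime 2) := ⟨Nat.prime_two⟩
  have key : ∀ k : ℕ, ∀ P : Subgroup G, P ≤ S → Nat.card S ≤ Nat.card P + k → ∀ g : G,
      P.map (MulAut.conj g).toMonoidHom ≤ S → Mod (fam 𝒜 (S : Subgroup G)) P g := by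
    intro k
    induction k with
    | zero =>
      intro P hP hk g hg
      have hPS : P = S := Subgroup.eq_of_le_of_card_ge hP (by simpa using hk)
      rw [hPS] at hg ⊢
      have hgN : g ∈ normalizer ((S : Subgroup G) : Set G) :=
        mem_normalizer_iff_map_conj.2 (map_conj_le_of_le_normalizer hg)
      exact Mod.of_normalizer (h.normalizer_le_normalizer_fam _ hgN)
    | succ k ih =>
      intro P hP hk g hg
      have hgen := gen_of_conj (p := 2) S (fun X => X = S ∨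
        ¬ 2 ∣ ((S : Subgroup G) ⊓ normalizer (X : Set G)).relIndex (normalizer (X : Set G))) (Or.inl rfl)
        (fun X _ hX _ _ => Or.inr hX) hP hg
      have main : ∀ {P : Subgroup G} {g : G}, Gen (S : Subgroup G) (fun X => X = S ∨
          ¬ 2 ∣ ((S : Subgroup G) ⊓ normalizer (X : Set G)).relIndex (normalizer (X : Set G))) P g →
          Nat.card S ≤ Nat.card P + (k + 1) → Mod (fam 𝒜 (S : Subgroup G)) P g := by
        intro P g hgen
        induction hgen with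
        | cent hA hc => intro _; exact Mod.cent hc
        | @base A X g hX hF hAX hg =>
          intro hk
          refine Mod.mono (P := X) ?_ hAX
          have hXk : Nat.card S ≤ Nat.card X + (k + 1) := hk.trans (Nat.add_le_add_right (Subgroup.card_le_of_le hAX) _)
          rcases hF with rfl | hF
          · exact Mod.of_normalizer (h.normalizer_le_normalizer_fam _ hg)
          · exact mod_of_normalizer h S hX hF (fun Q hQ hc g hg => ih Q hQ (by omega) g hg) hg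
        | @mul A g h' _ _ ih1 ih2 =>
          intro hk
          exact (ih1 hk).mul (ih2 (by rwa [card_map_conj]))
      exact main hgen hk
  exact key (Nat.card S) P hP (Nat.le_add_left _ _) g hg

/-- If `G` is a non-abelian simple group and `D`, `A ≤ D ≤ S`, contains all `s⁻¹ s^n`, `s, s^n ∈ S`, `n ∈ N_G(A)`,
then `D = S`. -/
theorem eq_of_focal [IsSimpleGroup G] (hG : ∃ a b : G, a * b ≠ b * a) (D : Subgroup G)
    (hAD : fam 𝒜 (S : Subgroup G) ≤ D) (hDS : D ≤ S)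
    (hD : ∀ s ∈ S, ∀ n ∈ normalizer (fam 𝒜 (S : Subgroup G) : Set G), n * s * n⁻¹ ∈ S → s⁻¹ * (n * s * n⁻¹) ∈ D) :
    D = S := by
  haveI : Fact (Nat.Prime 2) := ⟨Nat.prime_two⟩
  obtain ⟨K, hKn, hKi, hKS⟩ := Cfsg.Agent.TwoFusion.TransferIndex.exists_normal_of_fusion S D hDS (by
    intro s hs g hg
    have hz : zpowers s ≤ (S : Subgroup G) := by rwa [zpowers_le]
    obtain ⟨n, hn, hr⟩ := exists_normalizer_mod h S hz (g := g) (by
      rintro _ ⟨x, hx, rfl⟩
      obtain ⟨i, rfl⟩ := mem_zpowers_iff.1 hx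
      have : (MulAut.conj g).toMonoidHom (s ^ i) = (g * s * g⁻¹) ^ i := by simp
      rw [this]
      exact zpow_mem hg i)
    have h1 := hr s (mem_zpowers s)
    have h2 : n * s * n⁻¹ ∈ S := by
      have h3 : (g * s * g⁻¹) * ((n * s * n⁻¹)⁻¹ * (g * s * g⁻¹))⁻¹ ∈ (S : Subgroup G) :=
        mul_mem hg (inv_mem (fam_le 𝒜 _ h1))
      have e : (g * s * g⁻¹) * ((n * s * n⁻¹)⁻¹ * (g * s * g⁻¹))⁻¹ = n * s * n⁻¹ := by group
      rwa [e] at h3
    have h4 := hD s hs n hn h2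
    have e : s⁻¹ * (g * s * g⁻¹) = (s⁻¹ * (n * s * n⁻¹)) * ((n * s * n⁻¹)⁻¹ * (g * s * g⁻¹)) := by group
    rw [e]
    exact mul_mem h4 (hAD h1))
  rcases hKn.eq_bot_or_eq_top with hK | hK
  · exfalso
    -- then `G` is a 2-group
    rw [hK, index_bot] at hKi
    have h1 : Nat.card G ∣ Nat.card (S : Subgroup G) := by
      rw [hKi]
      exact relIndex_dvd_card D (S : Subgroup G)
    have h2 : IsPGroup 2 G := by
      obtain ⟨n, hn⟩ := (IsPGroup.iff_card (p := 2)).1 S.2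
      rw [hn] at h1
      obtain ⟨m, -, hm⟩ := (Nat.dvd_prime_pow Nat.prime_two).1 h1
      exact IsPGroup.of_card hm
    haveI : Nontrivial G := IsSimpleGroup.toNontrivial
    have h3 : Nontrivial (center G) := h2.center_nontrivial
    rcases (inferInstance : (center G).Normal).eq_bot_or_eq_top with h4 | h4
    · rw [h4] at h3
      exact not_nontrivial _ h3
    · obtain ⟨a, b, hab⟩ := hG
      apply hab
      have : a ∈ center G := by rw [h4]; exact mem_top a
      exact (mem_center_iff.1 this b).symm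
  · rw [hK, top_inf_eq] at hKS
    exact hKS.symm

/-- If `G` is a non-abelian simple group, then every homomorphism from `N_G(A)` to an abelian group which is trivial on
`A` is trivial on `S`. -/
theorem map_eq_one [IsSimpleGroup G] (hG : ∃ a b : G, a * b ≠ b * a) {Q : Type*} [CommGroup Q]
    (f : ↥(normalizer (fam 𝒜 (S : Subgroup G) : Set G)) →* Q)
    (hf : ∀ a (ha : a ∈ fam 𝒜 (S : Subgroup G)), f ⟨a, le_normalizer ha⟩ = 1) {s : G} (hs : s ∈ S) :
    f ⟨s, sylow_le_normalizer h S hs⟩ = 1 := by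
  have hmem : ∀ x (hx : x ∈ normalizer (fam 𝒜 (S : Subgroup G) : Set G)),
      x ∈ f.ker.map (normalizer (fam 𝒜 (S : Subgroup G) : Set G)).subtype ↔ f ⟨x, hx⟩ = 1 := by
    intro x hx
    constructor
    · rintro ⟨y, hy, hyx⟩
      have : y = ⟨x, hx⟩ := Subtype.ext hyx
      rw [← this]; exact hy
    · intro hfx
      exact ⟨⟨x, hx⟩, hfx, rfl⟩
  have h1 : (f.ker.map (normalizer (fam 𝒜 (S : Subgroup G) : Set G)).subtype) ⊓ (S : Subgroup G) = S := by
    refine eq_of_focal h S hG _ ?_ inf_le_right ?_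
    · intro a ha
      exact ⟨(hmem a (le_normalizer ha)).2 (hf a ha), fam_le 𝒜 _ ha⟩
    · intro s hs n hn hns
      have hsN : s ∈ normalizer (fam 𝒜 (S : Subgroup G) : Set G) := sylow_le_normalizer h S hs
      refine mem_inf.2 ⟨?_, (S : Subgroup G).mul_mem ((S : Subgroup G).inv_mem hs) hns⟩
      rw [hmem _ (mul_mem (inv_mem hsN) (mul_mem (mul_mem hn hsN) (inv_mem hn)))]
      have e : (⟨s⁻¹ * (n * s * n⁻¹), mul_mem (inv_mem hsN) (mul_mem (mul_mem hn hsN) (inv_mem hn))⟩ :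
          ↥(normalizer (fam 𝒜 (S : Subgroup G) : Set G))) =
          (⟨s, hsN⟩ : ↥(normalizer (fam 𝒜 (S : Subgroup G) : Set G)))⁻¹ *
            (⟨n, hn⟩ * ⟨s, hsN⟩ * (⟨n, hn⟩ : ↥(normalizer (fam 𝒜 (S : Subgroup G) : Set G)))⁻¹) := rfl
      rw [e, map_mul, map_mul, map_mul, map_inv, map_inv, mul_comm (f ⟨n, hn⟩), mul_assoc, mul_inv_cancel, mul_one,
        inv_mul_cancel]
  have h2 : s ∈ (f.ker.map (normalizer (fam 𝒜 (S : Subgroup G) : Set G)).subtype) ⊓ (S : Subgroup G) := by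
    rw [h1]; exact hs
  exact (hmem s _).1 (mem_inf.1 h2).1

end Local

end Cfsg.Agent.ClassTwoFusion.ModA
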