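import Mathlib
import Cfsg.Agent.ClassTwo.Sp4SL2

/-!
# A 2-element acting on `SL(2,F)` and on a module with natural quotient

`F` is a finite field of characteristic two.  `ψ : SL(2,F) →* M` is injective, `N ≤ M` normalises `ψ(SL(2,F))` and
`ψ(U)`, `U` the group of upper unitriangular matrices.  If `s ∈ N` is a 2-element in `ψ(U)·[N,N]` then `s` acts on
`ψ(SL(2,F))` as an element of `ψ(U)`.
-/

set_option autoImplicit false

namespace Cfsg.Agent.ClassTwoFusion.SLTwoFix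

open Matrix
open Cfsg.Agent.ClassTwo.Sp4Defs Cfsg.Agent.ClassTwo.Sp4SL2

section Mat

variable {F : Type*} [Field F] [CharP F 2]

/-- Involutions `m` such that `u 1 * m` has order three are conjugate to `v 1` under `U`. -/
theorem exists_conj_of_cube {m : SpecialLinearGroup (Fin 2) F} (h1 : m * m = 1) (hne : m ≠ u 1)
    (h3 : (u 1 * m) * (u 1 * m) * (u 1 * m) = 1) : ∃ x : F, m = u x * v 1 * (u x)⁻¹ := by
  have h2 : (2 : F) = 0 := CharTwo.two_eq_zero
  have hdet := det_eq m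
  -- the trace of `m` is zero
  have e00 := (Cfsg.Agent.ClassTwo.Sp4SL2.ext_iff.1 h1).1
  have e01 := (Cfsg.Agent.ClassTwo.Sp4SL2.ext_iff.1 h1).2.1
  have e10 := (Cfsg.Agent.ClassTwo.Sp4SL2.ext_iff.1 h1).2.2.1
  simp only [mul_val_apply] at e00 e01 e10
  simp at e00 e01 e10
  have htr : m.1 1 1 = m.1 0 0 := by
    by_contra hne'
    have hs : m.1 0 0 + m.1 1 1 ≠ 0 := by
      intro h
      apply hne'
      have := CharTwo.add_eq_zero.1 h
      exact this.symm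
    have hb : m.1 0 1 = 0 := by
      have : m.1 0 1 * (m.1 0 0 + m.1 1 1) = 0 := by linear_combination e01
      exact (mul_eq_zero.1 this).resolve_right hs
    have ha : m.1 0 0 = 1 := by
      have h : (m.1 0 0 + 1) * (m.1 0 0 + 1) = 0 := by
        rw [hb] at e00
        linear_combination e00 + (m.1 0 0 + 1) * h2
      have := mul_self_eq_zero.1 h
      exact CharTwo.add_eq_zero.1 this
    have hd : m.1 1 1 = 1 := by
      rw [hb, ha] at hdet
      linear_combination hdet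
    exact hne' (by rw [ha, hd])
  -- the lower left entry
  have c10 := (Cfsg.Agent.ClassTwo.Sp4SL2.ext_iff.1 h3).2.2.1
  simp only [mul_val_apply] at c10
  simp at c10
  rw [htr] at c10 hdet
  have hc : m.1 1 0 * ((m.1 1 0 + 1) * (m.1 1 0 + 1)) = 0 := by
    linear_combination c10 + (m.1 1 0) * hdet +
      (m.1 1 0 - 2 * m.1 1 0 * m.1 0 0 ^ 2 + m.1 1 0 ^ 2 - 2 * m.1 1 0 ^ 2 * m.1 0 0) * h2
  rcases mul_eq_zero.1 hc with h0 | h0
  · exfalso
    have ha : m.1 0 0 = 1 := by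
      have h : (m.1 0 0 + 1) * (m.1 0 0 + 1) = 0 := by
        rw [h0] at e00
        linear_combination e00 + (m.1 0 0 + 1) * h2
      have := mul_self_eq_zero.1 h
      exact CharTwo.add_eq_zero.1 this
    have hmu : m = u (m.1 0 1) := by
      rw [Cfsg.Agent.ClassTwo.Sp4SL2.ext_iff]
      simp [ha, h0, htr]
    rw [hmu, u_mul, u_mul, u_mul, u_eq_one] at h3
    apply hne
    rw [hmu]
    congr 1
    linear_combination h3 - (1 + m.1 0 1) * h2 - h2
  · have hc1 : m.1 1 0 = 1 := CharTwo.add_eq_zero.1 (mul_self_eq_zero.1 h0)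
    refine ⟨m.1 0 0 + 1, ?_⟩
    rw [u_inv']
    rw [hc1] at hdet
    rw [Cfsg.Agent.ClassTwo.Sp4SL2.ext_iff]
    simp only [mul_val_apply]
    simp
    refine ⟨?_, ?_, hc1, ?_⟩
    · linear_combination -h2
    · linear_combination hdet + (-1 - 2 * m.1 0 0 + m.1 0 1 - m.1 0 0 ^ 2) * h2
    · rw [htr]; linear_combination -h2

/-- An injective endomorphism of `SL(2,F)` fixing all `u x` is conjugation by some `u x`. -/
theorem exists_u_of_fix (σ : SpecialLinearGroup (Fin 2) F →* SpecialLinearGroup (Fin 2) F)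
    (hσ : Function.Injective σ) (hu : ∀ t : F, σ (u t) = u t) :
    ∃ x : F, ∀ g, σ g = u x * g * (u x)⁻¹ := by
  have h1 : σ (v 1) * σ (v 1) = 1 := by rw [← map_mul, v_mul_self, map_one]
  have h3 : σ (v 1) ≠ u 1 := by
    intro h
    have h4 := hσ (h.trans (hu 1).symm)
    have := (Cfsg.Agent.ClassTwo.Sp4SL2.ext_iff.1 h4).2.2.1
    simp at this
  have h4 : (u 1 * σ (v 1)) * (u 1 * σ (v 1)) * (u 1 * σ (v 1)) = 1 := by
    rw [← hu 1, ← map_mul, ← map_mul, ← map_mul]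
    have : (u (1 : F) * v 1) * (u 1 * v 1) * (u 1 * v 1) = 1 := by
      have h2 : (2 : F) = 0 := CharTwo.two_eq_zero
      rw [Cfsg.Agent.ClassTwo.Sp4SL2.ext_iff]
      simp only [mul_val_apply]
      simp
      refine ⟨?_, ?_, ?_, ?_⟩
      · linear_combination 6 * h2
      · linear_combination 4 * h2
      · linear_combination 4 * h2
      · linear_combination 2 * h2
    rw [this, map_one]
  obtain ⟨x, hx⟩ := exists_conj_of_cube h1 h3 h4
  refine ⟨x, ?_⟩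
  have key : σ = (MulAut.conj (u x)).toMonoidHom := by
    apply hom_ext
    · intro t
      rw [hu]
      simp only [MulEquiv.toMonoidHom_eq_coe, MonoidHom.coe_coe, MulAut.conj_apply]
      rw [u_inv, u_mul, u_mul]
      congr 1; ring
    · rw [w_eq', map_mul, map_mul, hu, hx]
      simp only [MulEquiv.toMonoidHom_eq_coe, MonoidHom.coe_coe, MulAut.conj_apply]
      have e : u x * (u 1 * v 1 * u 1) * (u x)⁻¹ = (u x * u 1) * v 1 * (u 1 * (u x)⁻¹) := by group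
      rw [e, u_inv, u_mul, u_mul]
      have e2 : u (1 : F) * (u x * v 1 * u (-x)) * u 1 = (u 1 * u x) * v 1 * (u (-x) * u 1) := by group
      rw [e2, u_mul, u_mul, add_comm x 1, add_comm (-x) 1]
  intro g
  rw [key]
  simp

end Mat

section Act

variable {F : Type*} [Field F] {M : Type*} [Group M] (ψ : SpecialLinearGroup (Fin 2) F →* M)

/-- The subgroup `ψ(U)`. -/
def UU : Subgroup M where
  carrier := Set.range fun x : F => ψ (u x)
  mul_mem' := by
    rintro _ _ ⟨a, rfl⟩ ⟨b, rfl⟩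
    exact ⟨a + b, by simp only [← map_mul, u_mul]⟩
  one_mem' := ⟨0, by simp [u_zero]⟩
  inv_mem' := by
    rintro _ ⟨a, rfl⟩
    exact ⟨-a, by simp only [← map_inv, u_inv]⟩

theorem mem_UU {x : M} : x ∈ UU ψ ↔ ∃ a : F, ψ (u a) = x := Iff.rfl

theorem u_mem (a : F) : ψ (u a) ∈ UU ψ := ⟨a, rfl⟩

/-- `n` normalises `ψ(SL(2,F))` and `ψ(U)`. -/
structure Norm (n : M) : Prop where
  all : ∀ g, ∃ g', n * ψ g * n⁻¹ = ψ g'
  uni : ∀ a, ∃ b, n * ψ (u a) * n⁻¹ = ψ (u b)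

/-- `n` acts on the torus modulo `U` as the `k`-th power map. -/
def Pw (n : M) (k : ℕ) : Prop := ∀ l : Fˣ, ∃ a : F, n * ψ (d l) * n⁻¹ = ψ (u a) * ψ (d (l ^ k))

variable {ψ}

theorem Pw.mul {n m : M} {k j : ℕ} (hn : Norm ψ n) (h1 : Pw ψ n k) (h2 : Pw ψ m j) : Pw ψ (n * m) (j * k) := by
  intro l
  obtain ⟨a, ha⟩ := h2 l
  obtain ⟨b, hb⟩ := h1 (l ^ j)
  obtain ⟨c, hc⟩ := hn.uni a
  refine ⟨c + b, ?_⟩
  have e : n * m * ψ (d l) * (n * m)⁻¹ = n * (m * ψ (d l) * m⁻¹) * n⁻¹ := by group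
  rw [e, ha, ← conj_mul, hc, hb, ← u_mul, map_mul, pow_mul, mul_assoc]

theorem Norm.mul {n m : M} (hn : Norm ψ n) (hm : Norm ψ m) : Norm ψ (n * m) := by
  constructor
  · intro g
    obtain ⟨g', hg'⟩ := hm.all g
    obtain ⟨g'', hg''⟩ := hn.all g'
    refine ⟨g'', ?_⟩
    have e : n * m * ψ g * (n * m)⁻¹ = n * (m * ψ g * m⁻¹) * n⁻¹ := by group
    rw [e, hg', hg'']
  · intro g
    obtain ⟨g', hg'⟩ := hm.uni g
    obtain ⟨g'', hg''⟩ := hn.uni g'
    refine ⟨g'', ?_⟩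
    have e : n * m * ψ (u g) * (n * m)⁻¹ = n * (m * ψ (u g) * m⁻¹) * n⁻¹ := by group
    rw [e, hg', hg'']

/-- The endomorphism of `SL(2,F)` induced by an element normalising its image. -/
theorem exists_hom (hψ : Function.Injective ψ) {n : M} (h : ∀ g, ∃ g', n * ψ g * n⁻¹ = ψ g') :
    ∃ σ : SpecialLinearGroup (Fin 2) F →* SpecialLinearGroup (Fin 2) F, Function.Injective σ ∧
      ∀ g, ψ (σ g) = n * ψ g * n⁻¹ := by
  choose f hf using h
  refine ⟨⟨⟨f, ?_⟩, ?_⟩, ?_, fun g => (hf g).symm⟩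
  · apply hψ
    rw [← hf 1, map_one, mul_one, mul_inv_cancel]
  · intro x y
    apply hψ
    rw [map_mul, ← hf, ← hf, ← hf, map_mul]
    group
  · intro x y hxy
    apply hψ
    have h1 : f x = f y := hxy
    have h2 : n * ψ x * n⁻¹ = n * ψ y * n⁻¹ := by rw [hf, hf, h1]
    simpa using h2

variable [Finite F]

theorem exists_pw (hψ : Function.Injective ψ) {n : M} (hn : Norm ψ n) : ∃ k : ℕ, Pw ψ n k := by
  obtain ⟨σ, hσ, hs⟩ := exists_hom hψ hn.all
  have hσu : ∀ a, ∃ b, σ (u a) = u b := by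
    intro a
    obtain ⟨b, hb⟩ := hn.uni a
    exact ⟨b, hψ (by rw [hs, hb])⟩
  -- images of diagonal elements are upper triangular
  have hlow : ∀ l : Fˣ, ∃ (s : F) (l' : Fˣ), σ (d l) = u s * d l' := by
    intro l
    apply eq_u_mul_d
    obtain ⟨b, hb⟩ := hσu 1
    obtain ⟨c, hc⟩ := hσu ((l : F) ^ 2 * 1)
    have hb0 : b ≠ 0 := by
      rintro rfl
      rw [u_zero] at hb
      have := hσ (hb.trans (map_one σ).symm)
      rw [u_eq_one] at this
      exact one_ne_zero this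
    apply lower_eq_zero_of_conj (t := b) (s := c) hb0
    rw [← hb, ← map_mul, ← map_inv, ← map_mul, d_conj_u, hc]
  obtain ⟨ζ, hζ⟩ := IsCyclic.exists_generator (α := Fˣ)
  obtain ⟨s, l', hsl⟩ := hlow ζ
  have hl' : l' ∈ Submonoid.powers ζ := by
    rw [mem_powers_iff_mem_zpowers]; exact hζ l'
  obtain ⟨k, rfl⟩ := hl'
  refine ⟨k, ?_⟩
  have h0 : ∃ a : F, n * ψ (d ζ) * n⁻¹ = ψ (u a) * ψ (d (ζ ^ k)) := by
    refine ⟨s, ?_⟩
    rw [← hs, hsl, map_mul]
  have hpow : ∀ j : ℕ, ∃ a : F, n * ψ (d (ζ ^ j)) * n⁻¹ = ψ (u a) * ψ (d ((ζ ^ j) ^ k)) := by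
    intro j
    induction j with
    | zero => exact ⟨0, by simp [d_one, u_zero]⟩
    | succ j ih =>
      obtain ⟨a, ha⟩ := ih
      obtain ⟨b, hb⟩ := h0
      refine ⟨a + (((ζ ^ j) ^ k : Fˣ) : F) ^ 2 * b, ?_⟩
      rw [pow_succ, ← d_mul, map_mul, ← conj_mul, ha, hb, mul_pow, ← d_mul, ← u_mul, map_mul, map_mul,
        ← d_conj_u, map_mul, map_mul, map_inv]
      group
  intro l
  have hl : l ∈ Submonoid.powers ζ := by
    rw [mem_powers_iff_mem_zpowers]; exact hζ l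
  obtain ⟨j, rfl⟩ := hl
  exact hpow j

omit [Finite F] in
theorem Pw.one_eq (hψ : Function.Injective ψ) {k : ℕ} (h : Pw ψ 1 k) (l : Fˣ) : l ^ k = l := by
  obtain ⟨a, ha⟩ := h l
  rw [one_mul, inv_one, mul_one, ← map_mul] at ha
  have h1 := (Cfsg.Agent.ClassTwo.Sp4SL2.ext_iff.1 (hψ ha)).2.2.2
  simp only [mul_val_apply] at h1
  simp at h1
  have h2 : (l ^ k)⁻¹ = l⁻¹ := Units.ext (by simpa using h1.symm)
  exact inv_injective h2

omit [Finite F] in
theorem Norm.inv_of {n : M} (h : Norm ψ n⁻¹) (g : SpecialLinearGroup (Fin 2) F) :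
    ∃ g', n⁻¹ * ψ g * n = ψ g' := by
  have := h.all g
  rwa [inv_inv] at this

/-- The elements which normalise `ψ(SL(2,F))` and `ψ(U)` and act trivially on the torus modulo `U`. -/
def KK (ψ : SpecialLinearGroup (Fin 2) F →* M) : Subgroup M where
  carrier := {n | Norm ψ n ∧ Norm ψ n⁻¹ ∧ Pw ψ n 1 ∧ Pw ψ n⁻¹ 1}
  mul_mem' := by
    rintro n m ⟨h1, h2, h3, h4⟩ ⟨h1', h2', h3', h4'⟩
    refine ⟨h1.mul h1', ?_, ?_, ?_⟩
    · rw [_root_.mul_inv_rev]; exact h2'.mul h2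
    · have := Pw.mul h1 h3 h3'
      simpa using this
    · have := Pw.mul h2' h4' h4
      rw [_root_.mul_inv_rev]
      simpa using this
  one_mem' := by
    have h1 : Norm ψ 1 := ⟨fun g => ⟨g, by simp⟩, fun g => ⟨g, by simp⟩⟩
    have h2 : Pw ψ 1 1 := fun l => ⟨0, by simp [u_zero]⟩
    exact ⟨h1, by simpa using h1, h2, by simpa using h2⟩
  inv_mem' := by
    rintro n ⟨h1, h2, h3, h4⟩
    exact ⟨h2, by rwa [inv_inv], h4, by rwa [inv_inv]⟩

omit [Finite F] in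
theorem mem_KK {n : M} : n ∈ KK ψ ↔ Norm ψ n ∧ Norm ψ n⁻¹ ∧ Pw ψ n 1 ∧ Pw ψ n⁻¹ 1 := Iff.rfl

omit [Finite F] in
theorem UU_le_KK : UU ψ ≤ KK ψ := by
  have h1 : ∀ a : F, Norm ψ (ψ (u a)) := fun a =>
    ⟨fun g => ⟨u a * g * (u a)⁻¹, by simp only [map_mul, map_inv]⟩,
      fun b => ⟨b, by rw [← map_inv, ← map_mul, ← map_mul, u_inv, u_mul, u_mul]; congr 2; ring⟩⟩
  have h2 : ∀ a : F, Pw ψ (ψ (u a)) 1 := by
    intro a l
    refine ⟨a - (l : F) ^ 2 * a, ?_⟩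
    rw [pow_one, ← map_inv, ← map_mul, ← map_mul, ← map_mul]
    congr 1
    have e : u a * d l * (u a)⁻¹ = u a * (d l * (u a)⁻¹ * (d l)⁻¹) * d l := by group
    rw [e, u_inv, d_conj_u, u_mul]
    congr 2; ring
  rintro _ ⟨a, rfl⟩
  refine ⟨h1 a, ?_, h2 a, ?_⟩
  · have e : (ψ (u a))⁻¹ = ψ (u (-a)) := by rw [← u_inv, map_inv]
    change Norm ψ (ψ (u a))⁻¹
    rw [e]; exact h1 _
  · have e : (ψ (u a))⁻¹ = ψ (u (-a)) := by rw [← u_inv, map_inv]
    change Pw ψ (ψ (u a))⁻¹ 1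
    rw [e]; exact h2 _

theorem pw_commutator (hψ : Function.Injective ψ) {N : Subgroup M} (hN : ∀ n ∈ N, Norm ψ n) {n m : M} (hn : n ∈ N)
    (hm : m ∈ N) : Pw ψ (n * m * n⁻¹ * m⁻¹) 1 := by
  obtain ⟨k, hk⟩ := exists_pw hψ (hN n hn)
  obtain ⟨k', hk'⟩ := exists_pw hψ (hN _ (inv_mem hn))
  obtain ⟨j, hj⟩ := exists_pw hψ (hN m hm)
  obtain ⟨j', hj'⟩ := exists_pw hψ (hN _ (inv_mem hm))
  have h1 : ∀ l : Fˣ, l ^ (k' * k) = l := by
    apply Pw.one_eq hψ
    have := Pw.mul (hN n hn) hk hk'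
    rwa [mul_inv_cancel] at this
  have h2 : ∀ l : Fˣ, l ^ (j' * j) = l := by
    apply Pw.one_eq hψ
    have := Pw.mul (hN m hm) hj hj'
    rwa [mul_inv_cancel] at this
  have h3 := Pw.mul (hN _ (mul_mem hn hm)) (Pw.mul (hN n hn) hk hj) hk'
  have h4 := Pw.mul (hN _ (mul_mem (mul_mem hn hm) (inv_mem hn))) h3 hj'
  intro l
  obtain ⟨a, ha⟩ := h4 l
  refine ⟨a, ?_⟩
  rw [ha]
  congr 3
  have e : j' * (k' * (j * k)) = (j' * j) * (k' * k) := by ring
  rw [e, pow_mul, h2, h1, pow_one]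

theorem sup_commutator_le (hψ : Function.Injective ψ) {N : Subgroup M} (hN : ∀ n ∈ N, Norm ψ n) :
    UU ψ ⊔ ⁅N, N⁆ ≤ KK ψ := by
  refine sup_le UU_le_KK ?_
  rw [Subgroup.commutator_le]
  intro n hn m hm
  have hc : n * m * n⁻¹ * m⁻¹ ∈ N := mul_mem (mul_mem (mul_mem hn hm) (inv_mem hn)) (inv_mem hm)
  rw [commutatorElement_def]
  refine ⟨hN _ hc, hN _ (inv_mem hc), pw_commutator hψ hN hn hm, ?_⟩
  have e : (n * m * n⁻¹ * m⁻¹)⁻¹ = m * n * m⁻¹ * n⁻¹ := by group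
  rw [e]
  exact pw_commutator hψ hN hm hn

variable [CharP F 2]

/-- A 2-element acting trivially on the torus modulo `U` centralises `U`. -/
theorem conj_u_eq (hψ : Function.Injective ψ) {s : M} (hs : s ∈ KK ψ) {m : ℕ} (h2 : s ^ 2 ^ m = 1) (x : F) :
    s * ψ (u x) * s⁻¹ = ψ (u x) := by
  obtain ⟨hn, -, hp, -⟩ := hs
  obtain ⟨μ, hμ⟩ := hn.uni 1
  have key : ∀ x : F, s * ψ (u x) * s⁻¹ = ψ (u (x * μ)) := by
    intro x
    by_cases hx : x = 0
    · subst hx; simp [u_zero]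
    obtain ⟨y, rfl⟩ : ∃ y : F, x = y ^ 2 := by
      obtain ⟨y, hy⟩ := Finite.injective_iff_surjective.1 (frobenius_inj F 2) x
      exact ⟨y, hy.symm⟩
    have hy : y ≠ 0 := by rintro rfl; simp at hx
    obtain ⟨a, ha⟩ := hp (Units.mk0 y hy)
    rw [pow_one] at ha
    have e1 : u (y ^ 2) = d (Units.mk0 y hy) * u 1 * (d (Units.mk0 y hy))⁻¹ := by
      rw [d_conj_u]; simp
    rw [e1, map_mul, map_mul, map_inv]
    have e2 : s * (ψ (d (Units.mk0 y hy)) * ψ (u 1) * (ψ (d (Units.mk0 y hy)))⁻¹) * s⁻¹ =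
        (s * ψ (d (Units.mk0 y hy)) * s⁻¹) * (s * ψ (u 1) * s⁻¹) * (s * ψ (d (Units.mk0 y hy)) * s⁻¹)⁻¹ := by
      group
    rw [e2, ha, hμ, ← map_mul, ← map_mul, ← map_inv, ← map_mul]
    congr 1
    have e3 : u a * d (Units.mk0 y hy) * u μ * (u a * d (Units.mk0 y hy))⁻¹ =
        u a * (d (Units.mk0 y hy) * u μ * (d (Units.mk0 y hy))⁻¹) * (u a)⁻¹ := by group
    rw [e3, d_conj_u, u_inv, u_mul, u_mul, Units.val_mk0]
    congr 1; ring
  have hpow : ∀ j : ℕ, s ^ j * ψ (u 1) * (s ^ j)⁻¹ = ψ (u (μ ^ j)) := by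
    intro j
    induction j with
    | zero => simp
    | succ j ih =>
      have e : s ^ (j + 1) * ψ (u 1) * (s ^ (j + 1))⁻¹ = s * (s ^ j * ψ (u 1) * (s ^ j)⁻¹) * s⁻¹ := by
        rw [pow_succ']; group
      rw [e, ih, key, pow_succ]
  have h1 := hpow (2 ^ m)
  rw [h2, one_mul, inv_one, mul_one] at h1
  have h3 : (1 : F) = μ ^ 2 ^ m := u_injective (hψ h1)
  have h4 : μ = 1 := by
    have h5 : (μ + 1) ^ 2 ^ m = 0 := by
      rw [add_pow_char_pow, ← h3, one_pow, CharTwo.add_self_eq_zero]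
    exact CharTwo.add_eq_zero.1 (pow_eq_zero_iff (by positivity) |>.1 h5)
  rw [key, h4, mul_one]

/-- A 2-element acting trivially on the torus modulo `U` acts on `ψ(SL(2,F))` as an element of `ψ(U)`. -/
theorem exists_centralizing (hψ : Function.Injective ψ) {s : M} (hs : s ∈ KK ψ) {m : ℕ} (h2 : s ^ 2 ^ m = 1) :
    ∃ x : F, (∀ g, ψ g * ((ψ (u x))⁻¹ * s) = ((ψ (u x))⁻¹ * s) * ψ g) ∧ ((ψ (u x))⁻¹ * s) ^ 2 ^ (m + 1) = 1 := by
  obtain ⟨σ, hσ, hsg⟩ := exists_hom hψ hs.1.all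
  obtain ⟨x, hx⟩ := exists_u_of_fix σ hσ (fun t => hψ (by rw [hsg, conj_u_eq hψ hs h2]))
  refine ⟨x, fun g => ?_, ?_⟩
  · have h1 : s * ψ g * s⁻¹ = ψ (u x) * ψ g * (ψ (u x))⁻¹ := by
      rw [← hsg, hx, map_mul, map_mul, map_inv]
    have h3 : s * ψ g = ψ (u x) * ψ g * (ψ (u x))⁻¹ * s := by
      rw [← h1]; group
    rw [mul_assoc (ψ (u x))⁻¹ s, h3]
    group
  · have hc : Commute (ψ (u x))⁻¹ s := by
      have h1 : s * ψ (u x) * s⁻¹ = ψ (u x) := conj_u_eq hψ hs h2 x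
      have h3 : s * ψ (u x) = ψ (u x) * s := by
        calc s * ψ (u x) = s * ψ (u x) * s⁻¹ * s := by group
          _ = ψ (u x) * s := by rw [h1]
      exact (Commute.inv_left (show Commute (ψ (u x)) s from h3.symm))
    rw [hc.mul_pow, pow_succ 2 m, pow_mul s, h2, one_pow, mul_one, mul_comm, pow_mul, inv_pow, ← map_pow, sq,
      u_mul_self, map_one, inv_one, one_pow]

end Act

section Module

variable {F : Type*} [Field F] [CharP F 2] {M : Type*} [Group M] (ψ : SpecialLinearGroup (Fin 2) F →* M)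
  (V : Type*) [Group V] [MulDistribMulAction M V]

/-- Fixed points of a set of matrices. -/
def Fix (T : Set (SpecialLinearGroup (Fin 2) F)) : Subgroup V where
  carrier := {e | ∀ g ∈ T, ψ g • e = e}
  mul_mem' := by
    intro a b ha hb g hg
    rw [smul_mul', ha g hg, hb g hg]
  one_mem' := fun g _ => smul_one _
  inv_mem' := by
    intro a ha g hg
    rw [smul_inv', ha g hg]

variable {V}

omit [CharP F 2] in
theorem mem_Fix {T : Set (SpecialLinearGroup (Fin 2) F)} {e : V} : e ∈ Fix ψ V T ↔ ∀ g ∈ T, ψ g • e = e := Iff.rfl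

variable (F) in
/-- upper unitriangular matrices -/
def upS : Set (SpecialLinearGroup (Fin 2) F) := Set.range u

variable (F) in
/-- lower unitriangular matrices -/
def loS : Set (SpecialLinearGroup (Fin 2) F) := Set.range v

/-- The stabiliser of an element. -/
def stab (e : V) : Subgroup (SpecialLinearGroup (Fin 2) F) where
  carrier := {g | ψ g • e = e}
  mul_mem' := by
    intro a b ha hb
    change ψ (a * b) • e = e
    rw [map_mul, mul_smul, hb, ha]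
  one_mem' := by
    change ψ 1 • e = e
    rw [map_one, one_smul]
  inv_mem' := by
    intro a ha
    change ψ a⁻¹ • e = e
    rw [map_inv, inv_smul_eq_iff]
    exact ha.symm

omit [CharP F 2] in
theorem mem_stab {e : V} {g : SpecialLinearGroup (Fin 2) F} : g ∈ stab ψ e ↔ ψ g • e = e := Iff.rfl

omit [CharP F 2] in
theorem mem_fix_univ_of_stab {e : V} (h : stab ψ e = ⊤) : e ∈ Fix ψ V Set.univ := by
  intro g _
  have : g ∈ stab ψ e := by rw [h]; trivial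
  exact this

omit [CharP F 2] in
theorem fix_inf : Fix ψ V (upS F) ⊓ Fix ψ V (loS F) = Fix ψ V Set.univ := by
  apply le_antisymm
  · rintro e ⟨h1, h2⟩
    apply mem_fix_univ_of_stab
    apply eq_top_of_uv
    · intro t; exact h1 _ ⟨t, rfl⟩
    · intro t; exact h2 _ ⟨t, rfl⟩
  · intro e he
    exact ⟨fun g _ => he g trivial, fun g _ => he g trivial⟩

theorem w_smul_mem {e : V} (he : e ∈ Fix ψ V (upS F)) : ψ (w F) • e ∈ Fix ψ V (loS F) := by
  rintro _ ⟨t, rfl⟩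
  have h1 : v t * w F = w F * u t := by
    rw [← w_v_w, ← mul_assoc, ← mul_assoc, w_mul_w, one_mul]
  rw [← mul_smul, ← map_mul, h1, map_mul, mul_smul, he _ ⟨t, rfl⟩]

theorem w_smul_mem' {e : V} (he : e ∈ Fix ψ V (loS F)) : ψ (w F) • e ∈ Fix ψ V (upS F) := by
  rintro _ ⟨t, rfl⟩
  have h1 : u t * w F = w F * v t := by
    rw [← w_u_w, ← mul_assoc, ← mul_assoc, w_mul_w, one_mul]
  rw [← mul_smul, ← map_mul, h1, map_mul, mul_smul, he _ ⟨t, rfl⟩]

theorem w_smul_w (e : V) : ψ (w F) • ψ (w F) • e = e := by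
  rw [← mul_smul, ← map_mul, w_mul_w, map_one, one_smul]

theorem card_lo : Nat.card (Fix ψ V (loS F)) = Nat.card (Fix ψ V (upS F)) := by
  refine Nat.card_congr ⟨fun e => ⟨ψ (w F) • (e : V), w_smul_mem' ψ e.2⟩, fun e => ⟨ψ (w F) • (e : V), w_smul_mem ψ e.2⟩,
    fun e => Subtype.ext (w_smul_w ψ _), fun e => Subtype.ext (w_smul_w ψ _)⟩

/-- If `e` and `v δ • e` are fixed by `U`, `δ ≠ 0`, then `e` is fixed by everything. -/
theorem mem_univ_of_conj {e : V} (he : e ∈ Fix ψ V (upS F)) {δ : F} (hδ : δ ≠ 0)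
    (h : ψ (v δ) • e ∈ Fix ψ V (upS F)) : e ∈ Fix ψ V Set.univ := by
  apply mem_fix_univ_of_stab
  have hu : ∀ x : F, u x ∈ stab ψ e := fun x => he _ ⟨x, rfl⟩
  have hc : ∀ x : F, v (-δ) * u x * v δ ∈ stab ψ e := by
    intro x
    rw [mem_stab, map_mul, map_mul, mul_smul, mul_smul, h _ ⟨x, rfl⟩, ← mul_smul, ← map_mul, v_mul,
      neg_add_cancel, v_zero, map_one, one_smul]
  set l : Fˣ := Units.mk0 δ⁻¹ (inv_ne_zero hδ) with hl
  have hn : d l * w F ∈ stab ψ e := by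
    have h1 := hc δ⁻¹
    have h2 : v (-δ) * u δ⁻¹ * v δ = d l * w F := by
      have h2 : (2 : F) = 0 := CharTwo.two_eq_zero
      rw [Cfsg.Agent.ClassTwo.Sp4SL2.ext_iff]
      simp only [mul_val_apply]
      simp [hl, hδ]
      linear_combination h2
    rwa [h2] at h1
  apply eq_top_of_uv _ hu
  intro t
  have h3 : v t = (d l * w F) * u (-((l : F) ^ 2 * t)) * (d l * w F)⁻¹ := by
    have e1 : (d l * w F) * u (-((l : F) ^ 2 * t)) * (d l * w F)⁻¹ =
        d l * (w F * u (-((l : F) ^ 2 * t)) * (w F)⁻¹) * (d l)⁻¹ := by group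
    rw [e1, w_conj_u, neg_neg, d_conj_v]
    congr 1
    rw [Units.val_inv_eq_inv_val, inv_pow, ← mul_assoc, inv_mul_cancel₀, one_mul]
    exact pow_ne_zero _ l.ne_zero
  rw [h3]
  exact mul_mem (mul_mem hn (hu _)) (inv_mem hn)

section Fin

variable [Finite F] [Finite V] (hcomm : ∀ a b : V, a * b = b * a)
  (hZ : Nat.card (Fix ψ V (upS F)) = Nat.card F * Nat.card (Fix ψ V (Set.univ)))
  (hV : Nat.card V = Nat.card F * Nat.card (Fix ψ V (upS F)))
  (hVU : ∀ (x : F) (e : V), ψ (u x) • e * e⁻¹ ∈ Fix ψ V (upS F))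

include hcomm hZ hV in
theorem up_sup_lo : Fix ψ V (upS F) ⊔ Fix ψ V (loS F) = ⊤ := by
  have hn : (Fix ψ V (upS F)).Normal := ⟨fun n hn g => by rw [hcomm g n, mul_inv_cancel_right]; exact hn⟩
  have h1 : (Fix ψ V (upS F)).relIndex (Fix ψ V (upS F) ⊔ Fix ψ V (loS F)) = Nat.card F := by
    rw [sup_comm, Subgroup.relIndex_sup_right, ← Subgroup.inf_relIndex_right, fix_inf]
    have h2 : Fix ψ V (Set.univ) ≤ Fix ψ V (loS F) := by rw [← fix_inf]; exact inf_le_right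
    have h3 := Subgroup.card_mul_index ((Fix ψ V (Set.univ)).subgroupOf (Fix ψ V (loS F)))
    rw [← Subgroup.relIndex, card_lo, hZ,
      Nat.card_congr (Subgroup.subgroupOfEquivOfLe h2).toEquiv, mul_comm] at h3
    exact Nat.eq_of_mul_eq_mul_right Nat.card_pos h3
  have h4 : Nat.card (Fix ψ V (upS F)) * Nat.card F = Nat.card (Fix ψ V (upS F) ⊔ Fix ψ V (loS F) : Subgroup V) := by
    have h3 := Subgroup.card_mul_index ((Fix ψ V (upS F)).subgroupOf (Fix ψ V (upS F) ⊔ Fix ψ V (loS F)))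
    rw [← Subgroup.relIndex, h1, Nat.card_congr (Subgroup.subgroupOfEquivOfLe le_sup_left).toEquiv] at h3
    exact h3
  apply Subgroup.eq_top_of_card_eq
  rw [← h4, hV, mul_comm]

include hcomm hZ hVU in
/-- Every element of the fixed points of `U⁻` is `[z, v y]` modulo the fixed points of everything. -/
theorem exists_beta {z : V} (hz : z ∈ Fix ψ V (upS F)) (hz' : z ∉ Fix ψ V Set.univ) {b : V}
    (hb : b ∈ Fix ψ V (loS F)) : ∃ (y : F), b⁻¹ * (ψ (v y) • z * z⁻¹) ∈ Fix ψ V Set.univ := by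
  have hlo : ∀ y : F, ψ (v y) • z * z⁻¹ ∈ Fix ψ V (loS F) := by
    intro y
    have h1 : v y = w F * u y * w F := (w_u_w y).symm
    have h2 : ψ (v y) • z * z⁻¹ = ψ (w F) • (ψ (u y) • (ψ (w F) • z) * (ψ (w F) • z)⁻¹) := by
      rw [smul_mul', smul_inv', w_smul_w, h1, map_mul, map_mul, mul_smul, mul_smul]
    rw [h2]
    exact w_smul_mem ψ (hVU _ _)
  have hle : Fix ψ V (Set.univ) ≤ Fix ψ V (loS F) := by rw [← fix_inf]; exact inf_le_right
  let C : Subgroup (Fix ψ V (loS F)) := (Fix ψ V (Set.univ)).subgroupOf (Fix ψ V (loS F))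
  let f : F → (Fix ψ V (loS F)) ⧸ C := fun y => QuotientGroup.mk ⟨ψ (v y) • z * z⁻¹, hlo y⟩
  have hinj : Function.Injective f := by
    intro y y' hyy
    by_contra hne
    apply hz'
    have h1 := QuotientGroup.eq.1 hyy
    have h2 : (ψ (v y) • z * z⁻¹)⁻¹ * (ψ (v y') • z * z⁻¹) ∈ Fix ψ V (Set.univ) := h1
    have e1 : (ψ (v y) • z * z⁻¹)⁻¹ * (ψ (v y') • z * z⁻¹) = (ψ (v y) • z)⁻¹ * (ψ (v y') • z) := by
      rw [hcomm (ψ (v y) • z) z⁻¹, hcomm (ψ (v y') • z) z⁻¹]; group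
    rw [e1] at h2
    have h3 : ψ (v (-y)) • ((ψ (v y) • z)⁻¹ * (ψ (v y') • z)) = (ψ (v y) • z)⁻¹ * (ψ (v y') • z) := h2 _ trivial
    have h4 : ψ (v (y' - y)) • z = z * ((ψ (v y) • z)⁻¹ * (ψ (v y') • z)) := by
      rw [← h3, smul_mul', smul_inv', ← mul_smul, ← mul_smul, ← map_mul, ← map_mul, v_mul, v_mul, neg_add_cancel,
        v_zero, map_one, one_smul, mul_inv_cancel_left]
      congr 3; ring
    refine mem_univ_of_conj ψ hz (sub_ne_zero.2 (Ne.symm hne)) ?_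
    rw [h4]
    have hle' : Fix ψ V (Set.univ) ≤ Fix ψ V (upS F) := by rw [← fix_inf]; exact inf_le_left
    exact mul_mem hz (hle' h2)
  have hcard : Nat.card ((Fix ψ V (loS F)) ⧸ C) = Nat.card F := by
    have h3 := Subgroup.card_mul_index C
    rw [card_lo, hZ, Nat.card_congr (Subgroup.subgroupOfEquivOfLe hle).toEquiv, mul_comm] at h3
    exact Nat.eq_of_mul_eq_mul_right Nat.card_pos h3
  have hbij : Function.Bijective f := by
    rw [Nat.bijective_iff_injective_and_card]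
    exact ⟨hinj, hcard.symm⟩
  obtain ⟨y, hy⟩ := hbij.2 (QuotientGroup.mk ⟨b, hb⟩)
  refine ⟨y, ?_⟩
  have h1 := QuotientGroup.eq.1 hy.symm
  exact h1

/-- `{e | t • e * e⁻¹ ∈ C}`. -/
def WW (hcomm : ∀ a b : V, a * b = b * a) (t : M) : Subgroup V where
  carrier := {e | t • e * e⁻¹ ∈ Fix ψ V Set.univ}
  mul_mem' := by
    intro a b ha hb
    have e1 : t • (a * b) * (a * b)⁻¹ = (t • a * a⁻¹) * (t • b * b⁻¹) := by
      rw [smul_mul', _root_.mul_inv_rev, hcomm (t • b) b⁻¹]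
      calc t • a * t • b * (b⁻¹ * a⁻¹) = t • a * (t • b * b⁻¹) * a⁻¹ := by group
        _ = t • a * (a⁻¹ * (t • b * b⁻¹)) := by rw [hcomm a⁻¹, mul_assoc]
        _ = t • a * a⁻¹ * (b⁻¹ * t • b) := by rw [hcomm b⁻¹, mul_assoc]
    change t • (a * b) * (a * b)⁻¹ ∈ Fix ψ V Set.univ
    rw [e1]
    exact mul_mem ha hb
  one_mem' := by
    change t • (1 : V) * 1⁻¹ ∈ Fix ψ V Set.univ
    rw [smul_one, inv_one, mul_one]
    exact one_mem _
  inv_mem' := by
    intro a ha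
    change t • a⁻¹ * a⁻¹⁻¹ ∈ Fix ψ V Set.univ
    have e1 : t • a⁻¹ * a⁻¹⁻¹ = (t • a * a⁻¹)⁻¹ := by
      rw [smul_inv', _root_.mul_inv_rev, hcomm]
    rw [e1]
    exact inv_mem ha

include hcomm hZ hV hVU in
/-- A 2-element commuting with `SL(2,F)` acts trivially modulo the fixed points. -/
theorem trivial_mod (he2 : ∀ e : V, e * e = 1) {t : M} (ht : ∀ g, ψ g * t = t * ψ g) {m : ℕ} (h2 : t ^ 2 ^ m = 1)
    (e : V) : t • e * e⁻¹ ∈ Fix ψ V Set.univ := by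
  classical
  have hC : ∀ c ∈ Fix ψ V (Set.univ), t • c ∈ Fix ψ V Set.univ := by
    intro c hc g _
    rw [← mul_smul, ht, mul_smul, hc g trivial]
  have hZt : ∀ c ∈ Fix ψ V (upS F), t • c ∈ Fix ψ V (upS F) := by
    intro c hc g hg
    rw [← mul_smul, ht, mul_smul, hc g hg]
  have hCW : Fix ψ V (Set.univ) ≤ WW ψ hcomm t := fun c hc => mul_mem (hC c hc) (inv_mem hc)
  have hWg : ∀ g, ∀ c ∈ WW ψ hcomm t, ψ g • c ∈ WW ψ hcomm t := by
    intro g c hc
    change t • ψ g • c * (ψ g • c)⁻¹ ∈ Fix ψ V Set.univ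
    have e1 : t • ψ g • c * (ψ g • c)⁻¹ = ψ g • (t • c * c⁻¹) := by
      rw [smul_mul', smul_inv', ← mul_smul, ← ht, mul_smul]
    rw [e1, hc g trivial]
    exact hc
  -- an element of `Z` outside `C`
  have hCZ : Fix ψ V (Set.univ) ≤ Fix ψ V (upS F) := by rw [← fix_inf]; exact inf_le_left
  obtain ⟨z, hz, hz'⟩ : ∃ z ∈ Fix ψ V (upS F), z ∉ Fix ψ V (Set.univ : Set (SpecialLinearGroup (Fin 2) F)) := by
    by_contra hcon
    push Not at hcon
    have h1 : Fix ψ V (upS F) = Fix ψ V Set.univ := le_antisymm hcon hCZ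
    rw [h1] at hZ
    have h3 : 1 < Nat.card F := Finite.one_lt_card
    have h4 : 0 < Nat.card (Fix ψ V (Set.univ)) := Nat.card_pos
    nlinarith
  -- iterate `e ↦ t • e * e`
  let f : V → V := fun e => t • e * e
  have hf : ∀ k : ℕ, ∀ e, f^[2 ^ k] e = t ^ 2 ^ k • e * e := by
    intro k
    induction k with
    | zero => intro e; simp [f]
    | succ k ih =>
      intro e
      have e1 : (2 : ℕ) ^ (k + 1) = 2 ^ k + 2 ^ k := by ring
      rw [e1, Function.iterate_add_apply, ih, ih, smul_mul', ← mul_smul, ← pow_add]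
      calc t ^ (2 ^ k + 2 ^ k) • e * t ^ 2 ^ k • e * (t ^ 2 ^ k • e * e)
          = t ^ (2 ^ k + 2 ^ k) • e * (t ^ 2 ^ k • e * t ^ 2 ^ k • e) * e := by group
        _ = t ^ (2 ^ k + 2 ^ k) • e * e := by rw [he2, mul_one]
  have hfZ : ∀ k : ℕ, f^[k] z ∈ Fix ψ V (upS F) := by
    intro k
    induction k with
    | zero => exact hz
    | succ k ih =>
      rw [Function.iterate_succ_apply']
      exact mul_mem (hZt _ ih) ih
  have hex : ∃ k : ℕ, f^[k] z ∈ Fix ψ V (Set.univ : Set (SpecialLinearGroup (Fin 2) F)) := by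
    refine ⟨2 ^ m, ?_⟩
    rw [hf, h2, one_smul, he2]
    exact one_mem _
  obtain ⟨z', hz1, hz2, hz3⟩ : ∃ z' ∈ Fix ψ V (upS F),
      z' ∉ Fix ψ V (Set.univ : Set (SpecialLinearGroup (Fin 2) F)) ∧ z' ∈ WW ψ hcomm t := by
    have hk := Nat.find_spec hex
    have hmin := fun j => Nat.find_min (H := hex) (m := j)
    obtain ⟨j, hj⟩ : ∃ j, Nat.find hex = j + 1 := by
      cases hcase : Nat.find hex with
      | zero => rw [hcase] at hk; exact absurd hk hz'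
      | succ j => exact ⟨j, rfl⟩
    rw [hj] at hk
    refine ⟨f^[j] z, hfZ j, hmin j (by omega), ?_⟩
    rw [Function.iterate_succ_apply'] at hk
    change t • f^[j] z * (f^[j] z)⁻¹ ∈ Fix ψ V Set.univ
    have e1 : (f^[j] z)⁻¹ = f^[j] z := by
      rw [inv_eq_iff_mul_eq_one]; exact he2 _
    rw [e1]
    exact hk
  have hlo : Fix ψ V (loS F) ≤ WW ψ hcomm t := by
    intro b hb
    obtain ⟨y, hy⟩ := exists_beta ψ hcomm hZ hVU hz1 hz2 hb
    have h1 : ψ (v y) • z' * z'⁻¹ ∈ WW ψ hcomm t := mul_mem (hWg _ _ hz3) (inv_mem hz3)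
    have h2 := mul_mem h1 (inv_mem (hCW hy))
    have e1 : ψ (v y) • z' * z'⁻¹ * (b⁻¹ * (ψ (v y) • z' * z'⁻¹))⁻¹ = b := by group
    rwa [e1] at h2
  have hup : Fix ψ V (upS F) ≤ WW ψ hcomm t := by
    intro b hb
    have h1 := hWg (w F) _ (hlo (w_smul_mem ψ hb))
    rwa [w_smul_w] at h1
  have htop : WW ψ hcomm t = ⊤ := by
    rw [eq_top_iff, ← up_sup_lo ψ hcomm hZ hV]
    exact sup_le hup hlo
  have : e ∈ WW ψ hcomm t := by rw [htop]; trivial
  exact this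

include hcomm hZ hV in
/-- An element commuting with `SL(2,F)` and centralising the fixed points of `U` is trivial. -/
theorem smul_eq_of_fix {t : M} (ht : ∀ g, ψ g * t = t * ψ g) (h : ∀ z ∈ Fix ψ V (upS F), t • z = z) (e : V) :
    t • e = e := by
  have h1 : e ∈ Fix ψ V (upS F) ⊔ Fix ψ V (loS F) := by
    rw [up_sup_lo ψ hcomm hZ hV]; trivial
  have h2 : ∀ b ∈ Fix ψ V (loS F), t • b = b := by
    intro b hb
    have h3 := h _ (w_smul_mem' ψ hb)
    rw [← mul_smul, ← ht, mul_smul] at h3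
    have h4 := congrArg (fun c => ψ (w F) • c) h3
    simpa only [w_smul_w] using h4
  refine Subgroup.closure_induction (p := fun e _ => t • e = e) ?_ (smul_one _) ?_ ?_
    (by rwa [Subgroup.sup_eq_closure] at h1)
  · rintro x (hx | hx)
    · exact h x hx
    · exact h2 x hx
  · intro x y _ _ hx hy
    rw [smul_mul', hx, hy]
  · intro x _ hx
    rw [smul_inv', hx]

include hcomm hZ hV hVU in
/-- **Main result.** -/
theorem main (hψ : Function.Injective ψ) (he2 : ∀ e : V, e * e = 1) {N : Subgroup M} (hN : ∀ n ∈ N, Norm ψ n) {s : M}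
    (hs : s ∈ UU ψ ⊔ ⁅N, N⁆) {m : ℕ} (h2 : s ^ 2 ^ m = 1) :
    (∀ a, s * ψ (u a) * s⁻¹ = ψ (u a)) ∧
    (∀ z ∈ Fix ψ V (upS F), s • z * z⁻¹ ∈ Fix ψ V Set.univ) ∧
      ((∀ z ∈ Fix ψ V (upS F), s • z = z) → ∃ x : F, ∀ e : V, s • e = ψ (u x) • e) := by
  have hsK : s ∈ KK ψ := sup_commutator_le hψ hN hs
  obtain ⟨x, hx1, hx2⟩ := exists_centralizing hψ hsK h2
  have hst : ∀ e : V, s • e = ψ (u x) • ((ψ (u x))⁻¹ * s) • e := by
    intro e
    rw [← mul_smul, mul_inv_cancel_left]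
  refine ⟨conj_u_eq hψ hsK h2, fun z hz => ?_, fun h => ⟨x, fun e => ?_⟩⟩
  · have h1 := trivial_mod ψ hcomm hZ hV hVU he2 hx1 hx2 z
    have h3 : ((ψ (u x))⁻¹ * s) • z = (((ψ (u x))⁻¹ * s) • z * z⁻¹) * z := by group
    rw [hst, h3, smul_mul', h1 _ trivial, hz _ ⟨x, rfl⟩]
    have e1 : ((ψ (u x))⁻¹ * s) • z * z⁻¹ * z * z⁻¹ = ((ψ (u x))⁻¹ * s) • z * z⁻¹ := by group
    rw [e1]
    exact h1
  · rw [hst, smul_eq_of_fix ψ hcomm hZ hV hx1 ?_ e]
    intro z hz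
    rw [mul_smul, h z hz, inv_smul_eq_iff]
    exact (hz _ ⟨x, rfl⟩).symm

end Fin

end Module

end Cfsg.Agent.ClassTwoFusion.SLTwoFix
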