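import Cfsg.Agent.ClassTwoFusion.OneEdge
import Cfsg.Agent.ClassTwoFusion.ModA
import Cfsg.Agent.ClassTwoFusion.SLTwoFix
import Cfsg.Agent.Lib.AutSL2

/-!
# `S = A * C_S(A)`

`A = fam 𝒜 S` is a strongly closed subgroup with one edge (`OneEdge`).  The Sylow subgroup `S` induces inner
automorphisms on `A`.
-/

set_option autoImplicit false

namespace Cfsg.Agent.ClassTwoFusion.CentA

open Subgroup
open Cfsg.Agent.TwoFusion.ClosedFam
open Cfsg.Agent.ClassTwoFusion.RelAlperin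
open Cfsg.Agent.ClassTwoFusion.OneEdge
open Cfsg.Agent.ClassTwo.Sp4Defs
open scoped Pointwise

/-- A field whose order divides a power of two has characteristic two. -/
theorem charP_two {F : Type*} [Field F] {k n : ℕ} (h : Nat.card F * k = 2 ^ n) : CharP F 2 := by
  have hpos : Nat.card F ≠ 0 := by
    intro h0
    rw [h0, zero_mul] at h
    exact absurd h.symm (by positivity)
  have hfin : Finite F := Nat.finite_of_card_ne_zero hpos
  have := Fintype.ofFinite F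
  obtain ⟨p, hp⟩ := CharP.exists F
  obtain ⟨m, hp1, hm⟩ := FiniteField.card F p
  have h1 : p ∣ 2 ^ n := by
    rw [← h, Nat.card_eq_fintype_card, hm]
    exact Dvd.dvd.mul_right (dvd_pow_self p m.ne_zero) _
  have h2 : p = 2 := (Nat.prime_dvd_prime_iff_eq hp1 Nat.prime_two).1 (hp1.dvd_of_dvd_pow h1)
  rwa [h2] at hp

/-- A 2-subgroup of order `|F|` of `SL(2,F)` is conjugate to the group of upper unitriangular matrices. -/
theorem exists_conj_up {F : Type*} [Field F] [Finite F] [CharP F 2]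
    (P : Subgroup (Matrix.SpecialLinearGroup (Fin 2) F)) (hP : IsPGroup 2 P) (hc : Nat.card P = Nat.card F) :
    ∃ g : Matrix.SpecialLinearGroup (Fin 2) F, (∀ y ∈ P, ∃ x : F, g * y * g⁻¹ = u x) ∧
      ∀ x : F, ∃ y ∈ P, g * y * g⁻¹ = u x := by
  obtain ⟨Q, hQ⟩ := hP.exists_le_sylow
  obtain ⟨g, hg⟩ := MulAction.exists_smul_eq (Matrix.SpecialLinearGroup (Fin 2) F) Q
    (Cfsg.Agent.Lib.AutSL2.sylU F 2)
  have h1 : ∀ y ∈ P, ∃ x : F, g * y * g⁻¹ = u x := by
    intro y hy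
    have h2 : g * y * g⁻¹ ∈ g • Q := by
      rw [Cfsg.Agent.Lib.AutSL2.mem_smul_sylow]
      have e : g⁻¹ * (g * y * g⁻¹) * g = y := by group
      rw [e]
      exact hQ hy
    rw [hg] at h2
    obtain ⟨x, hx⟩ := h2
    exact ⟨x, hx.symm⟩
  refine ⟨g, h1, ?_⟩
  choose! f hf using h1
  have hinj : Function.Injective (fun y : P => f y) := by
    intro y y' hyy
    have h2 := hf y y.2
    have h3 := hf y' y'.2
    have h4 : f y = f y' := hyy
    rw [h4, ← h3] at h2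
    exact Subtype.ext (by simpa using h2)
  have hbij : Function.Bijective (fun y : P => f y) := by
    rw [Nat.bijective_iff_injective_and_card]
    exact ⟨hinj, hc⟩
  intro x
  obtain ⟨y, hy⟩ := hbij.2 x
  exact ⟨y, y.2, by rw [hf y y.2]; exact congrArg u hy⟩

variable {G : Type*} [Group G]

/-- The action of an element of `N_G(E)` on `E`. -/
theorem smul_eq {E : Subgroup G} {x : G} (hx : x ∈ normalizer (E : Set G)) (e : ↥E) :
    ((E.normalizerMonoidHom ⟨x, hx⟩ • e : ↥E) : G) = x * e * x⁻¹ := rfl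

/-- One side of an edge. -/
structure Side (F : Type*) [Field F] (𝒜 : Set G) (A E : Subgroup G) where
  le : E ≤ A
  norm : A ≤ normalizer (E : Set G)
  sub : ∀ x ∈ A, x ∈ 𝒜
  two : IsPGroup 2 A
  sq : ∀ x ∈ E, x * x = 1
  cent : centralizer (E : Set G) ⊓ A ≤ E
  comm : ∀ a ∈ A, ∀ e ∈ E, a * e * a⁻¹ * e⁻¹ ∈ centralizer (A : Set G)
  φ : ↥(XG 𝒜 E) →* Matrix.SpecialLinearGroup (Fin 2) F
  surj : Function.Surjective φ
  ker : ∀ x, φ x = 1 ↔ (x : G) ∈ centralizer (E : Set G)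
  cardA : Nat.card ↥A = Nat.card F * Nat.card ↥E
  cardE : Nat.card ↥E = Nat.card F * Nat.card ↥(E ⊓ centralizer (A : Set G))
  cardZ : Nat.card F * Nat.card ↥(E ⊓ centralizer (XG 𝒜 E : Set G)) = Nat.card ↥(E ⊓ centralizer (A : Set G))

namespace Side

variable {F : Type*} [Field F] {𝒜 : Set G} {A E : Subgroup G} (D : Side F 𝒜 A E)
include D

theorem le_XG : A ≤ XG 𝒜 E := fun x hx => mem_fam (D.sub x hx) (D.norm hx)

variable [Finite G]

theorem exists_card : ∃ n : ℕ, Nat.card F * Nat.card ↥E = 2 ^ n := by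
  obtain ⟨n, hn⟩ := (IsPGroup.iff_card (p := 2) (G := A)).1 D.two
  exact ⟨n, by rw [← D.cardA, hn]⟩

theorem charP : CharP F 2 := by
  obtain ⟨n, hn⟩ := D.exists_card
  exact charP_two hn

theorem finite : Finite F := by
  obtain ⟨n, hn⟩ := D.exists_card
  apply Nat.finite_of_card_ne_zero
  intro h0
  rw [h0, zero_mul] at hn
  exact absurd hn.symm (by positivity)

/-- The homomorphism may be chosen so that `A` is mapped onto the upper unitriangular matrices. -/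
theorem exists_hom : ∃ φ : ↥(XG 𝒜 E) →* Matrix.SpecialLinearGroup (Fin 2) F, Function.Surjective φ ∧
    (∀ x, φ x = 1 ↔ (x : G) ∈ centralizer (E : Set G)) ∧
    (∀ x : ↥(XG 𝒜 E), (x : G) ∈ A → ∃ a : F, φ x = u a) ∧
    (∀ a : F, ∃ x : ↥(XG 𝒜 E), (x : G) ∈ A ∧ φ x = u a) := by
  have := D.charP
  have := D.finite
  set P : Subgroup (Matrix.SpecialLinearGroup (Fin 2) F) := (A.subgroupOf (XG 𝒜 E)).map D.φ with hPdef
  have hP2 : IsPGroup 2 P := by
    apply IsPGroup.map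
    exact D.two.of_injective (subgroupOfEquivOfLe D.le_XG).toMonoidHom (subgroupOfEquivOfLe D.le_XG).injective
  have hPc : Nat.card P = Nat.card F := by
    let f : ↥A →* Matrix.SpecialLinearGroup (Fin 2) F := D.φ.comp (inclusion D.le_XG)
    have h1 : f.range = P := by
      ext y
      constructor
      · rintro ⟨x, rfl⟩
        exact ⟨inclusion D.le_XG x, x.2, rfl⟩
      · rintro ⟨x, hx, rfl⟩
        exact ⟨⟨x, hx⟩, rfl⟩
    have h2 : f.ker = E.subgroupOf A := by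
      ext x
      rw [MonoidHom.mem_ker, mem_subgroupOf]
      constructor
      · intro hx
        exact D.cent ⟨(D.ker _).1 hx, x.2⟩
      · intro hx
        refine (D.ker _).2 ?_
        rw [mem_centralizer_iff]
        intro y hy
        have hxy := D.sq _ (mul_mem hx hy)
        have hx2 := D.sq _ hx
        have hy2 := D.sq _ hy
        change y * (x : G) = (x : G) * y
        calc y * (x : G) = (x : G) * ((x : G) * y * ((x : G) * y)) * y := by
              rw [show (x : G) * ((x : G) * y * ((x : G) * y)) * y = ((x : G) * x) * y * (x : G) * (y * y) by group,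
                hx2, hy2, one_mul, mul_one]
          _ = (x : G) * y := by rw [hxy, mul_one]
    have h3 := Subgroup.card_mul_index f.ker
    rw [Subgroup.index_ker, h1, h2, Nat.card_congr (subgroupOfEquivOfLe D.le).toEquiv, D.cardA, mul_comm] at h3
    exact Nat.eq_of_mul_eq_mul_right Nat.card_pos h3
  obtain ⟨g, hg1, hg2⟩ := exists_conj_up P hP2 hPc
  refine ⟨(MulAut.conj g).toMonoidHom.comp D.φ, ?_, ?_, ?_, ?_⟩
  · exact (MulAut.conj g).surjective.comp D.surj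
  · intro x
    rw [← D.ker x]
    simp
  · intro x hx
    obtain ⟨a, ha⟩ := hg1 (D.φ x) ⟨x, hx, rfl⟩
    exact ⟨a, by simpa using ha⟩
  · intro a
    obtain ⟨y, ⟨x, hx, rfl⟩, hy⟩ := hg2 a
    exact ⟨x, hx, by simpa using hy⟩

/-- The image of `SL(2,F)` in `Aut(E)`. -/
theorem exists_psi : ∃ ψ : Matrix.SpecialLinearGroup (Fin 2) F →* MulAut ↥E, Function.Injective ψ ∧
    (∀ x (hx : x ∈ normalizer (E : Set G)), x ∈ XG 𝒜 E → ∃ g, ψ g = E.normalizerMonoidHom ⟨x, hx⟩) ∧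
    (∀ g, ∃ x, ∃ hx : x ∈ normalizer (E : Set G), x ∈ XG 𝒜 E ∧ ψ g = E.normalizerMonoidHom ⟨x, hx⟩) ∧
    (∀ x (hx : x ∈ normalizer (E : Set G)), x ∈ A → ∃ a : F, ψ (u a) = E.normalizerMonoidHom ⟨x, hx⟩) ∧
    (∀ a : F, ∃ x, ∃ hx : x ∈ normalizer (E : Set G), x ∈ A ∧ ψ (u a) = E.normalizerMonoidHom ⟨x, hx⟩) := by
  obtain ⟨φ, hsurj, hker, hup, hup'⟩ := D.exists_hom
  let ρ : ↥(XG 𝒜 E) →* MulAut ↥E := E.normalizerMonoidHom.comp (inclusion (fam_le 𝒜 _))
  have hρ : ∀ x : ↥(XG 𝒜 E), ρ x = E.normalizerMonoidHom ⟨x, fam_le 𝒜 _ x.2⟩ := fun x => rfl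
  have hρk : ∀ x : ↥(XG 𝒜 E), ρ x = 1 ↔ (x : G) ∈ centralizer (E : Set G) := by
    intro x
    rw [hρ, ← MonoidHom.mem_ker, normalizerMonoidHom_ker, mem_subgroupOf]
  have hkk : φ.ker ≤ ρ.ker := by
    intro x hx
    rw [MonoidHom.mem_ker] at hx ⊢
    exact (hρk x).2 ((hker x).1 hx)
  let ψ : Matrix.SpecialLinearGroup (Fin 2) F →* MulAut ↥E :=
    φ.liftOfRightInverse (Function.surjInv hsurj) (Function.rightInverse_surjInv hsurj) ⟨ρ, hkk⟩
  have hψ : ∀ x, ψ (φ x) = ρ x := fun x => φ.liftOfRightInverse_comp_apply _ _ ⟨ρ, hkk⟩ x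
  refine ⟨ψ, ?_, ?_, ?_, ?_, ?_⟩
  · rw [injective_iff_map_eq_one]
    intro g hg
    obtain ⟨x, rfl⟩ := hsurj g
    rw [hψ] at hg
    exact (hker x).2 ((hρk x).1 hg)
  · intro x hx hxX
    exact ⟨φ ⟨x, hxX⟩, by rw [hψ, hρ]⟩
  · intro g
    obtain ⟨x, rfl⟩ := hsurj g
    exact ⟨x, fam_le 𝒜 _ x.2, x.2, by rw [hψ, hρ]⟩
  · intro x hx hxA
    obtain ⟨a, ha⟩ := hup ⟨x, D.le_XG hxA⟩ hxA
    exact ⟨a, by rw [← ha, hψ, hρ]⟩
  · intro a
    obtain ⟨x, hx, hxa⟩ := hup' a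
    exact ⟨x, fam_le 𝒜 _ x.2, hx, by rw [← hxa, hψ, hρ]⟩

open Cfsg.Agent.ClassTwoFusion.SLTwoFix in
/-- **The action of `S` on one side.** -/
theorem main (h : IsClosedFam 𝒜) (hN : normalizer (A : Set G) ≤ normalizer (E : Set G)) {s : G}
    (hs : s ∈ A ⊔ ⁅normalizer (A : Set G), normalizer (A : Set G)⁆) {m : ℕ} (h2 : s ^ 2 ^ m = 1) :
    (∀ z ∈ E ⊓ centralizer (A : Set G), s * z * s⁻¹ * z⁻¹ ∈ E ⊓ centralizer (XG 𝒜 E : Set G)) ∧
      ((∀ z ∈ E ⊓ centralizer (A : Set G), s * z = z * s) → ∃ a ∈ A, ∀ e ∈ E, s * e * s⁻¹ = a * e * a⁻¹) := by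
  have := D.charP
  have := D.finite
  obtain ⟨ψ, hinj, hX, hX', hA, hA'⟩ := D.exists_psi
  have hcomm : ∀ a b : ↥E, a * b = b * a := by
    intro a b
    have h1 := D.sq _ a.2
    have h2 := D.sq _ b.2
    have h3 := D.sq _ (mul_mem a.2 b.2)
    apply Subtype.ext
    change (a : G) * b = b * a
    calc (a : G) * b = (a : G) * b * 1 := (mul_one _).symm
      _ = a * b * (((a : G) * b) * (a * b))⁻¹ := by rw [h3, inv_one]
      _ = ((a : G) * b)⁻¹ := by group
      _ = (b : G)⁻¹ * (a : G)⁻¹ := by group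
      _ = b * a := by rw [inv_eq_of_mul_eq_one_left h1, inv_eq_of_mul_eq_one_left h2]
  have he2 : ∀ e : ↥E, e * e = 1 := fun e => Subtype.ext (D.sq _ e.2)
  -- fixed points
  have hFup : ∀ e : ↥E, e ∈ Fix ψ ↥E (upS F) ↔ (e : G) ∈ centralizer (A : Set G) := by
    intro e
    rw [mem_centralizer_iff]
    constructor
    · intro he a ha
      obtain ⟨b, hb⟩ := hA a (D.norm ha) ha
      have h1 := he (u b) ⟨b, rfl⟩
      rw [hb] at h1
      have h3 := congrArg (fun x : ↥E => (x : G)) h1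
      simp only [smul_eq] at h3
      rw [mul_inv_eq_iff_eq_mul] at h3
      exact h3
    · rintro he _ ⟨b, rfl⟩
      obtain ⟨a, ha, haA, hab⟩ := hA' b
      rw [hab]
      apply Subtype.ext
      rw [smul_eq, mul_inv_eq_iff_eq_mul]
      exact he a haA
  have hFall : ∀ e : ↥E, e ∈ Fix ψ ↥E Set.univ ↔ (e : G) ∈ centralizer (XG 𝒜 E : Set G) := by
    intro e
    rw [mem_centralizer_iff]
    constructor
    · intro he a ha
      obtain ⟨b, hb⟩ := hX a (fam_le 𝒜 _ ha) ha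
      have h1 := he b trivial
      rw [hb] at h1
      have h3 := congrArg (fun x : ↥E => (x : G)) h1
      simp only [smul_eq] at h3
      rw [mul_inv_eq_iff_eq_mul] at h3
      exact h3
    · rintro he g -
      obtain ⟨a, ha, haA, hab⟩ := hX' g
      rw [hab]
      apply Subtype.ext
      rw [smul_eq, mul_inv_eq_iff_eq_mul]
      exact he a haA
  have hcard : ∀ (H : Subgroup ↥E) (K : Subgroup G), (∀ e : ↥E, e ∈ H ↔ (e : G) ∈ K) →
      Nat.card H = Nat.card ↥(E ⊓ K) := by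
    intro H K hHK
    refine Nat.card_congr ⟨fun e => ⟨e, e.1.2, (hHK e).1 e.2⟩, fun e => ⟨⟨e, e.2.1⟩, (hHK _).2 e.2.2⟩, fun e => rfl,
      fun e => rfl⟩
  have hZ : Nat.card (Fix ψ ↥E (upS F)) = Nat.card F * Nat.card (Fix ψ ↥E (Set.univ)) := by
    rw [hcard _ _ hFup, hcard _ _ hFall, D.cardZ]
  have hV : Nat.card ↥E = Nat.card F * Nat.card (Fix ψ ↥E (upS F)) := by
    rw [hcard _ _ hFup, ← D.cardE]
  have hVU : ∀ (x : F) (e : ↥E), ψ (u x) • e * e⁻¹ ∈ Fix ψ ↥E (upS F) := by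
    intro x e
    obtain ⟨a, ha, haA, hab⟩ := hA' x
    rw [hFup, hab]
    exact D.comm a haA e e.2
  -- the normaliser
  let N : Subgroup (MulAut ↥E) := ((normalizer (A : Set G)).subgroupOf (normalizer (E : Set G))).map E.normalizerMonoidHom
  have hNn : ∀ n ∈ N, Norm ψ n := by
    rintro _ ⟨⟨k, hkE⟩, hkA, rfl⟩
    have hkA' : k ∈ normalizer (A : Set G) := hkA
    constructor
    · intro g
      obtain ⟨x, hx, hxX, hxg⟩ := hX' g
      have h1 : k * x * k⁻¹ ∈ XG 𝒜 E := h.conj_mem_fam (fun y hy => by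
        exact mul_mem (mul_mem hkE hy) (inv_mem hkE)) hxX
      obtain ⟨g', hg'⟩ := hX _ (fam_le 𝒜 _ h1) h1
      refine ⟨g', ?_⟩
      rw [hg', hxg, ← map_inv, ← map_mul, ← map_mul]
      rfl
    · intro a
      obtain ⟨x, hx, hxX, hxg⟩ := hA' a
      have h1 : k * x * k⁻¹ ∈ A := (mem_normalizer_iff.1 hkA' x).1 hxX
      obtain ⟨g', hg'⟩ := hA _ (D.norm h1) h1
      refine ⟨g', ?_⟩
      rw [hg', hxg, ← map_inv, ← map_mul, ← map_mul]
      rfl
  -- the element `s`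
  let K : Subgroup G := ((UU ψ ⊔ ⁅N, N⁆).comap E.normalizerMonoidHom).map (normalizer (E : Set G)).subtype
  have hsK : s ∈ K := by
    have h1 : A ⊔ ⁅normalizer (A : Set G), normalizer (A : Set G)⁆ ≤ K := by
      refine sup_le ?_ ?_
      · intro a ha
        obtain ⟨b, hb⟩ := hA a (D.norm ha) ha
        refine ⟨⟨a, D.norm ha⟩, ?_, rfl⟩
        rw [SetLike.mem_coe, mem_comap, ← hb]
        exact mem_sup_left (u_mem ψ b)
      · rw [commutator_le]
        intro n hn k hk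
        refine ⟨(⟨n, hN hn⟩ : ↥(normalizer (E : Set G))) * ⟨k, hN hk⟩ * (⟨n, hN hn⟩ : ↥(normalizer (E : Set G)))⁻¹ *
          (⟨k, hN hk⟩ : ↥(normalizer (E : Set G)))⁻¹, ?_, rfl⟩
        rw [SetLike.mem_coe, mem_comap, map_mul, map_mul, map_mul, map_inv, map_inv]
        refine mem_sup_right ?_
        have h2 : E.normalizerMonoidHom ⟨n, hN hn⟩ ∈ N := ⟨_, hn, rfl⟩
        have h3 : E.normalizerMonoidHom ⟨k, hN hk⟩ ∈ N := ⟨_, hk, rfl⟩
        have h4 := commutator_mem_commutator h2 h3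
        rwa [commutatorElement_def] at h4
    exact h1 hs
  obtain ⟨⟨s', hsE⟩, hs1, hs2⟩ := hsK
  obtain rfl : s' = s := hs2
  have hs2' : (E.normalizerMonoidHom ⟨s', hsE⟩) ^ 2 ^ m = 1 := by
    rw [← map_pow]
    have : (⟨s', hsE⟩ : ↥(normalizer (E : Set G))) ^ 2 ^ m = 1 := Subtype.ext h2
    rw [this, map_one]
  obtain ⟨-, hm1, hm2⟩ := SLTwoFix.main ψ hcomm hZ hV hVU hinj he2 hNn hs1 hs2'
  constructor
  · rintro z ⟨hzE, hzA⟩
    have h1 := hm1 ⟨z, hzE⟩ ((hFup _).2 hzA)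
    refine ⟨?_, (hFall _).1 h1⟩
    exact E.mul_mem ((mem_normalizer_iff.1 hsE z).1 hzE) (E.inv_mem hzE)
  · intro hz
    obtain ⟨x, hx⟩ := hm2 (by
      intro z hzup
      apply Subtype.ext
      rw [smul_eq, mul_inv_eq_iff_eq_mul]
      exact hz z ⟨z.2, (hFup z).1 hzup⟩)
    obtain ⟨a, ha, haA, hax⟩ := hA' x
    refine ⟨a, haA, fun e he => ?_⟩
    have h1 := hx ⟨e, he⟩
    rw [hax] at h1
    exact congrArg (fun x : ↥E => (x : G)) h1

end Side

end Cfsg.Agent.ClassTwoFusion.CentA
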