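import Cfsg.Agent.ClassTwoFusion.CentA
import Cfsg.Agent.Lib.ProductSet

/-!
# `S = A * C_S(A)`: the main theorem
-/

set_option autoImplicit false

namespace Cfsg.Agent.ClassTwoFusion.CentAMain

open Subgroup
open Cfsg.Agent.Lib.GoldschmidtFusion
open Cfsg.Agent.TwoFusion.ClosedFam
open Cfsg.Agent.ClassTwoFusion.RelAlperin
open Cfsg.Agent.ClassTwoFusion.OneEdge
open Cfsg.Agent.ClassTwoFusion.CentA
open scoped Pointwise

variable {G : Type*} [Group G]

theorem map_star_le {A X : Subgroup G} {n : G} (hn : n ∈ normalizer (A : Set G)) :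
    (RelAlperin.star A X).map (MulAut.conj n).toMonoidHom ≤
      RelAlperin.star A (X.map (MulAut.conj n).toMonoidHom) := by
  have hA : A.map (MulAut.conj n).toMonoidHom = A := mem_normalizer_iff_map_conj.1 hn
  rw [Subgroup.map_le_iff_le_comap]
  unfold RelAlperin.star
  rw [closure_le]
  rintro x (hx | ⟨hx, Q, hXQ, hQ, hQx⟩)
  · refine centralizer_le_star A _ ?_
    have hx' : x ∈ centralizer (X : Set G) := hx
    have e : n⁻¹ * ((MulAut.conj n) x) * n = x := by rw [MulAut.conj_apply]; group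
    change (MulAut.conj n) x ∈ centralizer ((X.map (MulAut.conj n).toMonoidHom : Subgroup G) : Set G)
    rw [mem_centralizer_map_conj, e]
    exact hx'
  · change (MulAut.conj n) x ∈ RelAlperin.star A (X.map (MulAut.conj n).toMonoidHom)
    rw [MulAut.conj_apply]
    refine mem_star (Q := Q.map (MulAut.conj n).toMonoidHom) ?_ ?_ ?_ ?_
    · rw [← map_conj_normalizer]
      exact conj_mem_map_conj hx n
    · refine lt_of_le_of_ne (map_conj_mono hXQ.le n) fun h => hXQ.ne ?_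
      exact Subgroup.map_injective (MulAut.conj n).injective h
    · have := map_conj_mono hQ n
      rwa [hA] at this
    · rw [map_conj_map_conj]
      have e : n * x * n⁻¹ * n = n * x := by group
      rw [e, ← map_conj_map_conj]
      have := map_conj_mono hQx n
      rwa [hA] at this

theorem isEss_conj {𝒜 : Set G} (h : IsClosedFam 𝒜) {A X : Subgroup G} {n : G} (hn : n ∈ normalizer (A : Set G))
    (hX : IsEss 𝒜 A X) : IsEss 𝒜 A (X.map (MulAut.conj n).toMonoidHom) := by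
  have hA : A.map (MulAut.conj n).toMonoidHom = A := mem_normalizer_iff_map_conj.1 hn
  refine ⟨?_, ?_, ?_, ?_⟩
  · refine lt_of_le_of_ne ?_ fun h => hX.lt.ne ?_
    · have := map_conj_mono hX.lt.le n
      rwa [hA] at this
    · rw [← hA] at h
      exact Subgroup.map_injective (MulAut.conj n).injective h
  · have h1 := hX.syl.map_conj h n
    rw [map_conj_normalizer] at h1
    have e : (A ⊓ normalizer (X : Set G)).map (MulAut.conj n).toMonoidHom =
        A ⊓ normalizer ((X.map (MulAut.conj n).toMonoidHom : Subgroup G) : Set G) := by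
      rw [Subgroup.map_inf _ _ _ (MulAut.conj n).injective, hA, map_conj_normalizer]
    rwa [e] at h1
  · rintro x ⟨hx1, hx2⟩
    have hx1' : x ∈ centralizer ((X.map (MulAut.conj n).toMonoidHom : Subgroup G) : Set G) := hx1
    rw [mem_centralizer_map_conj] at hx1'
    rw [mem_map_conj]
    refine hX.cent ⟨hx1', ?_⟩
    have := (mem_normalizer_iff.1 (inv_mem hn) x).1 hx2
    simpa using this
  · intro hle
    apply hX.star
    intro y hy
    have h1 : n * y * n⁻¹ ∈ normalizer ((X.map (MulAut.conj n).toMonoidHom : Subgroup G) : Set G) := by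
      rw [← map_conj_normalizer]
      exact conj_mem_map_conj hy n
    have h2 := hle h1
    have h3 := map_star_le (X := X.map (MulAut.conj n).toMonoidHom) (inv_mem hn) (conj_mem_map_conj h2 n⁻¹)
    rw [map_conj_map_conj, inv_mul_cancel, map_conj_one] at h3
    have e : n⁻¹ * (n * y * n⁻¹) * n⁻¹⁻¹ = y := by group
    rwa [e] at h3

theorem comm_of_sq {E : Subgroup G} (sq : ∀ x ∈ E, x * x = 1) {a b : G} (ha : a ∈ E) (hb : b ∈ E) : a * b = b * a := by
  have h1 := sq _ ha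
  have h2 := sq _ hb
  have h3 := sq _ (mul_mem ha hb)
  calc a * b = a * b * 1 := (mul_one _).symm
    _ = a * b * ((a * b) * (a * b))⁻¹ := by rw [h3, inv_one]
    _ = (a * b)⁻¹ := by group
    _ = b⁻¹ * a⁻¹ := by group
    _ = b * a := by rw [inv_eq_of_mul_eq_one_left h1, inv_eq_of_mul_eq_one_left h2]

section Edge

variable {F : Type*} [Field F] {𝒜 : Set G} {A E₁ E₂ : Subgroup G} (D : OneEdge F 𝒜 A E₁ E₂)

/-- Exchange the two sides. -/
def symm : OneEdge F 𝒜 A E₂ E₁ where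
  syl := D.syl
  sup := by rw [sup_comm]; exact D.sup
  sq₁ := D.sq₂
  sq₂ := D.sq₁
  cent₁ := D.cent₂
  cent₂ := D.cent₁
  ess := fun X hX => (D.ess X hX).symm
  φ₁ := D.φ₂
  φ₂ := D.φ₁
  surj₁ := D.surj₂
  surj₂ := D.surj₁
  ker₁ := D.ker₂
  ker₂ := D.ker₁
  card₁ := by rw [inf_comm]; exact D.card₂
  card₂ := by rw [inf_comm]; exact D.card₁
  cardC₁ := by rw [inf_comm E₂ E₁]; exact D.cardC₂
  cardC₂ := by rw [inf_comm E₂ E₁]; exact D.cardC₁
  disj := by rw [inf_comm]; exact D.disj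

include D

theorem le₁ : E₁ ≤ A := by rw [← D.sup]; exact le_sup_left

theorem le₂ : E₂ ≤ A := by rw [← D.sup]; exact le_sup_right

theorem inf_le_centralizer : E₁ ⊓ E₂ ≤ centralizer (A : Set G) := by
  rintro x ⟨h1, h2⟩
  have h3 : A ≤ centralizer ({x} : Set G) := by
    rw [← D.sup]
    refine sup_le ?_ ?_
    · intro y hy
      rw [mem_centralizer_singleton_iff]
      exact comm_of_sq D.sq₁ hy h1
    · intro y hy
      rw [mem_centralizer_singleton_iff]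
      exact comm_of_sq D.sq₂ hy h2
  rw [mem_centralizer_iff]
  intro y hy
  exact mem_centralizer_singleton_iff.1 (h3 hy)

theorem inf_centralizer : E₁ ⊓ centralizer (A : Set G) = E₁ ⊓ E₂ := by
  apply le_antisymm
  · rintro x ⟨h1, h2⟩
    refine ⟨h1, D.cent₂ ⟨?_, le₁ D h1⟩⟩
    exact centralizer_le (le₂ D) h2
  · exact le_inf inf_le_left (inf_le_centralizer D)

theorem comm_mem (norm₁ : A ≤ normalizer (E₁ : Set G)) (norm₂ : A ≤ normalizer (E₂ : Set G)) :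
    ∀ a ∈ A, ∀ e ∈ E₁, a * e * a⁻¹ * e⁻¹ ∈ E₁ ⊓ E₂ := by
  intro a ha
  rw [← D.sup, sup_eq_closure] at ha
  refine closure_induction (p := fun a _ => ∀ e ∈ E₁, a * e * a⁻¹ * e⁻¹ ∈ E₁ ⊓ E₂) ?_ ?_ ?_ ?_ ha
  · rintro a (ha | ha) e he
    · have h1 : a * e * a⁻¹ * e⁻¹ = 1 := by
        rw [comm_of_sq D.sq₁ ha he]; group
      rw [h1]; exact one_mem _
    · refine ⟨?_, ?_⟩
      · exact E₁.mul_mem ((mem_normalizer_iff.1 (norm₁ (le₂ D ha)) e).1 he) (E₁.inv_mem he)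
      · have h1 := (mem_normalizer_iff.1 (norm₂ (le₁ D he)) a⁻¹).1 (E₂.inv_mem ha)
        have h2 := E₂.mul_mem ha h1
        have e : a * (e * a⁻¹ * e⁻¹) = a * e * a⁻¹ * e⁻¹ := by group
        rwa [e] at h2
  · intro e _
    simp [one_mem]
  · intro a b haA hbA ha hb e he
    have hbA' : b ∈ A := by rw [← D.sup, sup_eq_closure]; exact hbA
    have h1 : b * e * b⁻¹ ∈ E₁ := (mem_normalizer_iff.1 (norm₁ hbA') e).1 he
    have h2 := mul_mem (ha _ h1) (hb e he)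
    have e : a * (b * e * b⁻¹) * a⁻¹ * (b * e * b⁻¹)⁻¹ * (b * e * b⁻¹ * e⁻¹) = a * b * e * (a * b)⁻¹ * e⁻¹ := by group
    rwa [e] at h2
  · intro a haA ha e he
    have haA' : a ∈ A := by rw [← D.sup, sup_eq_closure]; exact haA
    have h1 : a⁻¹ * e * a ∈ E₁ := by
      have := (mem_normalizer_iff.1 (norm₁ (inv_mem haA')) e).1 he
      simpa using this
    have h2 := inv_mem (ha _ h1)
    have e : (a * (a⁻¹ * e * a) * a⁻¹ * (a⁻¹ * e * a)⁻¹)⁻¹ = a⁻¹ * e * a⁻¹⁻¹ * e⁻¹ := by group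
    rwa [e] at h2

theorem coe_eq_mul (norm₁ : A ≤ normalizer (E₁ : Set G)) : (A : Set G) = (E₁ : Set G) * (E₂ : Set G) := by
  apply Set.Subset.antisymm
  · intro a ha
    have ha' : a ∈ A := ha
    rw [← D.sup, sup_eq_closure] at ha'
    refine closure_induction (p := fun a _ => a ∈ (E₁ : Set G) * (E₂ : Set G)) ?_ ?_ ?_ ?_ ha'
    · rintro a (ha | ha)
      · exact ⟨a, ha, 1, one_mem _, mul_one _⟩
      · exact ⟨1, one_mem _, a, ha, one_mul _⟩
    · exact ⟨1, one_mem _, 1, one_mem _, mul_one _⟩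
    · rintro _ _ _ _ ⟨e1, h1, e2, h2, rfl⟩ ⟨f1, k1, f2, k2, rfl⟩
      refine ⟨e1 * (e2 * f1 * e2⁻¹), E₁.mul_mem h1 ((mem_normalizer_iff.1 (norm₁ (le₂ D h2)) f1).1 k1), e2 * f2,
        E₂.mul_mem h2 k2, ?_⟩
      simp only []
      group
    · rintro _ _ ⟨e1, h1, e2, h2, rfl⟩
      have h3 := (mem_normalizer_iff.1 (norm₁ (le₂ D (E₂.inv_mem h2))) e1⁻¹).1 (E₁.inv_mem h1)
      refine ⟨e2⁻¹ * e1⁻¹ * e2⁻¹⁻¹, h3, e2⁻¹, E₂.inv_mem h2, ?_⟩
      simp only []
      group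
  · rintro _ ⟨e1, h1, e2, h2, rfl⟩
    exact A.mul_mem (le₁ D h1) (le₂ D h2)

variable [Finite G]

theorem cardA (norm₁ : A ≤ normalizer (E₁ : Set G)) : Nat.card ↥A = Nat.card F * Nat.card ↥E₁ := by
  have h1 := Cfsg.Agent.Lib.ProductSet.card_mul_card_inf E₁ E₂
  rw [← coe_eq_mul D norm₁, D.card₂] at h1
  have h2 : Nat.card ↥A * Nat.card ↥(E₁ ⊓ E₂) = Nat.card F * Nat.card ↥E₁ * Nat.card ↥(E₁ ⊓ E₂) := by
    calc Nat.card ↥A * Nat.card ↥(E₁ ⊓ E₂) = Nat.card ↥E₁ * (Nat.card F * Nat.card ↥(E₁ ⊓ E₂)) := h1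
      _ = _ := by ring
  exact Nat.eq_of_mul_eq_mul_right Nat.card_pos h2

/-- The first side. -/
def side₁ (norm₁ : A ≤ normalizer (E₁ : Set G)) (norm₂ : A ≤ normalizer (E₂ : Set G)) : Side F 𝒜 A E₁ where
  le := le₁ D
  norm := norm₁
  sub := D.syl.sub
  two := D.syl.two
  sq := D.sq₁
  cent := D.cent₁
  comm := fun a ha e he => inf_le_centralizer D (comm_mem D norm₁ norm₂ a ha e he)
  φ := D.φ₁
  surj := D.surj₁
  ker := D.ker₁
  cardA := cardA D norm₁
  cardE := by rw [inf_centralizer D]; exact D.card₁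
  cardZ := by rw [inf_centralizer D]; exact D.cardC₁

end Edge

section Main

variable {𝒜 : Set G} (h : IsClosedFam 𝒜) (S : Sylow 2 G)
include h

/-- The focal subgroup theorem modulo `A`. -/
theorem mem_sup_commutator [Finite G] [IsSimpleGroup G] (hG : ∃ a b : G, a * b ≠ b * a) {s : G} (hs : s ∈ S) :
    s ∈ fam 𝒜 (S : Subgroup G) ⊔ ⁅normalizer (fam 𝒜 (S : Subgroup G) : Set G),
      normalizer (fam 𝒜 (S : Subgroup G) : Set G)⁆ := by
  set A := fam 𝒜 (S : Subgroup G) with hA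
  set N := normalizer (A : Set G) with hN
  let K : Subgroup ↥N := (A ⊔ ⁅N, N⁆).subgroupOf N
  have hK : ∀ x : ↥N, x ∈ K ↔ (x : G) ∈ A ⊔ ⁅N, N⁆ := fun x => Iff.rfl
  have hcm : ∀ x y : ↥N, x * y * x⁻¹ * y⁻¹ ∈ K := by
    intro x y
    rw [hK]
    refine mem_sup_right ?_
    have h1 := commutator_mem_commutator x.2 y.2
    rw [commutatorElement_def] at h1
    exact h1
  have hKn : K.Normal := by
    refine ⟨fun n hn g => ?_⟩
    have h1 := K.mul_mem (hcm g n) hn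
    have e : g * n * g⁻¹ * n⁻¹ * n = g * n * g⁻¹ := by group
    rwa [e] at h1
  let inst : CommGroup (↥N ⧸ K) :=
    { (inferInstance : Group (↥N ⧸ K)) with
      mul_comm := by
        intro a b
        induction a using QuotientGroup.induction_on with
        | H a =>
          induction b using QuotientGroup.induction_on with
          | H b =>
            rw [← QuotientGroup.mk_mul, ← QuotientGroup.mk_mul, QuotientGroup.eq]
            have h1 := hcm b⁻¹ a⁻¹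
            have e : b⁻¹ * a⁻¹ * b⁻¹⁻¹ * a⁻¹⁻¹ = (a * b)⁻¹ * (b * a) := by group
            rwa [e] at h1 }
  have h1 := @ModA.map_eq_one G _ 𝒜 h S _ _ hG (↥N ⧸ K) inst (QuotientGroup.mk' K) (by
    intro a ha
    rw [← MonoidHom.mem_ker, QuotientGroup.ker_mk', hK]
    exact mem_sup_left ha) s hs
  rw [← MonoidHom.mem_ker, QuotientGroup.ker_mk', hK] at h1
  exact h1

variable {F : Type*} [Field F] {E₁ E₂ : Subgroup G} [Finite G]

omit S in
theorem perm {A : Subgroup G} (D : OneEdge F 𝒜 A E₁ E₂) (ess₁ : IsEss 𝒜 A E₁)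
    (ess₂ : IsEss 𝒜 A E₂) {n : G} (hn : n ∈ normalizer (A : Set G)) :
    (E₁.map (MulAut.conj n).toMonoidHom = E₁ ∧ E₂.map (MulAut.conj n).toMonoidHom = E₂) ∨
      (E₁.map (MulAut.conj n).toMonoidHom = E₂ ∧ E₂.map (MulAut.conj n).toMonoidHom = E₁) := by
  have hne : E₁ ≠ E₂ := by
    rintro rfl
    have h1 := D.card₁
    rw [inf_idem] at h1
    have h2 : 0 < Nat.card ↥E₁ := Nat.card_pos
    have h3 : Nat.card F = 1 := by
      have : Nat.card F * Nat.card ↥E₁ = 1 * Nat.card ↥E₁ := by rw [← h1, one_mul]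
      exact Nat.eq_of_mul_eq_mul_right h2 this
    have := (Nat.card_eq_one_iff_unique.1 h3).1
    exact not_subsingleton F this
  have hinj : Function.Injective (fun H : Subgroup G => H.map (MulAut.conj n).toMonoidHom) :=
    Subgroup.map_injective (MulAut.conj n).injective
  rcases D.ess _ (isEss_conj h hn ess₁) with h1 | h1
  · left
    refine ⟨h1, ?_⟩
    rcases D.ess _ (isEss_conj h hn ess₂) with h2 | h2
    · exact absurd (hinj (h1.trans h2.symm)) hne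
    · exact h2
  · right
    refine ⟨h1, ?_⟩
    rcases D.ess _ (isEss_conj h hn ess₂) with h2 | h2
    · exact h2
    · exact absurd (hinj (h1.trans h2.symm)) hne

omit S in
theorem commutator_le_normalizer {A : Subgroup G} (D : OneEdge F 𝒜 A E₁ E₂) (ess₁ : IsEss 𝒜 A E₁)
    (ess₂ : IsEss 𝒜 A E₂) :
    ⁅normalizer (A : Set G), normalizer (A : Set G)⁆ ≤ normalizer (E₁ : Set G) := by
  rw [commutator_le]
  intro n hn m hm
  rw [commutatorElement_def, mem_normalizer_iff_map_conj, ← map_conj_map_conj, ← map_conj_map_conj,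
    ← map_conj_map_conj]
  have key : ∀ n ∈ normalizer (A : Set G),
      ((E₁.map (MulAut.conj n).toMonoidHom = E₁ ∧ E₂.map (MulAut.conj n).toMonoidHom = E₂) ∧
        (E₁.map (MulAut.conj n⁻¹).toMonoidHom = E₁ ∧ E₂.map (MulAut.conj n⁻¹).toMonoidHom = E₂)) ∨
      ((E₁.map (MulAut.conj n).toMonoidHom = E₂ ∧ E₂.map (MulAut.conj n).toMonoidHom = E₁) ∧
        (E₁.map (MulAut.conj n⁻¹).toMonoidHom = E₂ ∧ E₂.map (MulAut.conj n⁻¹).toMonoidHom = E₁)) := by
    intro n hn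
    have hinv : ∀ X Y : Subgroup G, X.map (MulAut.conj n).toMonoidHom = Y →
        Y.map (MulAut.conj n⁻¹).toMonoidHom = X := by
      rintro X _ rfl
      rw [map_conj_map_conj, inv_mul_cancel, map_conj_one]
    rcases perm h D ess₁ ess₂ hn with ⟨h1, h2⟩ | ⟨h1, h2⟩
    · exact Or.inl ⟨⟨h1, h2⟩, hinv _ _ h1, hinv _ _ h2⟩
    · exact Or.inr ⟨⟨h1, h2⟩, hinv _ _ h2, hinv _ _ h1⟩
  rcases key n hn with ⟨⟨n1, n2⟩, n3, n4⟩ | ⟨⟨n1, n2⟩, n3, n4⟩ <;>
  rcases key m hm with ⟨⟨m1, m2⟩, m3, m4⟩ | ⟨⟨m1, m2⟩, m3, m4⟩ <;>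
  simp only [n1, n2, n3, n4, m1, m2, m3]

theorem normalizer_le [IsSimpleGroup G] (hG : ∃ a b : G, a * b ≠ b * a)
    (D : OneEdge F 𝒜 (fam 𝒜 (S : Subgroup G)) E₁ E₂) (norm₁ : fam 𝒜 (S : Subgroup G) ≤ normalizer (E₁ : Set G))
    (ess₁ : IsEss 𝒜 (fam 𝒜 (S : Subgroup G)) E₁) (ess₂ : IsEss 𝒜 (fam 𝒜 (S : Subgroup G)) E₂) :
    normalizer (fam 𝒜 (S : Subgroup G) : Set G) ≤ normalizer (E₁ : Set G) := by
  set A := fam 𝒜 (S : Subgroup G) with hA
  by_contra hcon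
  obtain ⟨a, haN, haE⟩ := SetLike.not_le_iff_exists.1 hcon
  have hSE : (S : Subgroup G) ≤ normalizer (E₁ : Set G) := by
    intro s hs
    have h1 := mem_sup_commutator h S hG hs
    exact (sup_le norm₁ (commutator_le_normalizer h D ess₁ ess₂)) h1
  have hSN : (S : Subgroup G) ≤ normalizer (A : Set G) := ModA.sylow_le_normalizer h S
  set N := normalizer (A : Set G) with hN
  have ha := (perm h D ess₁ ess₂ haN).resolve_left (fun h1 => haE (mem_normalizer_iff_map_conj.2 h1.1))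
  have hindex : ((N ⊓ normalizer (E₁ : Set G)).subgroupOf N).index = 2 := by
    rw [index_eq_two_iff]
    refine ⟨⟨a, haN⟩, ?_⟩
    rintro ⟨b, hb⟩
    rw [mem_subgroupOf, mem_subgroupOf]
    change Xor (b * a ∈ N ⊓ normalizer (E₁ : Set G)) (b ∈ N ⊓ normalizer (E₁ : Set G))
    have hne : E₁ ≠ E₂ := by
      intro h1
      apply haE
      rw [mem_normalizer_iff_map_conj, ha.1, ← h1]
    rcases perm h D ess₁ ess₂ hb with ⟨h1, h2⟩ | ⟨h1, h2⟩
    · right
      refine ⟨⟨hb, mem_normalizer_iff_map_conj.2 h1⟩, ?_⟩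
      intro h3
      have h4 : b * a ∈ normalizer (E₁ : Set G) := (mem_inf.1 h3).2
      rw [mem_normalizer_iff_map_conj, ← map_conj_map_conj, ha.1, h2] at h4
      exact hne h4.symm
    · left
      refine ⟨mem_inf.2 ⟨mul_mem hb haN, ?_⟩, ?_⟩
      · rw [mem_normalizer_iff_map_conj, ← map_conj_map_conj, ha.1, h2]
      · intro h3
        have h4 : b ∈ normalizer (E₁ : Set G) := (mem_inf.1 h3).2
        rw [mem_normalizer_iff_map_conj, h1] at h4
        exact hne h4.symm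
  have h1 : (2 : ℕ) ∣ (S : Subgroup G).index := by
    have h2 : (N ⊓ normalizer (E₁ : Set G)).relIndex N ∣ (S : Subgroup G).index := by
      have h3 : (S : Subgroup G) ≤ N ⊓ normalizer (E₁ : Set G) := le_inf hSN hSE
      rw [← relIndex_mul_index hSN, ← relIndex_mul_relIndex _ _ _ h3 inf_le_left, mul_comm ((S : Subgroup G).relIndex _),
        mul_assoc]
      exact Dvd.intro _ rfl
    have h3 : (N ⊓ normalizer (E₁ : Set G)).relIndex N = 2 := hindex
    rwa [h3] at h2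
  have : Fact (Nat.Prime 2) := ⟨Nat.prime_two⟩
  exact S.not_dvd_index h1

/-- **`S = A * C_S(A)`.** -/
theorem exists_mul [IsSimpleGroup G] (hG : ∃ a b : G, a * b ≠ b * a)
    (D : OneEdge F 𝒜 (fam 𝒜 (S : Subgroup G)) E₁ E₂) (norm₁ : fam 𝒜 (S : Subgroup G) ≤ normalizer (E₁ : Set G))
    (norm₂ : fam 𝒜 (S : Subgroup G) ≤ normalizer (E₂ : Set G))
    (ess₁ : IsEss 𝒜 (fam 𝒜 (S : Subgroup G)) E₁) (ess₂ : IsEss 𝒜 (fam 𝒜 (S : Subgroup G)) E₂) {s : G}
    (hs : s ∈ (S : Subgroup G)) :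
    ∃ a ∈ fam 𝒜 (S : Subgroup G), ∃ c ∈ centralizer (fam 𝒜 (S : Subgroup G) : Set G), s = a * c := by
  have hN₁ := normalizer_le h S hG D norm₁ ess₁ ess₂
  have hN₂ := normalizer_le h S hG (symm D) norm₂ ess₂ ess₁
  set A := fam 𝒜 (S : Subgroup G) with hA
  have hAS : A ≤ S := fam_le 𝒜 _
  have hmain₁ : ∀ t ∈ (S : Subgroup G), (∀ z ∈ E₁ ⊓ centralizer (A : Set G),
      t * z * t⁻¹ * z⁻¹ ∈ E₁ ⊓ centralizer (XG 𝒜 E₁ : Set G)) ∧
      ((∀ z ∈ E₁ ⊓ centralizer (A : Set G), t * z = z * t) → ∃ a ∈ A, ∀ e ∈ E₁, t * e * t⁻¹ = a * e * a⁻¹) := by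
    intro t ht
    obtain ⟨m, hm⟩ := S.2 ⟨t, ht⟩
    exact (side₁ D norm₁ norm₂).main h hN₁ (mem_sup_commutator h S hG ht) (m := m) (congrArg Subtype.val hm)
  have hmain₂ : ∀ t ∈ (S : Subgroup G), (∀ z ∈ E₂ ⊓ centralizer (A : Set G),
      t * z * t⁻¹ * z⁻¹ ∈ E₂ ⊓ centralizer (XG 𝒜 E₂ : Set G)) ∧
      ((∀ z ∈ E₂ ⊓ centralizer (A : Set G), t * z = z * t) → ∃ a ∈ A, ∀ e ∈ E₂, t * e * t⁻¹ = a * e * a⁻¹) := by
    intro t ht
    obtain ⟨m, hm⟩ := S.2 ⟨t, ht⟩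
    exact (side₁ (symm D) norm₂ norm₁).main h hN₂ (mem_sup_commutator h S hG ht) (m := m) (congrArg Subtype.val hm)
  -- `S` centralises `Z(A)`
  have hz : ∀ t ∈ (S : Subgroup G), ∀ z ∈ E₁ ⊓ E₂, t * z = z * t := by
    intro t ht z hz
    have h1 := (hmain₁ t ht).1 z (by rw [inf_centralizer D]; exact hz)
    have h2 := (hmain₂ t ht).1 z (by rw [inf_centralizer (symm D), inf_comm]; exact hz)
    have h3 : t * z * t⁻¹ * z⁻¹ ∈ (⊥ : Subgroup G) := by
      rw [← D.disj]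
      exact ⟨h1, h2⟩
    rw [mem_bot] at h3
    calc t * z = t * z * t⁻¹ * z⁻¹ * (z * t) := by group
      _ = z * t := by rw [h3, one_mul]
  have hz₁ : ∀ t ∈ (S : Subgroup G), ∀ z ∈ E₁ ⊓ centralizer (A : Set G), t * z = z * t := by
    intro t ht z hzz
    rw [inf_centralizer D] at hzz
    exact hz t ht z hzz
  have hz₂ : ∀ t ∈ (S : Subgroup G), ∀ z ∈ E₂ ⊓ centralizer (A : Set G), t * z = z * t := by
    intro t ht z hzz
    rw [inf_centralizer (symm D), inf_comm] at hzz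
    exact hz t ht z hzz
  obtain ⟨a₁, ha₁, h1⟩ := (hmain₁ s hs).2 (hz₁ s hs)
  have htS : a₁⁻¹ * s ∈ (S : Subgroup G) := mul_mem (inv_mem (hAS ha₁)) hs
  obtain ⟨a₂, ha₂, h2⟩ := (hmain₂ _ htS).2 (hz₂ _ htS)
  have ha₂' : a₂ ∈ (A : Set G) := ha₂
  rw [coe_eq_mul D norm₁] at ha₂'
  obtain ⟨e₁, he₁, e₂, he₂, rfl⟩ := ha₂'
  refine ⟨a₁ * e₁, mul_mem ha₁ (le₁ D he₁), e₁⁻¹ * (a₁⁻¹ * s), ?_, by group⟩
  have h3 : A ≤ centralizer ({e₁⁻¹ * (a₁⁻¹ * s)} : Set G) := by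
    rw [← D.sup]
    refine sup_le ?_ ?_
    · intro e he
      rw [mem_centralizer_singleton_iff]
      have h4 : (a₁⁻¹ * s) * e = e * (a₁⁻¹ * s) := by
        have h5 := h1 e he
        calc (a₁⁻¹ * s) * e = a₁⁻¹ * (s * e * s⁻¹) * s := by group
          _ = e * (a₁⁻¹ * s) := by rw [h5]; group
      calc e * (e₁⁻¹ * (a₁⁻¹ * s)) = e * e₁⁻¹ * (a₁⁻¹ * s) := by group
        _ = e₁⁻¹ * e * (a₁⁻¹ * s) := by rw [comm_of_sq D.sq₁ he (inv_mem he₁)]
        _ = e₁⁻¹ * (a₁⁻¹ * s) * e := by rw [mul_assoc, ← h4]; group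
    · intro e he
      rw [mem_centralizer_singleton_iff]
      have h4 := h2 e he
      have h5 : e₁ * e₂ * e * (e₁ * e₂)⁻¹ = e₁ * e * e₁⁻¹ := by
        have h6 := comm_of_sq D.sq₂ he₂ he
        calc e₁ * e₂ * e * (e₁ * e₂)⁻¹ = e₁ * (e₂ * e) * e₂⁻¹ * e₁⁻¹ := by group
          _ = e₁ * e * e₁⁻¹ := by rw [h6]; group
      simp only [] at h4
      rw [h5] at h4
      calc e * (e₁⁻¹ * (a₁⁻¹ * s)) = e₁⁻¹ * (e₁ * e * e₁⁻¹) * (a₁⁻¹ * s) := by group
        _ = e₁⁻¹ * (a₁⁻¹ * s) * e := by rw [← h4]; group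
  rw [mem_centralizer_iff]
  intro y hy
  exact mem_centralizer_singleton_iff.1 (h3 hy)

end Main

end Cfsg.Agent.ClassTwoFusion.CentAMain
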