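import Cfsg.Agent.ClassTwoFusion.OneEdge
import Cfsg.Agent.TwoFusion.ClosedZ
import Cfsg.Agent.TwoFusion.IsolatedCenter

/-!
# Centralizers of essential subgroups

`comm_mem`: a closed family acts trivially on `M / E₀ O(M)`, `M` normal, `E₀ ≥ 𝒜 ∩ M` a normal subgroup central in `M`.
`exists_mul_comm`: the splitting lemma `V = E C_V(X)`.
-/

set_option autoImplicit false
set_option linter.style.haveILetI false

namespace Cfsg.Agent.ClassTwoFusion.CentLocal

open Subgroup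
open scoped commutatorElement
open Cfsg.Agent.TwoFusion.ClosedFam

universe u

/-! ### Cores -/

theorem core_le {G : Type*} [Group G] (H : Subgroup G) : core H ≤ H := map_subtype_le _

theorem core_odd {G : Type*} [Group G] [Finite G] (H : Subgroup G) : Odd (Nat.card (core H)) := by
  unfold core
  rw [← Nat.coprime_two_right, Subgroup.card_map_of_injective H.subtype_injective]
  exact Cfsg.Agent.Lib.Cores.pPrimeCore_coprime 2

theorem core_normal {G : Type*} [Group G] (M : Subgroup G) [hM : M.Normal] : (core M).Normal := by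
  haveI := Cfsg.Agent.Lib.Cores.pPrimeCore_characteristic (G := M) 2
  unfold core
  exact (ConjAct.normal_of_characteristic_of_normal (H := M) (K := Cfsg.pPrimeCore 2 M))

theorem le_core {G : Type*} [Group G] [Finite G] {K M : Subgroup G} (hKM : K ≤ M)
    (hn : ∀ m ∈ M, ∀ k ∈ K, m * k * m⁻¹ ∈ K) (hK : Odd (Nat.card K)) : K ≤ core M := by
  have h1 : (K.subgroupOf M).Normal := by
    constructor
    intro k hk m
    rw [mem_subgroupOf] at hk ⊢
    exact hn m m.2 k hk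
  have h2 : K.subgroupOf M ≤ Cfsg.pPrimeCore 2 M := by
    refine Cfsg.Agent.Lib.Cores.le_pPrimeCore h1 ?_
    rw [Nat.card_congr (subgroupOfEquivOfLe hKM).toEquiv]
    exact Nat.coprime_two_right.2 hK
  intro k hk
  exact ⟨⟨k, hKM hk⟩, h2 (by rwa [mem_subgroupOf]), rfl⟩

theorem oddCore_eq_bot_iff {G : Type*} [Group G] (M : Subgroup G) : Cfsg.oddCore M = ⊥ ↔ core M = ⊥ := by
  unfold core
  rw [Subgroup.map_eq_bot_iff_of_injective _ M.subtype_injective]

/-- the core of the image of `M` in the quotient by a normal subgroup of odd order -/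
theorem core_map_core {G : Type*} [Group G] [Finite G] (M : Subgroup G) [hM : M.Normal] [hn : (core M).Normal] :
    core (M.map (QuotientGroup.mk' (core M))) = ⊥ := by
  set π := QuotientGroup.mk' (core M) with hπ
  have hs : Function.Surjective π := QuotientGroup.mk'_surjective _
  have hMn : (M.map π).Normal := hM.map π hs
  have hcn := core_normal (M.map π)
  set L := (core (M.map π)).comap π with hL
  have hLM : L ≤ M := by
    have h1 : L ≤ (M.map π).comap π := comap_mono (core_le _)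
    rw [comap_map_eq, hπ, QuotientGroup.ker_mk', sup_eq_left.2 (core_le M)] at h1
    exact h1
  have hLn : L.Normal := inferInstance
  have hcard : Nat.card L = Nat.card (core M) * Nat.card (core (M.map π)) :=
    QuotientGroup.card_preimage_mk (core M) (core (M.map π) : Set (G ⧸ core M))
  have h1 : L ≤ core M := by
    refine le_core hLM (fun m _ k hk => hLn.conj_mem k hk m) ?_
    rw [hcard]
    exact (core_odd _).mul (core_odd _)
  have h2 : (L.map π) = ⊥ := by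
    rw [Subgroup.map_eq_bot_iff, hπ, QuotientGroup.ker_mk']
    exact h1
  rwa [hL, map_comap_eq_self_of_surjective hs] at h2

/-- Lemma Z, form 1. -/
theorem comm_mem_one {G : Type u} [Group G] [Finite G] {𝒜 : Set G} (h : IsClosedFam 𝒜) (M E₀ : Subgroup G)
    [hM : M.Normal] [hE : E₀.Normal] (hO : core M = ⊥) (hE2 : IsPGroup 2 E₀) (hEM : E₀ ≤ M)
    (hc : ∀ e ∈ E₀, ∀ m ∈ M, e * m = m * e) (hA : ∀ a ∈ 𝒜, a ∈ M → a ∈ E₀) :
    ∀ a ∈ 𝒜, ∀ m ∈ M, ⁅m, a⁆ ∈ E₀ := by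
  haveI : Fact (Nat.Prime 2) := ⟨Nat.prime_two⟩
  set π := QuotientGroup.mk' E₀ with hπ
  have hs : Function.Surjective π := QuotientGroup.mk'_surjective _
  haveI hMn : (M.map π).Normal := hM.map π hs
  have hcn := core_normal (M.map π)
  have hker : ∀ x, π x = 1 ↔ x ∈ E₀ := fun x => by
    rw [hπ, QuotientGroup.mk'_apply, QuotientGroup.eq_one_iff]
  -- the core of the image is trivial
  have hcore : core (M.map π) = ⊥ := by
    set L := (core (M.map π)).comap π with hL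
    have hLM : L ≤ M := by
      have h1 : L ≤ (M.map π).comap π := comap_mono (core_le _)
      rw [comap_map_eq, hπ, QuotientGroup.ker_mk', sup_eq_left.2 hEM] at h1
      exact h1
    haveI hLn : L.Normal := inferInstance
    have hEL : E₀ ≤ L := by
      intro x hx
      rw [hL, mem_comap, (hker x).2 hx]
      exact one_mem _
    have hcard : Nat.card L = Nat.card E₀ * Nat.card (core (M.map π)) :=
      QuotientGroup.card_preimage_mk E₀ (core (M.map π) : Set (G ⧸ E₀))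
    have hLO : Cfsg.oddCore L = ⊥ := by
      rw [oddCore_eq_bot_iff, eq_bot_iff, ← hO]
      refine le_core ((core_le L).trans hLM) ?_ (core_odd L)
      intro m _ k hk
      exact (core_normal L).conj_mem k hk m
    have h3 := Cfsg.Agent.TwoFusion.IsolatedCenter.eq_top_of_central (M := L) (E₀.subgroupOf L) (by
        intro w hw
        rw [Subgroup.mem_center_iff]
        intro v
        ext
        exact (hc w (mem_subgroupOf.1 hw) v (hLM v.2)).symm) hE2.comap_subtype ?_ hLO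
    · have h4 : L ≤ E₀ := Subgroup.subgroupOf_eq_top.mp h3
      have h5 : L.map π = ⊥ := by
        rw [Subgroup.map_eq_bot_iff, hπ, QuotientGroup.ker_mk']
        exact h4
      rwa [hL, map_comap_eq_self_of_surjective hs] at h5
    · have h4 := Subgroup.card_mul_index (E₀.subgroupOf L)
      rw [Nat.card_congr (Subgroup.subgroupOfEquivOfLe hEL).toEquiv, hcard] at h4
      have h5 : (E₀.subgroupOf L).index = Nat.card (core (M.map π)) :=
        Nat.eq_of_mul_eq_mul_left Nat.card_pos h4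
      rw [h5]
      exact core_odd _
  have hcen := Cfsg.Agent.TwoFusion.ClosedZ.centralize (h.image hs) (M.map π) ((oddCore_eq_bot_iff _).2 hcore) (by
    rintro _ ⟨a, ha, rfl⟩ haM
    obtain ⟨m, hm, hma⟩ := haM
    rw [hker]
    refine hA a ha ?_
    have h1 : m⁻¹ * a ∈ E₀ := by
      rw [← hker, map_mul, map_inv, hma, inv_mul_cancel]
    have e : a = m * (m⁻¹ * a) := by group
    rw [e]
    exact mul_mem hm (hEM h1))
  intro a ha m hm
  have h1 := hcen (π a) ⟨a, ha, rfl⟩ (π m) ⟨m, hm, rfl⟩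
  rw [← hker, map_commutatorElement, commutatorElement_eq_one_iff_mul_comm]
  exact h1.symm

/-- Lemma Z: a closed family acts trivially on `M / E₀ O(M)`. -/
theorem comm_mem {G : Type u} [Group G] [Finite G] {𝒜 : Set G} (h : IsClosedFam 𝒜) (M E₀ : Subgroup G)
    [hM : M.Normal] [hE : E₀.Normal] (hE2 : IsPGroup 2 E₀) (hEM : E₀ ≤ M)
    (hc : ∀ e ∈ E₀, ∀ m ∈ M, e * m = m * e) (hA : ∀ a ∈ 𝒜, a ∈ M → a ∈ E₀) :
    ∀ a ∈ 𝒜, ∀ m ∈ M, ∃ e ∈ E₀, ∃ o ∈ core M, ⁅m, a⁆ = e * o := by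
  haveI hn := core_normal M
  set π := QuotientGroup.mk' (core M) with hπ
  have hs : Function.Surjective π := QuotientGroup.mk'_surjective _
  haveI hMn : (M.map π).Normal := hM.map π hs
  haveI hEn : (E₀.map π).Normal := hE.map π hs
  have hker : ∀ x, π x = 1 ↔ x ∈ core M := fun x => by
    rw [hπ, QuotientGroup.mk'_apply, QuotientGroup.eq_one_iff]
  have key := comm_mem_one (h.image hs) (M.map π) (E₀.map π) (core_map_core M) (hE2.map π) (Subgroup.map_mono hEM)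
    (by
      rintro _ ⟨e, he, rfl⟩ _ ⟨m, hm, rfl⟩
      rw [← map_mul, ← map_mul, hc e he m hm])
    (by
      rintro _ ⟨a, ha, rfl⟩ haM
      obtain ⟨m, hm, hma⟩ := haM
      refine ⟨a, hA a ha ?_, rfl⟩
      have h1 : m⁻¹ * a ∈ core M := by
        rw [← hker, map_mul, map_inv, hma, inv_mul_cancel]
      have e : a = m * (m⁻¹ * a) := by group
      rw [e]
      exact mul_mem hm (core_le M h1))
  intro a ha m hm
  obtain ⟨e, he, hem⟩ := key (π a) ⟨a, ha, rfl⟩ (π m) ⟨m, hm, rfl⟩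
  rw [← map_commutatorElement] at hem
  refine ⟨e, he, e⁻¹ * ⁅m, a⁆, ?_, by group⟩
  rw [← hker, map_mul, map_inv, hem, inv_mul_cancel]

/-! ### The splitting lemma -/

/-- `V = E C_V(X)`. -/
theorem exists_mul_comm {H : Type*} [Group H] [Finite H] (E V X A : Subgroup H) (n : H) [hV : V.Normal]
    [hX : X.Normal] (hEV : E ≤ V)
    (hcen : ∀ e ∈ E, ∀ v ∈ V, e * v = v * e)
    (hVX : ∀ v ∈ V, ∀ x ∈ X, ⁅v, x⁆ ∈ E) (hAX : A ≤ X)
    (hXA : ∀ K : Subgroup H, (∀ x ∈ X, ∀ a ∈ A, x * a * x⁻¹ ∈ K) → X ≤ K)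
    (hE2 : IsPGroup 2 E)
    (hT : ∀ v ∈ V, (∃ k : ℕ, v ^ 2 ^ k = 1) → ∃ g ∈ V, ∃ e ∈ E, ∃ c ∈ V, (∀ a ∈ A, c * a = a * c) ∧ g * v * g⁻¹ = e * c)
    (hn : n ∈ X) (hgen : ∀ x ∈ X, ∃ y ∈ A ⊔ A.map (MulAut.conj n).toMonoidHom, ∃ k ∈ X ⊓ V, x = y * k)
    (hZ : ∀ e ∈ E, ∃ z ∈ E, ∃ z' ∈ E, (∀ a ∈ A, z * a = a * z) ∧ (∀ a ∈ A, z' * (n * a * n⁻¹) = (n * a * n⁻¹) * z') ∧
      e = z * z') :
    ∀ v ∈ V, ∃ e ∈ E, ∃ j ∈ V, (∀ x ∈ X, j * x = x * j) ∧ v = e * j := by
  -- `δ_a` is a homomorphism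
  have hδ : ∀ a ∈ X, ∀ v ∈ V, ∀ w ∈ V, ⁅v * w, a⁆ = ⁅v, a⁆ * ⁅w, a⁆ := by
    intro a ha v hv w hw
    have h1 := hcen _ (hVX w hw a ha) v hv
    have e1 : ⁅v * w, a⁆ = v * ⁅w, a⁆ * v⁻¹ * ⁅v, a⁆ := by
      simp only [commutatorElement_def]; group
    have e2 : v * ⁅w, a⁆ * v⁻¹ = ⁅w, a⁆ := by rw [← h1]; group
    rw [e1, e2]
    exact hcen _ (hVX w hw a ha) _ (hEV (hVX v hv a ha))
  have hδpow : ∀ a ∈ X, ∀ v ∈ V, ∀ k : ℕ, ⁅v ^ k, a⁆ = ⁅v, a⁆ ^ k := by
    intro a ha v hv k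
    induction k with
    | zero => rw [pow_zero, pow_zero, commutatorElement_one_left]
    | succ k ih => rw [pow_succ, hδ a ha _ (pow_mem hv k) v hv, ih, pow_succ]
  have hδconj : ∀ a ∈ X, ∀ v ∈ V, ∀ g ∈ V, ⁅g * v * g⁻¹, a⁆ = ⁅v, a⁆ := by
    intro a ha v hv g hg
    have h1 : ⁅g⁻¹, a⁆ = ⁅g, a⁆⁻¹ := by
      have h2 := hδ a ha g hg g⁻¹ (inv_mem hg)
      rw [mul_inv_cancel, commutatorElement_one_left] at h2
      exact (inv_eq_of_mul_eq_one_right h2.symm).symm
    rw [hδ a ha _ (mul_mem hg hv) _ (inv_mem hg), hδ a ha g hg v hv, h1]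
    have h3 := hcen _ (hVX v hv a ha) _ (hEV (hVX g hg a ha))
    rw [← h3]; group
  have comm_iff : ∀ v a : H, ⁅v, a⁆ = 1 ↔ v * a = a * v := fun v a => commutatorElement_eq_one_iff_mul_comm
  -- `V = E C_V(A)`
  have hVA : ∀ v ∈ V, ∃ e ∈ E, ∃ c ∈ V, (∀ a ∈ A, c * a = a * c) ∧ v = e * c := by
    intro v hv
    -- decompose `v` into 2-part and odd part
    obtain ⟨k, m, hm, hkm⟩ := Nat.exists_eq_pow_mul_and_not_dvd (orderOf_pos v).ne' 2 (by norm_num)
    have hcop : Nat.Coprime (2 ^ k) m := Nat.Coprime.pow_left k ((Nat.Prime.coprime_iff_not_dvd Nat.prime_two).2 hm)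
    obtain ⟨r, s, hrs⟩ : ∃ r s : ℤ, r * 2 ^ k + s * m = 1 := by
      have := Int.isCoprime_iff_gcd_eq_one.2 (by rw [Int.gcd_natCast_natCast]; exact hcop)
      obtain ⟨r, s, h⟩ := this
      exact ⟨r, s, by push_cast at h; exact h⟩
    have hv1 : v ^ orderOf v = 1 := pow_orderOf_eq_one v
    set v₂ := v ^ (s * m) with hv₂
    set v' := v ^ (r * 2 ^ k) with hv'
    have hvv : v = v₂ * v' := by
      rw [hv₂, hv', ← zpow_add, add_comm, hrs, zpow_one]
    have hv₂V : v₂ ∈ V := zpow_mem hv _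
    have hv'V : v' ∈ V := zpow_mem hv _
    have hv₂2 : v₂ ^ 2 ^ k = 1 := by
      rw [hv₂, ← zpow_natCast, ← zpow_mul]
      have e : s * (m : ℤ) * ((2 ^ k : ℕ) : ℤ) = (orderOf v : ℤ) * s := by rw [hkm]; push_cast; ring
      rw [e, zpow_mul, zpow_natCast, hv1, one_zpow]
    have hv'm : v' ^ m = 1 := by
      rw [hv', ← zpow_natCast, ← zpow_mul]
      have e : r * 2 ^ k * (m : ℤ) = (orderOf v : ℤ) * r := by rw [hkm]; push_cast; ring
      rw [e, zpow_mul, zpow_natCast, hv1, one_zpow]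
    -- the odd part centralizes `A`
    have hv'A : ∀ a ∈ A, v' * a = a * v' := by
      intro a ha
      rw [← comm_iff]
      have h1 : ⁅v', a⁆ ^ m = 1 := by
        rw [← hδpow a (hAX ha) v' hv'V, hv'm, commutatorElement_one_left]
      obtain ⟨j, hj⟩ := hE2 ⟨_, hVX v' hv'V a (hAX ha)⟩
      have h2 : ⁅v', a⁆ ^ 2 ^ j = 1 := congrArg Subtype.val hj
      have h3 : orderOf ⁅v', a⁆ ∣ Nat.gcd (2 ^ j) m := Nat.dvd_gcd (orderOf_dvd_of_pow_eq_one h2) (orderOf_dvd_of_pow_eq_one h1)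
      have h4 : Nat.gcd (2 ^ j) m = 1 := Nat.Coprime.pow_left j ((Nat.Prime.coprime_iff_not_dvd Nat.prime_two).2 hm)
      rw [h4, Nat.dvd_one, orderOf_eq_one_iff] at h3
      exact h3
    -- the 2-part
    obtain ⟨g, hg, e, he, c, hc, hcA, hgv⟩ := hT v₂ hv₂V ⟨k, hv₂2⟩
    have hv₂e : v₂ = e * (g⁻¹ * c * g) := by
      have h1 := hcen e he g⁻¹ (inv_mem hg)
      calc v₂ = g⁻¹ * (g * v₂ * g⁻¹) * g := by group
        _ = (g⁻¹ * e) * c * g := by rw [hgv]; group
        _ = e * (g⁻¹ * c * g) := by rw [← h1]; group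
    have hcg : ∀ a ∈ A, (g⁻¹ * c * g) * a = a * (g⁻¹ * c * g) := by
      intro a ha
      rw [← comm_iff]
      have h1 := hδconj a (hAX ha) c hc g⁻¹ (inv_mem hg)
      rw [inv_inv] at h1
      rw [h1, comm_iff]
      exact hcA a ha
    refine ⟨e, he, (g⁻¹ * c * g) * v', mul_mem (mul_mem (mul_mem (inv_mem hg) hc) hg) hv'V, ?_, ?_⟩
    · intro a ha
      rw [mul_assoc, hv'A a ha, ← mul_assoc, hcg a ha, mul_assoc]
    · rw [hvv, hv₂e]; group
  intro v hv
  obtain ⟨e, he, c, hc, hcA, hvec⟩ := hVA v hv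
  -- `c` modulo `E` centralizes `A^n`
  obtain ⟨e', he', c', hc', hcA', hce⟩ := hVA (n⁻¹ * c * n) (by
    have := hV.conj_mem c hc n⁻¹
    rwa [inv_inv] at this)
  have hnE : n * e' * n⁻¹ ∈ E := by
    have h1 := hVX e' (hEV he') n hn
    -- `n e' n⁻¹ = ⁅e', n⁆⁻¹ e'`
    have e1 : n * e' * n⁻¹ = (⁅e', n⁆)⁻¹ * e' := by
      rw [commutatorElement_def]
      have h2 : e' * e' ∈ E := mul_mem he' he'
      group
    rw [e1]
    exact mul_mem (inv_mem h1) he'
  obtain ⟨z, hz, z', hz', hzA, hzn, hzz⟩ := hZ _ hnE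
  -- `v₀` commutes with `A` and `A^n`
  set v₀ := z⁻¹ * c with hv₀
  have hv₀V : v₀ ∈ V := mul_mem (inv_mem (hEV hz)) hc
  have hv₀A : ∀ a ∈ A, Commute v₀ a := fun a ha =>
    ((show Commute z a from hzA a ha).inv_left).mul_left (hcA a ha)
  have hv₀e : v₀ = z' * (n * c' * n⁻¹) := by
    have e1 : c = (n * e' * n⁻¹) * (n * c' * n⁻¹) := by
      have : c = n * (n⁻¹ * c * n) * n⁻¹ := by group
      rw [this, hce]; group
    rw [hv₀, e1, hzz]; group
  have hv₀n : ∀ a ∈ A, Commute v₀ (n * a * n⁻¹) := by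
    intro a ha
    have h1 : Commute (n * c' * n⁻¹) (n * a * n⁻¹) := by
      have := hcA' a ha
      show (n * c' * n⁻¹) * (n * a * n⁻¹) = (n * a * n⁻¹) * (n * c' * n⁻¹)
      calc _ = n * (c' * a) * n⁻¹ := by group
        _ = n * (a * c') * n⁻¹ := by rw [this]
        _ = _ := by group
    rw [hv₀e]
    exact (show Commute z' (n * a * n⁻¹) from hzn a ha).mul_left h1
  have hv₀y : ∀ y ∈ A ⊔ A.map (MulAut.conj n).toMonoidHom, Commute v₀ y := by
    have hle : A ⊔ A.map (MulAut.conj n).toMonoidHom ≤ centralizer {v₀} := by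
      refine sup_le ?_ ?_
      · intro a ha
        rw [mem_centralizer_singleton_iff]
        exact (hv₀A a ha).eq.symm
      · rintro _ ⟨a, ha, rfl⟩
        rw [mem_centralizer_singleton_iff]
        exact (hv₀n a ha).eq.symm
    intro y hy
    have := hle hy
    rw [mem_centralizer_singleton_iff] at this
    exact this.symm
  -- `X` centralizes `[V, V]`
  have hXV : ∀ v ∈ V, ∀ w ∈ V, ∀ x ∈ X, x * ⁅v, w⁆ * x⁻¹ = ⁅v, w⁆ := by
    intro v hv w hw x hx
    have e1 : x * ⁅v, w⁆ * x⁻¹ = ⁅⁅v, x⁆⁻¹ * v, ⁅w, x⁆⁻¹ * w⁆ := by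
      simp only [commutatorElement_def]; group
    have h1 : ∀ f ∈ E, ∀ g ∈ E, ⁅f * v, g * w⁆ = ⁅v, w⁆ := by
      intro f hf g hg
      have c1 : Commute f v := hcen f hf v hv
      have c2 : Commute f w := hcen f hf w hw
      have c3 : Commute f g := hcen f hf g (hEV hg)
      have c4 : Commute g v := hcen g hg v hv
      have c5 : Commute g w := hcen g hg w hw
      have e2 : ⁅f * v, g * w⁆ = f * (v * g * w * v⁻¹) * f⁻¹ * w⁻¹ * g⁻¹ := by
        simp only [commutatorElement_def]; group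
      have c6 : Commute f (v * g * w * v⁻¹) := ((c1.mul_right c3).mul_right c2).mul_right c1.inv_right
      have c7 : Commute g (v * w * v⁻¹ * w⁻¹) := ((c4.mul_right c5).mul_right c4.inv_right).mul_right c5.inv_right
      have e3 : f * (v * g * w * v⁻¹) * f⁻¹ = v * g * w * v⁻¹ := by
        rw [c6.eq]; group
      have e4 : v * g * w * v⁻¹ * w⁻¹ * g⁻¹ = v * w * v⁻¹ * w⁻¹ := by
        have : v * g = g * v := c4.eq.symm
        calc v * g * w * v⁻¹ * w⁻¹ * g⁻¹ = g * (v * w * v⁻¹ * w⁻¹) * g⁻¹ := by rw [this]; group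
          _ = v * w * v⁻¹ * w⁻¹ := by rw [c7.eq]; group
      rw [e2, e3, e4, commutatorElement_def]
    rw [e1]
    exact h1 _ (inv_mem (hVX v hv x hx)) _ (inv_mem (hVX w hw x hx))
  have hδX : ∀ x ∈ X, ∀ x' ∈ X, x' * ⁅v₀, x⁆ * x'⁻¹ = ⁅v₀, x⁆ := by
    intro x hx x' hx'
    obtain ⟨y, hy, k, ⟨hkX, hkV⟩, rfl⟩ := hgen x hx
    have hyX : y ∈ X := by
      have e : y = (y * k) * k⁻¹ := by group
      rw [e]
      exact mul_mem hx (inv_mem hkX)
    have e1 : ⁅v₀, y * k⁆ = ⁅v₀, k⁆ := by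
      have h1 := hXV v₀ hv₀V k hkV y hyX
      have h2 : ⁅v₀, y⁆ = 1 := commutatorElement_eq_one_iff_mul_comm.2 (hv₀y y hy).eq
      have e2 : ⁅v₀, y * k⁆ = ⁅v₀, y⁆ * (y * ⁅v₀, k⁆ * y⁻¹) := by
        simp only [commutatorElement_def]; group
      rw [e2, h1, h2, one_mul]
    rw [e1]
    exact hXV v₀ hv₀V k hkV x' hx'
  have hδm : ∀ x ∈ X, ∀ x' ∈ X, ⁅v₀, x * x'⁆ = ⁅v₀, x⁆ * ⁅v₀, x'⁆ := by
    intro x hx x' hx'
    have e2 : ⁅v₀, x * x'⁆ = ⁅v₀, x⁆ * (x * ⁅v₀, x'⁆ * x⁻¹) := by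
      simp only [commutatorElement_def]; group
    rw [e2, hδX x' hx' x hx]
  have hK : X ≤ centralizer {v₀} := by
    refine hXA _ ?_
    intro x hx a ha
    rw [mem_centralizer_singleton_iff]
    have hxa := mul_mem hx (hAX ha)
    have h1 : ⁅v₀, x * a * x⁻¹⁆ = 1 := by
      rw [hδm _ hxa _ (inv_mem hx), hδm x hx a (hAX ha), commutatorElement_eq_one_iff_mul_comm.2 (hv₀A a ha).eq,
        mul_one, ← hδm x hx _ (inv_mem hx), mul_inv_cancel, commutatorElement_one_right]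
    exact (commutatorElement_eq_one_iff_mul_comm.1 h1).symm
  refine ⟨e * z, mul_mem he hz, v₀, hv₀V, ?_, ?_⟩
  · intro x hx
    have := hK hx
    rw [mem_centralizer_singleton_iff] at this
    exact this.symm
  · rw [hvec, hv₀]; group

end Cfsg.Agent.ClassTwoFusion.CentLocal
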