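import Cfsg.Agent.ClassTwoFusion.CentLocal
import Cfsg.Agent.ClassTwoFusion.CentAMain

/-!
# One side of an edge: `C_G(E) = E J`

`E` is one side of an edge (`CentA.Side`), `M = C_G(E)`, `X = ⟨𝒜 ∩ N_G(E)⟩`.  If `S = A C_S(A)`, then `M = E J` where
`J = {m ∈ M | [m, X] ≤ O(M)}`.
-/

set_option autoImplicit false
set_option linter.style.haveILetI false

namespace Cfsg.Agent.ClassTwoFusion.CentSide

universe u

open Subgroup
open scoped commutatorElement Pointwise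
open Cfsg.Agent.Lib.GoldschmidtFusion
open Cfsg.Agent.TwoFusion.ClosedFam
open Cfsg.Agent.ClassTwoFusion.RelAlperin
open Cfsg.Agent.ClassTwoFusion.OneEdge
open Cfsg.Agent.ClassTwoFusion.CentLocal
open Cfsg.Agent.ClassTwoFusion.CentA
open Cfsg.Agent.ClassTwo.Sp4Defs

/-! ### Cores -/

theorem core_conj_mem {G : Type*} [Group G] [Finite G] {M : Subgroup G} {g x : G} (hg : g ∈ normalizer (M : Set G))
    (hx : x ∈ core M) : g * x * g⁻¹ ∈ core M := by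
  have h1 : (core M).map (MulAut.conj g).toMonoidHom ≤ core M := by
    refine le_core ?_ ?_ ?_
    · have := map_conj_mono (core_le M) g
      rwa [mem_normalizer_iff_map_conj.1 hg] at this
    · rintro m hm k hk
      rw [mem_map_conj] at hk ⊢
      obtain ⟨y, hy, hyk⟩ := hk
      have hm' : g⁻¹ * m * g ∈ M := by
        have := (mem_normalizer_iff.1 (inv_mem hg) m).1 hm
        simpa using this
      haveI := Cfsg.Agent.Lib.Cores.pPrimeCore_characteristic (G := M) 2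
      have hn : (Cfsg.oddCore ↥M).Normal := by
        unfold Cfsg.oddCore
        infer_instance
      refine ⟨⟨g⁻¹ * m * g, hm'⟩ * y * ⟨g⁻¹ * m * g, hm'⟩⁻¹, hn.conj_mem y hy _, ?_⟩
      have e : g⁻¹ * (m * k * m⁻¹) * g = (g⁻¹ * m * g) * (g⁻¹ * k * g) * (g⁻¹ * m * g)⁻¹ := by group
      rw [e, ← hyk]
      rfl
    · rw [card_map_conj]
      exact core_odd M
  exact h1 (conj_mem_map_conj hx g)

theorem normalizer_le_core {G : Type*} [Group G] [Finite G] (M : Subgroup G) :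
    normalizer (M : Set G) ≤ normalizer (core M : Set G) := by
  intro g hg
  rw [mem_normalizer_iff]
  intro x
  refine ⟨core_conj_mem hg, fun hx => ?_⟩
  have := core_conj_mem (inv_mem hg) hx
  have e : g⁻¹ * (g * x * g⁻¹) * g⁻¹⁻¹ = x := by group
  rwa [e] at this

theorem mem_core_of_subgroupOf {G : Type*} [Group G] [Finite G] {Γ M : Subgroup G} (hMΓ : M ≤ Γ) {o : ↥Γ}
    (ho : o ∈ core (M.subgroupOf Γ)) : (o : G) ∈ core M := by
  have h1 : (core (M.subgroupOf Γ)).map Γ.subtype ≤ core M := by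
    refine le_core ?_ ?_ ?_
    · rintro _ ⟨x, hx, rfl⟩
      exact mem_subgroupOf.1 (core_le _ hx)
    · rintro m hm _ ⟨x, hx, rfl⟩
      refine ⟨⟨m, hMΓ hm⟩ * x * ⟨m, hMΓ hm⟩⁻¹, ?_, rfl⟩
      exact core_conj_mem (le_normalizer (mem_subgroupOf.2 hm)) hx
    · rw [card_map_of_injective Γ.subtype_injective]
      exact core_odd _
  exact h1 ⟨o, ho, rfl⟩

/-- Lemma Z inside a subgroup `Γ`. -/
theorem comm_mem_sub {G : Type u} [Group G] [Finite G] {𝒜 : Set G} (h : IsClosedFam 𝒜) {Γ M E₀ : Subgroup G}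
    (hMΓ : M ≤ Γ) (hΓM : Γ ≤ normalizer (M : Set G)) (hΓE : Γ ≤ normalizer (E₀ : Set G)) (hE2 : IsPGroup 2 E₀)
    (hEM : E₀ ≤ M) (hc : ∀ e ∈ E₀, ∀ m ∈ M, e * m = m * e) (hA : ∀ a ∈ 𝒜, a ∈ M → a ∈ E₀) :
    ∀ a ∈ 𝒜, a ∈ Γ → ∀ m ∈ M, ∃ e ∈ E₀, ∃ o ∈ core M, ⁅m, a⁆ = e * o := by
  intro a ha haΓ m hm
  haveI hMn : (M.subgroupOf Γ).Normal := (normal_subgroupOf_iff_le_normalizer hMΓ).2 hΓM
  haveI hEn : (E₀.subgroupOf Γ).Normal := (normal_subgroupOf_iff_le_normalizer (hEM.trans hMΓ)).2 hΓE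
  obtain ⟨e, he, o, ho, heo⟩ := comm_mem (h.restrict Γ) (M.subgroupOf Γ) (E₀.subgroupOf Γ) hE2.comap_subtype
    (fun x hx => mem_subgroupOf.2 (hEM (mem_subgroupOf.1 hx)))
    (fun e he m hm => Subtype.ext (hc _ (mem_subgroupOf.1 he) _ (mem_subgroupOf.1 hm)))
    (fun a ha haM => mem_subgroupOf.2 (hA _ ha (mem_subgroupOf.1 haM))) ⟨a, haΓ⟩ ha ⟨m, hMΓ hm⟩ (mem_subgroupOf.2 hm)
  exact ⟨e, mem_subgroupOf.1 he, o, mem_core_of_subgroupOf hMΓ ho, congrArg Subtype.val heo⟩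

/-! ### Sylow subgroups -/

section Syl

variable {G : Type*} [Group G] [Finite G] {𝒜 : Set G}

theorem syl_of_le (h : IsClosedFam 𝒜) {A H K : Subgroup G} (hA : IsSyl 𝒜 H A) (hKH : K ≤ H) (hAK : A ≤ K) :
    IsSyl 𝒜 K A := by
  obtain ⟨R, hAR, hR⟩ := exists_isSyl h hAK hA.two hA.sub
  have h1 : A = R := Subgroup.eq_of_le_of_card_ge hAR (hA.card_le (hR.le.trans hKH) hR.two hR.sub)
  rwa [← h1] at hR

omit [Finite G] in
theorem exists_conj_mem (h : IsClosedFam 𝒜) {A H : Subgroup G} (hA : IsSyl 𝒜 H A) {a : G} (ha : a ∈ 𝒜) (haH : a ∈ H) :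
    ∃ x ∈ H, x * a * x⁻¹ ∈ A := by
  obtain ⟨x, hx, hle⟩ := hA.conj (zpowers a) (by rwa [zpowers_le]) (h.isPGroup_zpowers ha)
    (fun y hy => h.zpowers_subset ha hy)
  exact ⟨x, hx, hle (conj_mem_map_conj (mem_zpowers a) x)⟩

omit [Finite G] in
theorem fam_le_of_conj (h : IsClosedFam 𝒜) {A H : Subgroup G} (hA : IsSyl 𝒜 (fam 𝒜 H) A) (K : Subgroup G)
    (hK : ∀ x ∈ fam 𝒜 H, ∀ a ∈ A, x * a * x⁻¹ ∈ K) : fam 𝒜 H ≤ K := by
  rw [fam_le_iff]
  intro a ha haH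
  obtain ⟨x, hx, hxa⟩ := exists_conj_mem h hA ha (mem_fam ha haH)
  have := hK x⁻¹ (inv_mem hx) _ hxa
  have e : x⁻¹ * (x * a * x⁻¹) * x⁻¹⁻¹ = a := by group
  rwa [e] at this

end Syl

/-! ### The side -/

section Side

variable {G : Type u} [Group G] [Finite G] {F : Type*} [Field F] {𝒜 : Set G} (h : IsClosedFam 𝒜) {A E : Subgroup G}
  (D : Side F 𝒜 A E) (hA : IsSyl 𝒜 ⊤ A)
include h D hA

theorem syl_normalizer : IsSyl 𝒜 (normalizer (E : Set G)) A := syl_of_le h hA le_top D.norm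

theorem syl_XG : IsSyl 𝒜 (XG 𝒜 E) A := syl_of_le h hA le_top D.le_XG

theorem mem_of_mem_centralizer {a : G} (ha : a ∈ 𝒜) (hc : a ∈ centralizer (E : Set G)) : a ∈ E := by
  have hN : normalizer (E : Set G) ≤ normalizer (centralizer (E : Set G) : Set G) := by
    intro g hg
    rw [mem_normalizer_iff_map_conj]
    ext x
    rw [mem_map_conj, ← mem_centralizer_map_conj, mem_normalizer_iff_map_conj.1 hg]
  have h1 := (syl_normalizer h D hA).inf_normal h (centralizer_le_normalizer _) hN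
  obtain ⟨x, hx, hxa⟩ := exists_conj_mem h h1 ha hc
  have h2 : x * a * x⁻¹ ∈ E := D.cent ⟨hxa.2, hxa.1⟩
  have h3 : x⁻¹ * (x * a * x⁻¹) * x⁻¹⁻¹ = x * a * x⁻¹ := conj_eq_of_mem_centralizer (inv_mem hx) h2
  have e : x⁻¹ * (x * a * x⁻¹) * x⁻¹⁻¹ = a := by group
  rw [e] at h3
  rwa [h3]

/-- The Weyl element. -/
theorem exists_weyl : ∃ n ∈ XG 𝒜 E,
    (∀ x ∈ XG 𝒜 E, ∃ y ∈ A ⊔ A.map (MulAut.conj n).toMonoidHom, ∃ k ∈ XG 𝒜 E, k ∈ centralizer (E : Set G) ∧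
      x = y * k) ∧
    (∀ e ∈ E, ∃ z ∈ E, ∃ z' ∈ E, (∀ a ∈ A, z * a = a * z) ∧ (∀ a ∈ A, z' * (n * a * n⁻¹) = (n * a * n⁻¹) * z') ∧
      e = z * z') := by
  have := D.charP
  have := D.finite
  obtain ⟨φ, hsurj, hker, hup, hup'⟩ := D.exists_hom
  obtain ⟨⟨n, hn⟩, hφn⟩ := hsurj (w F)
  have hAX := D.le_XG
  have hnE : n ∈ normalizer (E : Set G) := fam_le 𝒜 _ hn
  set Y := A ⊔ A.map (MulAut.conj n).toMonoidHom with hY
  have hYX : Y ≤ XG 𝒜 E := by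
    refine sup_le hAX ?_
    rintro _ ⟨a, ha, rfl⟩
    exact mul_mem (mul_mem hn (hAX ha)) (inv_mem hn)
  have hfac : ∀ x ∈ XG 𝒜 E, ∃ y ∈ Y, ∃ k ∈ XG 𝒜 E, k ∈ centralizer (E : Set G) ∧ x = y * k := by
    intro x hx
    have htop : (Y.subgroupOf (XG 𝒜 E)).map φ = ⊤ := by
      apply Cfsg.Agent.ClassTwo.Sp4SL2.eq_top_of_uv
      · intro t
        obtain ⟨y, hy, hyt⟩ := hup' t
        exact ⟨y, mem_subgroupOf.2 (mem_sup_left hy), hyt⟩
      · intro t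
        obtain ⟨y, hy, hyt⟩ := hup' (-t)
        refine ⟨⟨n, hn⟩ * y * ⟨n, hn⟩⁻¹, ?_, ?_⟩
        · refine mem_subgroupOf.2 (mem_sup_right ?_)
          exact conj_mem_map_conj hy n
        · rw [map_mul, map_mul, map_inv, hφn, hyt, Cfsg.Agent.ClassTwo.Sp4SL2.w_conj_u, neg_neg]
    obtain ⟨y, hy, hyx⟩ : φ ⟨x, hx⟩ ∈ (Y.subgroupOf (XG 𝒜 E)).map φ := by rw [htop]; trivial
    refine ⟨y, mem_subgroupOf.1 hy, (y : G)⁻¹ * x, mul_mem (inv_mem y.2) hx, ?_, by group⟩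
    have h1 : φ (y⁻¹ * ⟨x, hx⟩) = 1 := by rw [map_mul, map_inv, hyx, inv_mul_cancel]
    exact (hker _).1 h1
  refine ⟨n, hn, hfac, ?_⟩
  set Z : Subgroup G := E ⊓ centralizer (A : Set G) with hZ
  set Z' : Subgroup G := Z.map (MulAut.conj n).toMonoidHom with hZ'
  have hZZ : Z ⊓ Z' ≤ E ⊓ centralizer (XG 𝒜 E : Set G) := by
    intro x hx
    obtain ⟨hx1, hx2⟩ := mem_inf.1 hx
    refine mem_inf.2 ⟨hx1.1, ?_⟩
    rw [mem_centralizer_iff]
    intro g hg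
    obtain ⟨y, hy, k, hk, hkE, rfl⟩ := hfac g hg
    have h1 : Y ≤ centralizer ({x} : Set G) := by
      refine sup_le ?_ ?_
      · intro a ha
        rw [mem_centralizer_singleton_iff]
        exact (mem_centralizer_iff.1 hx1.2) a ha
      · rintro _ ⟨a, ha, rfl⟩
        rw [mem_centralizer_singleton_iff]
        rw [hZ', mem_map_conj] at hx2
        have h2 : a * (n⁻¹ * x * n) = n⁻¹ * x * n * a := (mem_centralizer_iff.1 hx2.2) a ha
        change n * a * n⁻¹ * x = x * (n * a * n⁻¹)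
        calc n * a * n⁻¹ * x = n * (a * (n⁻¹ * x * n)) * n⁻¹ := by group
          _ = x * (n * a * n⁻¹) := by rw [h2]; group
    have h2 : y * x = x * y := mem_centralizer_singleton_iff.1 (h1 hy)
    have h3 : k * x = x * k := ((mem_centralizer_iff.1 hkE) x hx1.1).symm
    rw [mul_assoc, h3, ← mul_assoc, h2, mul_assoc]
  have hsub : (Z : Set G) * (Z' : Set G) ⊆ (E : Set G) := by
    rintro _ ⟨z, hz, z', hz', rfl⟩
    refine E.mul_mem hz.1 ?_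
    obtain ⟨y, hy, rfl⟩ := hz'
    exact (mem_normalizer_iff.1 hnE y).1 hy.1
  have hcard : Nat.card E ≤ Nat.card ((Z : Set G) * (Z' : Set G) : Set G) := by
    have h1 := Cfsg.Agent.Lib.ProductSet.card_mul_card_inf Z Z'
    have h2 : Nat.card Z' = Nat.card Z := card_map_conj Z n
    have h3 : Nat.card ↥(Z ⊓ Z') ≤ Nat.card ↥(E ⊓ centralizer (XG 𝒜 E : Set G)) := Subgroup.card_le_of_le hZZ
    have h4 := D.cardE
    have h5 := D.cardZ
    rw [← hZ] at h4 h5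
    rw [h2] at h1
    have h6 : 0 < Nat.card ↥(E ⊓ centralizer (XG 𝒜 E : Set G)) := Nat.card_pos
    refine Nat.le_of_mul_le_mul_right ?_ h6
    calc Nat.card ↥E * Nat.card ↥(E ⊓ centralizer (XG 𝒜 E : Set G))
        = Nat.card Z * (Nat.card F * Nat.card ↥(E ⊓ centralizer (XG 𝒜 E : Set G))) := by rw [h4]; ring
      _ = Nat.card Z * Nat.card Z := by rw [h5]
      _ = Nat.card ((Z : Set G) * (Z' : Set G) : Set G) * Nat.card ↥(Z ⊓ Z') := h1.symm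
      _ ≤ _ := Nat.mul_le_mul_left _ h3
  have heq : (Z : Set G) * (Z' : Set G) = (E : Set G) := by
    refine Set.eq_of_subset_of_ncard_le hsub ?_ (Set.toFinite _)
    rwa [← Nat.card_coe_set_eq, ← Nat.card_coe_set_eq]
  intro e he
  have he' : e ∈ (E : Set G) := he
  rw [← heq] at he'
  obtain ⟨z, hz, z', hz', rfl⟩ := he'
  refine ⟨z, hz.1, z', ?_, ?_, ?_, rfl⟩
  · obtain ⟨y, hy, rfl⟩ := hz'
    exact (mem_normalizer_iff.1 hnE y).1 hy.1
  · intro a ha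
    exact ((mem_centralizer_iff.1 hz.2) a ha).symm
  · intro a ha
    obtain ⟨y, hy, rfl⟩ := hz'
    change n * y * n⁻¹ * (n * a * n⁻¹) = n * a * n⁻¹ * (n * y * n⁻¹)
    have h2 : a * y = y * a := (mem_centralizer_iff.1 hy.2) a ha
    calc n * y * n⁻¹ * (n * a * n⁻¹) = n * (y * a) * n⁻¹ := by group
      _ = n * a * n⁻¹ * (n * y * n⁻¹) := by rw [← h2]; group

omit h D hA in
/-- the 2-part of an element whose image is a 2-element -/
theorem exists_two_part {Γ H : Type*} [Group Γ] [Finite Γ] [Group H] (π : Γ →* H) (x : Γ)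
    (hx : ∃ j : ℕ, (π x) ^ 2 ^ j = 1) : ∃ i : ℤ, (∃ k : ℕ, (x ^ i) ^ 2 ^ k = 1) ∧ π (x ^ i) = π x := by
  obtain ⟨j, hj⟩ := hx
  obtain ⟨k, m, hm, hkm⟩ := Nat.exists_eq_pow_mul_and_not_dvd (orderOf_pos x).ne' 2 (by norm_num)
  have hcop : Nat.Coprime (2 ^ k) m := Nat.Coprime.pow_left k ((Nat.Prime.coprime_iff_not_dvd Nat.prime_two).2 hm)
  obtain ⟨r, s, hrs⟩ : ∃ r s : ℤ, r * 2 ^ k + s * m = 1 := by
    have := Int.isCoprime_iff_gcd_eq_one.2 (by rw [Int.gcd_natCast_natCast]; exact hcop)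
    obtain ⟨r, s, h⟩ := this
    exact ⟨r, s, by push_cast at h; exact h⟩
  have hv1 : x ^ orderOf x = 1 := pow_orderOf_eq_one x
  refine ⟨s * m, ⟨k, ?_⟩, ?_⟩
  · rw [← zpow_natCast, ← zpow_mul]
    have e : s * (m : ℤ) * ((2 ^ k : ℕ) : ℤ) = (orderOf x : ℤ) * s := by rw [hkm]; push_cast; ring
    rw [e, zpow_mul, zpow_natCast, hv1, one_zpow]
  · have h1 : (π x) ^ (r * 2 ^ k) = 1 := by
      have h2 : ((π x) ^ (r * 2 ^ k)) ^ m = 1 := by
        rw [← zpow_natCast, ← zpow_mul]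
        have e : r * 2 ^ k * (m : ℤ) = (orderOf x : ℤ) * r := by rw [hkm]; push_cast; ring
        rw [e, zpow_mul, zpow_natCast, ← map_pow, hv1, map_one, one_zpow]
      have h3 : ((π x) ^ (r * 2 ^ k)) ^ 2 ^ j = 1 := by
        rw [← zpow_natCast, ← zpow_mul]
        have e : r * 2 ^ k * ((2 ^ j : ℕ) : ℤ) = ((2 ^ j : ℕ) : ℤ) * (r * 2 ^ k) := by ring
        rw [e, zpow_mul, zpow_natCast, hj, one_zpow]
      have h4 : orderOf ((π x) ^ (r * 2 ^ k)) ∣ Nat.gcd (2 ^ j) m :=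
        Nat.dvd_gcd (orderOf_dvd_of_pow_eq_one h3) (orderOf_dvd_of_pow_eq_one h2)
      have h5 : Nat.gcd (2 ^ j) m = 1 := Nat.Coprime.pow_left j ((Nat.Prime.coprime_iff_not_dvd Nat.prime_two).2 hm)
      rw [h5, Nat.dvd_one, orderOf_eq_one_iff] at h4
      exact h4
    rw [map_zpow]
    calc (π x) ^ (s * (m : ℤ)) = (π x) ^ (r * 2 ^ k) * (π x) ^ (s * (m : ℤ)) := by rw [h1, one_mul]
      _ = (π x) ^ (r * 2 ^ k + s * (m : ℤ)) := by rw [zpow_add]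
      _ = π x := by rw [hrs, zpow_one]

/-- **`C_G(E) = E J`.** -/
theorem exists_mul (hT : ∀ m ∈ centralizer (E : Set G), (∃ k : ℕ, m ^ 2 ^ k = 1) → ∃ g ∈ centralizer (E : Set G),
      ∃ e ∈ E, ∃ c ∈ centralizer (E : Set G), (∀ a ∈ A, c * a = a * c) ∧ g * m * g⁻¹ = e * c) :
    ∀ m ∈ centralizer (E : Set G), ∃ e ∈ E, ∃ j ∈ centralizer (E : Set G),
      (∀ x ∈ XG 𝒜 E, ⁅j, x⁆ ∈ core (centralizer (E : Set G))) ∧ m = e * j := by
  obtain ⟨n, hn, hfac, hZ⟩ := exists_weyl h D hA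
  set Γ : Subgroup G := normalizer (E : Set G) with hΓ
  set M : Subgroup G := centralizer (E : Set G) with hM
  have hMΓ : M ≤ Γ := centralizer_le_normalizer _
  have hΓM : Γ ≤ normalizer (M : Set G) := by
    intro g hg
    rw [mem_normalizer_iff_map_conj]
    ext x
    rw [mem_map_conj, hM, ← mem_centralizer_map_conj, mem_normalizer_iff_map_conj.1 hg]
  have hΓO : Γ ≤ normalizer (core M : Set G) := hΓM.trans (normalizer_le_core M)
  have hOΓ : core M ≤ Γ := (core_le M).trans hMΓ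
  have hEM : E ≤ M := by
    intro x hx
    rw [hM, mem_centralizer_iff]
    intro y hy
    exact CentAMain.comm_of_sq D.sq hy hx
  have hEΓ : E ≤ Γ := hEM.trans hMΓ
  have hXΓ : XG 𝒜 E ≤ Γ := fam_le 𝒜 _
  have hAX : A ≤ XG 𝒜 E := D.le_XG
  have hnΓ : n ∈ Γ := hXΓ hn
  haveI hOn : ((core M).subgroupOf Γ).Normal := (normal_subgroupOf_iff_le_normalizer hOΓ).2 hΓO
  haveI hMn : (M.subgroupOf Γ).Normal := (normal_subgroupOf_iff_le_normalizer hMΓ).2 hΓM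
  haveI hEn : (E.subgroupOf Γ).Normal := (normal_subgroupOf_iff_le_normalizer hEΓ).2 le_rfl
  haveI hXn : ((XG 𝒜 E).subgroupOf Γ).Normal :=
    (normal_subgroupOf_iff_le_normalizer hXΓ).2 (h.le_normalizer_fam Γ)
  set π := QuotientGroup.mk' ((core M).subgroupOf Γ) with hπ
  have hs : Function.Surjective π := QuotientGroup.mk'_surjective _
  have hker : ∀ x : ↥Γ, π x = 1 ↔ (x : G) ∈ core M := fun x => by
    rw [hπ, QuotientGroup.mk'_apply, QuotientGroup.eq_one_iff, mem_subgroupOf]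
  haveI hMn' : ((M.subgroupOf Γ).map π).Normal := hMn.map π hs
  haveI hEn' : ((E.subgroupOf Γ).map π).Normal := hEn.map π hs
  haveI hXn' : (((XG 𝒜 E).subgroupOf Γ).map π).Normal := hXn.map π hs
  -- `[M, X] ≤ E O(M)`
  have hVX : ∀ v ∈ (M.subgroupOf Γ).map π, ∀ x ∈ ((XG 𝒜 E).subgroupOf Γ).map π, ⁅v, x⁆ ∈ (E.subgroupOf Γ).map π := by
    let K : Subgroup (↥Γ ⧸ (core M).subgroupOf Γ) :=
      { carrier := {x | ∀ v ∈ (M.subgroupOf Γ).map π, ⁅v, x⁆ ∈ (E.subgroupOf Γ).map π}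
        mul_mem' := by
          intro x y hx hy v hv
          have e : ⁅v, x * y⁆ = ⁅v, x⁆ * (x * ⁅v, y⁆ * x⁻¹) := by
            simp only [commutatorElement_def]; group
          rw [e]
          exact mul_mem (hx v hv) (hEn'.conj_mem _ (hy v hv) x)
        one_mem' := by
          intro v hv
          rw [commutatorElement_one_right]
          exact one_mem _
        inv_mem' := by
          intro x hx v hv
          have e : ⁅v, x⁻¹⁆ = x⁻¹ * ⁅v, x⁆⁻¹ * x⁻¹⁻¹ := by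
            simp only [commutatorElement_def]; group
          rw [e]
          exact hEn'.conj_mem _ (inv_mem (hx v hv)) x⁻¹ }
    have hXK : XG 𝒜 E ≤ (K.comap π).map Γ.subtype := by
      rw [fam_le_iff]
      intro a ha haΓ
      refine ⟨⟨a, haΓ⟩, ?_, rfl⟩
      rintro _ ⟨⟨m, hmΓ⟩, hm, rfl⟩
      obtain ⟨e, he, o, ho, heo⟩ := comm_mem_sub h hMΓ hΓM le_rfl
        (D.two.to_le D.le) hEM (fun e he m hm => (mem_centralizer_iff.1 hm) e he)
        (fun a ha haM => mem_of_mem_centralizer h D hA ha haM) a ha haΓ m (mem_subgroupOf.1 hm)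
      refine ⟨⟨e, hEΓ he⟩, mem_subgroupOf.2 he, ?_⟩
      rw [← map_commutatorElement, ← mul_inv_eq_one, ← map_inv, ← map_mul, hker]
      have e2 : (((⟨e, hEΓ he⟩ : ↥Γ) * ⁅(⟨m, hmΓ⟩ : ↥Γ), (⟨a, haΓ⟩ : ↥Γ)⁆⁻¹ : ↥Γ) : G) = e * (e * o)⁻¹ := by
        rw [← heo]
        rfl
      rw [e2]
      have e1 : e * (e * o)⁻¹ = e * o⁻¹ * e⁻¹ := by group
      rw [e1]
      exact core_conj_mem (hΓM (hEΓ he)) (inv_mem ho)
    rintro v hv _ ⟨x, hx, rfl⟩
    obtain ⟨y, hy, hyx⟩ := hXK (mem_subgroupOf.1 hx)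
    have hyx' : y = x := Subtype.ext hyx
    rw [← hyx']
    exact hy v hv
  have hXA : ∀ K : Subgroup (↥Γ ⧸ (core M).subgroupOf Γ), (∀ x ∈ ((XG 𝒜 E).subgroupOf Γ).map π,
      ∀ a ∈ (A.subgroupOf Γ).map π, x * a * x⁻¹ ∈ K) → ((XG 𝒜 E).subgroupOf Γ).map π ≤ K := by
    intro K hK
    have hXK : XG 𝒜 E ≤ (K.comap π).map Γ.subtype := by
      refine fam_le_of_conj h (syl_XG h D hA) _ ?_
      intro x hx a ha
      refine ⟨⟨x, hXΓ hx⟩ * ⟨a, hXΓ (hAX ha)⟩ * ⟨x, hXΓ hx⟩⁻¹, ?_, rfl⟩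
      rw [SetLike.mem_coe, mem_comap, map_mul, map_mul, map_inv]
      exact hK _ ⟨_, mem_subgroupOf.2 hx, rfl⟩ _ ⟨_, mem_subgroupOf.2 ha, rfl⟩
    rintro _ ⟨x, hx, rfl⟩
    obtain ⟨y, hy, hyx⟩ := hXK (mem_subgroupOf.1 hx)
    have hyx' : y = x := Subtype.ext hyx
    rw [← hyx']
    exact hy
  have key := exists_mul_comm ((E.subgroupOf Γ).map π) ((M.subgroupOf Γ).map π) (((XG 𝒜 E).subgroupOf Γ).map π)
    ((A.subgroupOf Γ).map π) (π ⟨n, hnΓ⟩)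
    (Subgroup.map_mono (fun x hx => mem_subgroupOf.2 (hEM (mem_subgroupOf.1 hx))))
    (by
      rintro _ ⟨e, he, rfl⟩ _ ⟨m, hm, rfl⟩
      rw [← map_mul, ← map_mul]
      congr 1
      exact Subtype.ext ((mem_centralizer_iff.1 (mem_subgroupOf.1 hm)) e (mem_subgroupOf.1 he)))
    hVX
    (Subgroup.map_mono (fun x hx => mem_subgroupOf.2 (hAX (mem_subgroupOf.1 hx))))
    hXA
    ((D.two.to_le D.le).comap_subtype.map π)
    (by
      rintro _ ⟨m, hm, rfl⟩ hk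
      obtain ⟨i, hi, him⟩ := exists_two_part π m hk
      obtain ⟨k, hik⟩ := hi
      have hmM : ((m ^ i : ↥Γ) : G) ∈ M := by
        rw [SubgroupClass.coe_zpow]
        exact zpow_mem (mem_subgroupOf.1 hm) i
      obtain ⟨g, hg, e, he, c, hc, hcA, hgc⟩ := hT _ hmM ⟨k, congrArg Subtype.val hik⟩
      refine ⟨π ⟨g, hMΓ hg⟩, ⟨_, mem_subgroupOf.2 hg, rfl⟩, π ⟨e, hEΓ he⟩, ⟨_, mem_subgroupOf.2 he, rfl⟩,
        π ⟨c, hMΓ hc⟩, ⟨_, mem_subgroupOf.2 hc, rfl⟩, ?_, ?_⟩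
      · rintro _ ⟨a, ha, rfl⟩
        rw [← map_mul, ← map_mul]
        congr 1
        exact Subtype.ext (hcA a (mem_subgroupOf.1 ha))
      · rw [← him, ← map_mul, ← map_inv, ← map_mul, ← map_mul]
        congr 1
        exact Subtype.ext hgc)
    ⟨_, mem_subgroupOf.2 hn, rfl⟩
    (by
      rintro _ ⟨x, hx, rfl⟩
      obtain ⟨y, hy, k, hkX, hkM, hxyk⟩ := hfac x (mem_subgroupOf.1 hx)
      have hyX : y ∈ XG 𝒜 E := by
        have e : y = (x : G) * k⁻¹ := by rw [hxyk]; group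
        rw [e]
        exact mul_mem (mem_subgroupOf.1 hx) (inv_mem hkX)
      refine ⟨π ⟨y, hXΓ hyX⟩, ?_, π ⟨k, hXΓ hkX⟩, ⟨⟨_, mem_subgroupOf.2 hkX, rfl⟩, ⟨_, mem_subgroupOf.2 hkM, rfl⟩⟩, ?_⟩
      · have h1 : A ⊔ A.map (MulAut.conj n).toMonoidHom ≤
            (((A.subgroupOf Γ).map π ⊔ ((A.subgroupOf Γ).map π).map (MulAut.conj (π ⟨n, hnΓ⟩)).toMonoidHom).comap π).map
              Γ.subtype := by
          refine sup_le ?_ ?_
          · intro a ha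
            exact ⟨⟨a, hXΓ (hAX ha)⟩, mem_sup_left ⟨_, mem_subgroupOf.2 ha, rfl⟩, rfl⟩
          · rintro _ ⟨a, ha, rfl⟩
            refine ⟨⟨n, hnΓ⟩ * ⟨a, hXΓ (hAX ha)⟩ * ⟨n, hnΓ⟩⁻¹, ?_, rfl⟩
            refine mem_sup_right ?_
            rw [map_mul, map_mul, map_inv]
            have h3 : π ⟨a, hXΓ (hAX ha)⟩ ∈ (A.subgroupOf Γ).map π := ⟨_, mem_subgroupOf.2 ha, rfl⟩
            exact conj_mem_map_conj h3 _
        obtain ⟨y', hy', hyy⟩ := h1 hy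
        have e : y' = ⟨y, hXΓ hyX⟩ := Subtype.ext hyy
        rw [← e]
        exact hy'
      · rw [← map_mul]
        congr 1
        exact Subtype.ext hxyk)
    (by
      rintro _ ⟨e, he, rfl⟩
      obtain ⟨z, hz, z', hz', hzA, hzn, hzz⟩ := hZ e (mem_subgroupOf.1 he)
      refine ⟨π ⟨z, hEΓ hz⟩, ⟨_, mem_subgroupOf.2 hz, rfl⟩, π ⟨z', hEΓ hz'⟩, ⟨_, mem_subgroupOf.2 hz', rfl⟩, ?_, ?_, ?_⟩
      · rintro _ ⟨a, ha, rfl⟩
        rw [← map_mul, ← map_mul]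
        congr 1
        exact Subtype.ext (hzA a (mem_subgroupOf.1 ha))
      · rintro _ ⟨a, ha, rfl⟩
        rw [← map_inv, ← map_mul, ← map_mul, ← map_mul, ← map_mul]
        congr 1
        exact Subtype.ext (hzn a (mem_subgroupOf.1 ha))
      · rw [← map_mul]
        congr 1
        exact Subtype.ext hzz)
  intro m hm
  obtain ⟨_, ⟨e, he, rfl⟩, j, -, hj, hmj⟩ := key (π ⟨m, hMΓ hm⟩) ⟨_, mem_subgroupOf.2 hm, rfl⟩
  have heE : (e : G) ∈ E := mem_subgroupOf.1 he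
  refine ⟨e, heE, (e : G)⁻¹ * m, mul_mem (inv_mem (hEM heE)) hm, ?_, by group⟩
  intro x hx
  have h1 : π (e⁻¹ * ⟨m, hMΓ hm⟩) = j := by rw [map_mul, hmj, map_inv, inv_mul_cancel_left]
  have h2 : ⁅π (e⁻¹ * ⟨m, hMΓ hm⟩), π ⟨x, hXΓ hx⟩⁆ = 1 := by
    rw [h1]
    exact commutatorElement_eq_one_iff_mul_comm.2 (hj _ ⟨_, mem_subgroupOf.2 hx, rfl⟩)
  rw [← map_commutatorElement, hker] at h2
  exact h2

end Side

end Cfsg.Agent.ClassTwoFusion.CentSide
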