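import Cfsg.Agent.ClassTwoFusion.CentSide
import Cfsg.Agent.TwoFusion.ClosedLocal

/-!
# The subgroup `C* = S ∩ J₁ ∩ J₂` is strongly closed

`J_i = {m ∈ C_G(E_i) | [m, X_i] ≤ O(C_G(E_i))}`.  If `S = A C_S(A)`, then `C* = S ∩ J₁ ∩ J₂` is strongly closed in `S`.
-/

set_option autoImplicit false
set_option linter.style.haveILetI false

namespace Cfsg.Agent.ClassTwoFusion.CentStar

universe u

open Subgroup
open scoped commutatorElement Pointwise
open Cfsg.Agent.Lib.GoldschmidtFusion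
open Cfsg.Agent.TwoFusion.ClosedFam
open Cfsg.Agent.ClassTwoFusion.RelAlperin
open Cfsg.Agent.ClassTwoFusion.OneEdge
open Cfsg.Agent.ClassTwoFusion.CentLocal
open Cfsg.Agent.ClassTwoFusion.CentSide
open Cfsg.Agent.ClassTwoFusion.CentA

/-! ### Generalities -/

section General

variable {G : Type*} [Group G]

theorem isPGroup_zpowers_of_pow {x : G} (hx : ∃ k : ℕ, x ^ 2 ^ k = 1) : IsPGroup 2 (zpowers x) := by
  obtain ⟨k, hk⟩ := hx
  rintro ⟨y, hy⟩
  refine ⟨k, ?_⟩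
  obtain ⟨n, rfl⟩ := mem_zpowers_iff.1 hy
  apply Subtype.ext
  simp only [SubmonoidClass.mk_pow, OneMemClass.coe_one]
  rw [← zpow_natCast, ← zpow_mul, mul_comm, zpow_mul, zpow_natCast, hk, one_zpow]

theorem pow_conj {x g : G} {k : ℕ} (h : x ^ 2 ^ k = 1) : (g * x * g⁻¹) ^ 2 ^ k = 1 := by
  rw [conj_pow, h, mul_one, mul_inv_cancel]

theorem exists_pow_of_mem {S : Subgroup G} (hS : IsPGroup 2 S) {x : G} (hx : x ∈ S) : ∃ k : ℕ, x ^ 2 ^ k = 1 := by
  obtain ⟨k, hk⟩ := hS ⟨x, hx⟩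
  exact ⟨k, congrArg Subtype.val hk⟩

/-- Two congruent 2-elements are conjugate: `x`, `x'` 2-elements, `x` normalises `K` (odd), `x' x⁻¹ ∈ K`. -/
theorem exists_conj_of_mul_inv_mem [Finite G] {K : Subgroup G} (hK : Odd (Nat.card K)) {x x' : G}
    (hx : ∃ k : ℕ, x ^ 2 ^ k = 1) (hx' : ∃ k : ℕ, x' ^ 2 ^ k = 1) (hn : x ∈ normalizer (K : Set G))
    (h : x' * x⁻¹ ∈ K) : ∃ v ∈ K, x' = v * x * v⁻¹ := by
  have hnx : zpowers x ≤ normalizer (K : Set G) := by rwa [zpowers_le]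
  obtain ⟨v, hv, hvr⟩ := Cfsg.Agent.TwoFusion.ClosedLocal.exists_conj_of_le_sup (R := zpowers x') hK
    (isPGroup_zpowers_of_pow hx) hnx (isPGroup_zpowers_of_pow hx') (by
      rw [zpowers_le]
      have : x' = x' * x⁻¹ * x := by group
      rw [this]
      exact mul_mem (mem_sup_left h) (mem_sup_right (mem_zpowers x)))
  have h1 := hvr x' (mem_zpowers x')
  have h2 : v * x' * v⁻¹ * x⁻¹ ∈ K := by
    have e : v * x' * v⁻¹ * x⁻¹ = v * (x' * x⁻¹) * (x * v⁻¹ * x⁻¹) := by group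
    rw [e]
    exact mul_mem (mul_mem hv h) ((mem_normalizer_iff.1 hn _).1 (inv_mem hv))
  have h3 : v * x' * v⁻¹ * x⁻¹ = 1 :=
    Cfsg.Agent.TwoFusion.ClosedLocal.eq_one_of_odd_of_isPGroup hK (isPGroup_zpowers_of_pow hx) h2
      (mul_mem h1 (inv_mem (mem_zpowers x)))
  refine ⟨v⁻¹, inv_mem hv, ?_⟩
  have h4 : v * x' * v⁻¹ = x := mul_inv_eq_one.1 h3
  rw [← h4]; group

/-- Sylow's theorem in a normal subgroup `K` of `Γ ≥ S`. -/
theorem exists_conj_mem_sylow [Finite G] (S : Sylow 2 G) {Γ K : Subgroup G} (hSΓ : (S : Subgroup G) ≤ Γ)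
    (hKΓ : K ≤ Γ) (hn : Γ ≤ normalizer (K : Set G)) {x : G} (hx : x ∈ K) (h2 : ∃ k : ℕ, x ^ 2 ^ k = 1) :
    ∃ g ∈ K, g * x * g⁻¹ ∈ (S : Subgroup G) := by
  haveI : Fact (Nat.Prime 2) := ⟨Nat.prime_two⟩
  haveI hKn : (K.subgroupOf Γ).Normal := (normal_subgroupOf_iff_le_normalizer hKΓ).2 hn
  have hidx : ¬ 2 ∣ ((S : Subgroup G) ⊓ K).relIndex K := by
    rw [inf_relIndex_right, ← relIndex_subgroupOf hKΓ]
    intro hdvd
    have h3 := hdvd.trans (relIndex_dvd_index_of_normal_right ((S : Subgroup G).subgroupOf Γ) (K.subgroupOf Γ))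
    have h4 : ((S : Subgroup G).subgroupOf Γ).index ∣ (S : Subgroup G).index :=
      relIndex_dvd_index_of_le hSΓ
    exact S.not_dvd_index (h3.trans h4)
  obtain ⟨g, hg, hle⟩ := exists_conj_le_in (p := 2) (N := K) (R := (S : Subgroup G) ⊓ K) (D := zpowers x)
    (S.2.to_le inf_le_left) hidx (by rwa [zpowers_le]) (isPGroup_zpowers_of_pow h2)
  exact ⟨g, hg, (hle (conj_mem_map_conj (mem_zpowers x) g)).1⟩

theorem eq_one_of_mem_core [Finite G] {S M : Subgroup G} (hS : IsPGroup 2 S) {x : G} (hx : x ∈ S) (hxM : x ∈ core M) :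
    x = 1 :=
  Cfsg.Agent.TwoFusion.ClosedLocal.eq_one_of_odd_of_isPGroup (core_odd M) hS hxM hx

theorem normalizer_le_normalizer_centralizer (E : Subgroup G) :
    normalizer (E : Set G) ≤ normalizer (centralizer (E : Set G) : Set G) := by
  intro g hg
  rw [mem_normalizer_iff_map_conj]
  ext x
  rw [mem_map_conj, ← mem_centralizer_map_conj, mem_normalizer_iff_map_conj.1 hg]

end General

/-! ### The subgroup `J` -/

/-- `J = {m ∈ C_G(E) | [m, X] ≤ O(C_G(E))}`. -/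
def J {G : Type*} [Group G] [Finite G] (𝒜 : Set G) (E : Subgroup G) : Subgroup G where
  carrier := {m | m ∈ centralizer (E : Set G) ∧ ∀ x ∈ XG 𝒜 E, ⁅m, x⁆ ∈ core (centralizer (E : Set G))}
  mul_mem' := by
    rintro a b ⟨ha, ha'⟩ ⟨hb, hb'⟩
    refine ⟨mul_mem ha hb, fun x hx => ?_⟩
    have e : ⁅a * b, x⁆ = a * ⁅b, x⁆ * a⁻¹ * ⁅a, x⁆ := by
      simp only [commutatorElement_def]; group
    rw [e]
    exact mul_mem (core_conj_mem (le_normalizer ha) (hb' x hx)) (ha' x hx)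
  one_mem' := by
    refine ⟨one_mem _, fun x _ => ?_⟩
    rw [commutatorElement_one_left]
    exact one_mem _
  inv_mem' := by
    rintro a ⟨ha, ha'⟩
    refine ⟨inv_mem ha, fun x hx => ?_⟩
    have e : ⁅a⁻¹, x⁆ = a⁻¹ * ⁅a, x⁆⁻¹ * a⁻¹⁻¹ := by
      simp only [commutatorElement_def]; group
    rw [e]
    exact core_conj_mem (le_normalizer (inv_mem ha)) (inv_mem (ha' x hx))

section J

variable {G : Type*} [Group G] [Finite G] {𝒜 : Set G}

theorem mem_J {E : Subgroup G} {m : G} : m ∈ J 𝒜 E ↔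
    m ∈ centralizer (E : Set G) ∧ ∀ x ∈ XG 𝒜 E, ⁅m, x⁆ ∈ core (centralizer (E : Set G)) := Iff.rfl

theorem J_le (E : Subgroup G) : J 𝒜 E ≤ centralizer (E : Set G) := fun _ h => h.1

theorem normalizer_le_J (h : IsClosedFam 𝒜) (E : Subgroup G) :
    normalizer (E : Set G) ≤ normalizer (J 𝒜 E : Set G) := by
  have key : ∀ g ∈ normalizer (E : Set G), ∀ m ∈ J 𝒜 E, g * m * g⁻¹ ∈ J 𝒜 E := by
    intro g hg m hm
    have hgM := normalizer_le_normalizer_centralizer E hg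
    refine ⟨(mem_normalizer_iff.1 hgM m).1 hm.1, fun x hx => ?_⟩
    have hx' : g⁻¹ * x * g ∈ XG 𝒜 E := by
      have := (mem_normalizer_iff.1 (h.le_normalizer_fam _ (inv_mem hg)) x).1 hx
      simpa using this
    have e : ⁅g * m * g⁻¹, x⁆ = g * ⁅m, g⁻¹ * x * g⁆ * g⁻¹ := by
      simp only [commutatorElement_def]; group
    rw [e]
    exact core_conj_mem hgM (hm.2 _ hx')
  intro g hg
  rw [mem_normalizer_iff]
  intro x
  refine ⟨key g hg x, fun hx => ?_⟩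
  have := key g⁻¹ (inv_mem hg) _ hx
  have e : g⁻¹ * (g * x * g⁻¹) * g⁻¹⁻¹ = x := by group
  rwa [e] at this

end J

/-! ### One side -/

section OneSide

variable {G : Type u} [Group G] [Finite G] {F : Type*} [Field F] {𝒜 : Set G} (h : IsClosedFam 𝒜) (S : Sylow 2 G)
  {E : Subgroup G} (D : Side F 𝒜 (fam 𝒜 (S : Subgroup G)) E) (hSE : (S : Subgroup G) ≤ normalizer (E : Set G))
  (hS : ∀ s ∈ (S : Subgroup G), ∃ a ∈ fam 𝒜 (S : Subgroup G), ∃ c ∈ centralizer (fam 𝒜 (S : Subgroup G) : Set G),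
    s = a * c)
include h D hSE hS

/-- `C_G(E) = E J`. -/
theorem exists_mul_J {m : G} (hm : m ∈ centralizer (E : Set G)) : ∃ e ∈ E, ∃ j ∈ J 𝒜 E, m = e * j := by
  obtain ⟨e, he, j, hj, hjx, rfl⟩ := CentSide.exists_mul h D (isSyl_fam h S) (by
    intro m hm h2
    obtain ⟨g, hg, hgS⟩ := exists_conj_mem_sylow S hSE (centralizer_le_normalizer _)
      (normalizer_le_normalizer_centralizer E) hm h2
    obtain ⟨a, ha, c, hc, hac⟩ := hS _ hgS
    have hcE : c ∈ centralizer (E : Set G) := centralizer_le D.le hc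
    refine ⟨g, hg, a, ?_, c, hcE, ?_, hac⟩
    · refine D.cent ⟨?_, ha⟩
      have e : a = g * m * g⁻¹ * c⁻¹ := by rw [hac]; group
      have : a ∈ centralizer (E : Set G) := by
        rw [e]
        exact mul_mem (mul_mem (mul_mem hg hm) (inv_mem hg)) (inv_mem hcE)
      exact this
    · intro a ha
      exact ((mem_centralizer_iff.1 hc) a ha).symm) m hm
  exact ⟨e, he, j, ⟨hj, hjx⟩, rfl⟩

omit hSE hS in
/-- The 2-elements of `J` centralize `A`. -/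
theorem mem_centralizer_of_mem_J {t : G} (ht : t ∈ (S : Subgroup G)) (htJ : t ∈ J 𝒜 E) :
    t ∈ centralizer (fam 𝒜 (S : Subgroup G) : Set G) := by
  rw [mem_centralizer_iff]
  intro a ha
  have haS : a ∈ (S : Subgroup G) := fam_le 𝒜 _ ha
  have h1 := htJ.2 a (D.le_XG ha)
  have h2 : ⁅t, a⁆ = 1 := by
    refine eq_one_of_mem_core S.2 ?_ h1
    rw [commutatorElement_def]
    exact mul_mem (mul_mem (mul_mem ht haS) (inv_mem ht)) (inv_mem haS)
  exact (commutatorElement_eq_one_iff_mul_comm.1 h2).symm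

/-- `C_S(A) = Z(A) (S ∩ J)`. -/
theorem exists_mul_cent {c : G} (hcS : c ∈ (S : Subgroup G)) (hc : c ∈ centralizer (fam 𝒜 (S : Subgroup G) : Set G)) :
    ∃ z ∈ E, z ∈ centralizer (fam 𝒜 (S : Subgroup G) : Set G) ∧ ∃ t ∈ (S : Subgroup G), t ∈ J 𝒜 E ∧ c = z * t := by
  obtain ⟨e, he, j, hj, rfl⟩ := exists_mul_J h S D hSE hS (centralizer_le D.le hc)
  have heS : e ∈ (S : Subgroup G) := fam_le 𝒜 _ (D.le he)
  have hjS : j ∈ (S : Subgroup G) := by
    have e1 : j = e⁻¹ * (e * j) := by group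
    rw [e1]
    exact mul_mem (inv_mem heS) hcS
  have hjA := mem_centralizer_of_mem_J h S D hjS hj
  refine ⟨e, he, ?_, j, hjS, hj, rfl⟩
  have e1 : e = (e * j) * j⁻¹ := by group
  rw [e1]
  exact mul_mem hc (inv_mem hjA)

omit hSE hS in
/-- One step. -/
theorem exists_step (hN : normalizer (fam 𝒜 (S : Subgroup G) : Set G) ≤ normalizer (E : Set G)) {T : Subgroup G}
    (hT2 : IsPGroup 2 T) (hTJ : T ≤ J 𝒜 E)
    (hTn : ∀ n ∈ normalizer (fam 𝒜 (S : Subgroup G) : Set G), ∀ c ∈ T,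
      ∃ d ∈ centralizer (fam 𝒜 (S : Subgroup G) : Set G), ∃ c' ∈ T, n * c * n⁻¹ = d * c' * d⁻¹)
    {g : G} (hg : g ∈ normalizer (E : Set G)) {c : G} (hc : c ∈ T) :
    ∃ y ∈ centralizer (E : Set G), ∃ c' ∈ T, g * c * g⁻¹ = y * c' * y⁻¹ := by
  obtain ⟨x, hx, hxn⟩ := (syl_XG h D (isSyl_fam h S)).frattini h (h.le_normalizer_fam _ hg)
  obtain ⟨d, hd, c', hc', hcc⟩ := hTn _ hxn c hc
  have hxN : x ∈ normalizer (E : Set G) := fam_le 𝒜 _ hx
  have hdE : d ∈ centralizer (E : Set G) := centralizer_le D.le hd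
  have hMn := normalizer_le_normalizer_centralizer E
  -- conjugation by `x⁻¹`
  have h1 : x⁻¹ * c' * x⁻¹⁻¹ * c'⁻¹ ∈ core (centralizer (E : Set G)) := by
    have h2 := (hTJ hc').2 x⁻¹ (inv_mem hx)
    have e : x⁻¹ * c' * x⁻¹⁻¹ * c'⁻¹ = ⁅c', x⁻¹⁆⁻¹ := by
      simp only [commutatorElement_def]; group
    rw [e]
    exact inv_mem h2
  obtain ⟨k, hk⟩ := exists_pow_of_mem hT2 hc'
  obtain ⟨v, hv, hvc⟩ := exists_conj_of_mul_inv_mem (core_odd _) ⟨k, hk⟩ ⟨k, pow_conj hk⟩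
    (normalizer_le_core _ (le_normalizer (hTJ hc').1)) h1
  have hvM := core_le _ hv
  refine ⟨x⁻¹ * d * x * v, mul_mem ?_ hvM, c', hc', ?_⟩
  · have := (mem_normalizer_iff.1 (hMn (inv_mem hxN)) d).1 hdE
    simpa using this
  · have e : g * c * g⁻¹ = x⁻¹ * ((x * g) * c * (x * g)⁻¹) * x := by group
    rw [e, hcc]
    have e2 : x⁻¹ * (d * c' * d⁻¹) * x = (x⁻¹ * d * x) * (x⁻¹ * c' * x⁻¹⁻¹) * (x⁻¹ * d * x)⁻¹ := by group
    rw [e2, hvc]
    group

end OneSide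

/-! ### The control lemma -/

section Control

variable {G : Type u} [Group G] [Finite G] {𝒜 : Set G} (h : IsClosedFam 𝒜) (S : Sylow 2 G)
include h

/-- `C_S(A)` is closed under conjugation by elements centralizing a self-centralizing normal subgroup of `A`. -/
theorem cent_of_conj {E : Subgroup G} (hEA : E ≤ fam 𝒜 (S : Subgroup G))
    (hn : fam 𝒜 (S : Subgroup G) ≤ normalizer (E : Set G))
    (hCE : centralizer (E : Set G) ⊓ fam 𝒜 (S : Subgroup G) ≤ E) {c y : G}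
    (hc : c ∈ centralizer (fam 𝒜 (S : Subgroup G) : Set G)) (hy : y ∈ centralizer (E : Set G))
    (hyS : y * c * y⁻¹ ∈ (S : Subgroup G)) : y * c * y⁻¹ ∈ centralizer (fam 𝒜 (S : Subgroup G) : Set G) := by
  set A := fam 𝒜 (S : Subgroup G) with hA
  set M := centralizer (E : Set G) with hM
  have hAS : A ≤ S := fam_le 𝒜 _
  have hMΓ : M ≤ normalizer (E : Set G) := centralizer_le_normalizer _
  have hMn : normalizer (E : Set G) ≤ normalizer (M : Set G) := normalizer_le_normalizer_centralizer E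
  have hsyl : IsSyl 𝒜 (normalizer (E : Set G)) A := syl_of_le h (isSyl_fam h S) le_top hn
  have hcM : c ∈ M := centralizer_le hEA hc
  have key := comm_mem_sub h (Γ := normalizer (E : Set G)) (M := M) (E₀ := E ⊓ M) hMΓ hMn
    (le_trans (le_inf le_rfl hMn) (by
      rintro g ⟨h1, h2⟩
      rw [mem_normalizer_iff]
      intro x
      rw [mem_inf, mem_inf, (mem_normalizer_iff.1 h1 x), (mem_normalizer_iff.1 h2 x)]))
    ((S.2.to_le hAS).to_le (inf_le_left.trans hEA)) inf_le_right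
    (fun e he m hm => (mem_centralizer_iff.1 hm) e he.1)
    (by
      intro a ha haM
      have h1 := hsyl.inf_normal h hMΓ hMn
      obtain ⟨x, hx, hxa⟩ := exists_conj_mem h h1 ha haM
      have h2 : x * a * x⁻¹ ∈ E := hCE ⟨hxa.2, hxa.1⟩
      have h3 : x⁻¹ * (x * a * x⁻¹) * x⁻¹⁻¹ = x * a * x⁻¹ := conj_eq_of_mem_centralizer (inv_mem hx) h2
      have e : x⁻¹ * (x * a * x⁻¹) * x⁻¹⁻¹ = a := by group
      rw [e] at h3
      exact ⟨by rwa [h3], haM⟩)
  rw [mem_centralizer_iff]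
  intro a ha
  have haS : a ∈ (S : Subgroup G) := hAS ha
  have ha𝒜 : a ∈ 𝒜 := ((h.mem_fam_iff S.2).1 ha).1
  obtain ⟨e, he, o, ho, heo⟩ := key a ha𝒜 (hn ha) y hy
  have hac : a * c = c * a := (mem_centralizer_iff.1 hc) a ha
  have he1 : ∀ m ∈ M, e * m = m * e := fun m hm => (mem_centralizer_iff.1 hm) e he.1
  have hcore : ∀ m ∈ M, ∀ o ∈ core M, m * o * m⁻¹ ∈ core M := fun m hm o ho => core_conj_mem (le_normalizer hm) ho
  have h1 : ⁅y * c * y⁻¹, a⁆ ∈ core M := by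
    -- `y a y⁻¹ = e o a`
    have e1 : y * a * y⁻¹ = e * o * a := by rw [← heo, commutatorElement_def]; group
    have e2 : y⁻¹ * a * y = y⁻¹ * (e * o)⁻¹ * y * a := by
      have : y⁻¹ * (e * o * a) * y = a := by rw [← e1]; group
      calc y⁻¹ * a * y = y⁻¹ * (e * o)⁻¹ * y * (y⁻¹ * (e * o * a) * y) := by group
        _ = _ := by rw [this]
    have e3 : ⁅y * c * y⁻¹, a⁆ = (y * c * y⁻¹) * (e * o)⁻¹ * (y * c * y⁻¹)⁻¹ * (e * o) := by
      calc ⁅y * c * y⁻¹, a⁆ = y * c * (y⁻¹ * a * y) * c⁻¹ * y⁻¹ * a⁻¹ := by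
            rw [commutatorElement_def]; group
        _ = y * c * y⁻¹ * (e * o)⁻¹ * y * (a * c⁻¹) * y⁻¹ * a⁻¹ := by rw [e2]; group
        _ = y * c * y⁻¹ * (e * o)⁻¹ * y * (c⁻¹ * a) * y⁻¹ * a⁻¹ := by
            have : a * c⁻¹ = c⁻¹ * a := by
              rw [mul_inv_eq_iff_eq_mul, mul_assoc, hac, inv_mul_cancel_left]
            rw [this]
        _ = y * c * y⁻¹ * (e * o)⁻¹ * y * c⁻¹ * y⁻¹ * (y * a * y⁻¹) * a⁻¹ := by group
        _ = _ := by rw [e1]; group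
    have hm : y * c * y⁻¹ ∈ M := mul_mem (mul_mem hy hcM) (inv_mem hy)
    have e4 : (y * c * y⁻¹) * (e * o)⁻¹ * (y * c * y⁻¹)⁻¹ * (e * o) =
        ((y * c * y⁻¹) * o⁻¹ * (y * c * y⁻¹)⁻¹) * o := by
      have h2 := he1 _ (inv_mem hm)
      calc (y * c * y⁻¹) * (e * o)⁻¹ * (y * c * y⁻¹)⁻¹ * (e * o)
          = (y * c * y⁻¹) * o⁻¹ * e⁻¹ * ((y * c * y⁻¹)⁻¹ * e) * o := by group
        _ = (y * c * y⁻¹) * o⁻¹ * e⁻¹ * (e * (y * c * y⁻¹)⁻¹) * o := by rw [h2]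
        _ = _ := by group
    rw [e3, e4]
    exact mul_mem (hcore _ hm _ (inv_mem ho)) ho
  have h2 : ⁅y * c * y⁻¹, a⁆ = 1 := by
    refine eq_one_of_mem_core S.2 ?_ h1
    rw [commutatorElement_def]
    exact mul_mem (mul_mem (mul_mem hyS haS) (inv_mem hyS)) (inv_mem haS)
  exact (commutatorElement_eq_one_iff_mul_comm.1 h2).symm

end Control

/-! ### Both sides -/

section Both

variable {G : Type u} [Group G] [Finite G] {F : Type*} [Field F] {𝒜 : Set G} (h : IsClosedFam 𝒜) (S : Sylow 2 G)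
  {E₁ E₂ : Subgroup G} (D : OneEdge F 𝒜 (fam 𝒜 (S : Subgroup G)) E₁ E₂)
  (norm₁ : fam 𝒜 (S : Subgroup G) ≤ normalizer (E₁ : Set G))
  (norm₂ : fam 𝒜 (S : Subgroup G) ≤ normalizer (E₂ : Set G))
  (hN₁ : normalizer (fam 𝒜 (S : Subgroup G) : Set G) ≤ normalizer (E₁ : Set G))
  (hN₂ : normalizer (fam 𝒜 (S : Subgroup G) : Set G) ≤ normalizer (E₂ : Set G))

include D norm₁ norm₂ in
/-- `[A, A] ≤ Z(A)`. -/
theorem comm_mem_centralizer {a b : G} (ha : a ∈ fam 𝒜 (S : Subgroup G)) (hb : b ∈ fam 𝒜 (S : Subgroup G)) :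
    a * b * a⁻¹ * b⁻¹ ∈ centralizer (fam 𝒜 (S : Subgroup G) : Set G) ⊓ fam 𝒜 (S : Subgroup G) := by
  have h1 : ∀ e ∈ E₁, a * e * a⁻¹ * e⁻¹ ∈ centralizer (fam 𝒜 (S : Subgroup G) : Set G) ⊓ fam 𝒜 (S : Subgroup G) := by
    intro e he
    have := CentAMain.comm_mem D norm₁ norm₂ a ha e he
    exact ⟨CentAMain.inf_le_centralizer D this, CentAMain.le₁ D this.1⟩
  have h2 : ∀ e ∈ E₂, a * e * a⁻¹ * e⁻¹ ∈ centralizer (fam 𝒜 (S : Subgroup G) : Set G) ⊓ fam 𝒜 (S : Subgroup G) := by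
    intro e he
    have := CentAMain.comm_mem (CentAMain.symm D) norm₂ norm₁ a ha e he
    exact ⟨CentAMain.inf_le_centralizer (CentAMain.symm D) this, CentAMain.le₂ D this.1⟩
  have hb' : b ∈ (fam 𝒜 (S : Subgroup G) : Set G) := hb
  rw [CentAMain.coe_eq_mul D norm₁] at hb'
  obtain ⟨e₁, he₁, e₂, he₂, rfl⟩ := hb'
  have e : a * (e₁ * e₂) * a⁻¹ * (e₁ * e₂)⁻¹ = (a * e₁ * a⁻¹ * e₁⁻¹) * (e₁ * (a * e₂ * a⁻¹ * e₂⁻¹) * e₁⁻¹) := by
    group
  have h3 : e₁ * (a * e₂ * a⁻¹ * e₂⁻¹) * e₁⁻¹ = a * e₂ * a⁻¹ * e₂⁻¹ := by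
    have h4 := (mem_centralizer_iff.1 (h2 e₂ he₂).1) e₁ (CentAMain.le₁ D he₁)
    rw [h4]; group
  simp only [] at e ⊢
  rw [e, h3]
  exact mul_mem (h1 e₁ he₁) (h2 e₂ he₂)

include h D norm₁ norm₂ hN₁ hN₂ in
theorem exists_of_gen {Y : Subgroup G} {g : G}
    (hg : Gen (fam 𝒜 (S : Subgroup G)) (fun X => X = fam 𝒜 (S : Subgroup G) ∨ X = E₁ ∨ X = E₂) Y g) :
    ∀ c ∈ (S : Subgroup G) ⊓ J 𝒜 E₁ ⊓ J 𝒜 E₂, ∃ y ∈ centralizer ((Y.map (MulAut.conj g).toMonoidHom : Subgroup G) : Set G),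
      ∃ c' ∈ (S : Subgroup G) ⊓ J 𝒜 E₁ ⊓ J 𝒜 E₂, g * c * g⁻¹ = y * c' * y⁻¹ := by
  set A := fam 𝒜 (S : Subgroup G) with hA
  set T := (S : Subgroup G) ⊓ J 𝒜 E₁ ⊓ J 𝒜 E₂ with hT
  have D₁ := CentAMain.side₁ D norm₁ norm₂
  have D₂ := CentAMain.side₁ (CentAMain.symm D) norm₂ norm₁
  have hT2 : IsPGroup 2 T := S.2.to_le (inf_le_left.trans inf_le_left)
  have hTJ₁ : T ≤ J 𝒜 E₁ := inf_le_left.trans inf_le_right
  have hTJ₂ : T ≤ J 𝒜 E₂ := inf_le_right
  have hSN : (S : Subgroup G) ≤ normalizer (A : Set G) := h.le_normalizer_fam _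
  -- `N_G(A)`
  have hTn : ∀ n ∈ normalizer (A : Set G), ∀ c ∈ T, ∃ d ∈ centralizer (A : Set G), ∃ c' ∈ T,
      n * c * n⁻¹ = d * c' * d⁻¹ := by
    intro n hn c hc
    set K : Subgroup G := J 𝒜 E₁ ⊓ J 𝒜 E₂ ⊓ centralizer (A : Set G) with hK
    have hKN : normalizer (A : Set G) ≤ normalizer (K : Set G) := by
      intro g hg
      have h1 := normalizer_le_J h E₁ (hN₁ hg)
      have h2 := normalizer_le_J h E₂ (hN₂ hg)
      have h3 := normalizer_le_normalizer_centralizer A hg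
      rw [mem_normalizer_iff]
      intro x
      rw [hK, mem_inf, mem_inf, mem_inf, mem_inf, (mem_normalizer_iff.1 h1 x), (mem_normalizer_iff.1 h2 x),
        (mem_normalizer_iff.1 h3 x)]
    have hcK : c ∈ K := ⟨⟨hTJ₁ hc, hTJ₂ hc⟩, mem_centralizer_of_mem_J h S D₁ hc.1.1 (hTJ₁ hc)⟩
    have hnc : n * c * n⁻¹ ∈ K := (mem_normalizer_iff.1 (hKN hn) c).1 hcK
    obtain ⟨k, hk⟩ := exists_pow_of_mem hT2 hc
    obtain ⟨g, hg, hgS⟩ := exists_conj_mem_sylow S hSN (inf_le_right.trans (centralizer_le_normalizer _)) hKN hnc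
      ⟨k, pow_conj hk⟩
    have hgK : g * (n * c * n⁻¹) * g⁻¹ ∈ K := mul_mem (mul_mem hg hnc) (inv_mem hg)
    exact ⟨g⁻¹, inv_mem hg.2, g * (n * c * n⁻¹) * g⁻¹, ⟨⟨hgS, hgK.1.1⟩, hgK.1.2⟩, by group⟩
  induction hg with
  | @cent Y c₀ hY hc₀ =>
    intro c hc
    rw [map_conj_of_mem_centralizer hc₀]
    exact ⟨c₀, hc₀, c, hc, rfl⟩
  | @base Y X g hX hF hYX hg =>
    intro c hc
    have hle : centralizer (X : Set G) ≤ centralizer ((Y.map (MulAut.conj g).toMonoidHom : Subgroup G) : Set G) := by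
      refine centralizer_le ?_
      have := map_conj_mono hYX g
      rw [mem_normalizer_iff_map_conj.1 hg] at this
      exact_mod_cast this
    rcases hF with rfl | rfl | rfl
    · obtain ⟨d, hd, c', hc', hcc⟩ := hTn g hg c hc
      exact ⟨d, hle hd, c', hc', hcc⟩
    · obtain ⟨d, hd, c', hc', hcc⟩ := exists_step h S D₁ hN₁ hT2 hTJ₁ hTn hg hc
      exact ⟨d, hle hd, c', hc', hcc⟩
    · obtain ⟨d, hd, c', hc', hcc⟩ := exists_step h S D₂ hN₂ hT2 hTJ₂ hTn hg hc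
      exact ⟨d, hle hd, c', hc', hcc⟩
  | @mul Y g k _ _ ih1 ih2 =>
    intro c hc
    obtain ⟨y, hy, c', hc', hcc⟩ := ih1 c hc
    obtain ⟨y', hy', c'', hc'', hcc'⟩ := ih2 c' hc'
    refine ⟨k * y * k⁻¹ * y', mul_mem ?_ ?_, c'', hc'', ?_⟩
    · rw [← map_conj_map_conj, mem_centralizer_map_conj]
      have e : k⁻¹ * (k * y * k⁻¹) * k = y := by group
      rw [e]
      exact hy
    · rwa [map_conj_map_conj] at hy'
    · have e : k * g * c * (k * g)⁻¹ = k * (g * c * g⁻¹) * k⁻¹ := by group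
      rw [e, hcc]
      have e2 : k * (y * c' * y⁻¹) * k⁻¹ = (k * y * k⁻¹) * (k * c' * k⁻¹) * (k * y * k⁻¹)⁻¹ := by group
      rw [e2, hcc']
      group

include h D norm₁ norm₂ hN₁ hN₂ in
/-- **`C* = S ∩ J₁ ∩ J₂` is strongly closed in `S`.** -/
theorem isStronglyClosed
    (hS : ∀ s ∈ (S : Subgroup G), ∃ a ∈ fam 𝒜 (S : Subgroup G), ∃ c ∈ centralizer (fam 𝒜 (S : Subgroup G) : Set G),
      s = a * c) :
    Cfsg.IsStronglyClosed ((S : Subgroup G) ⊓ J 𝒜 E₁ ⊓ J 𝒜 E₂) (S : Subgroup G) := by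
  refine ⟨inf_le_left.trans inf_le_left, ?_⟩
  intro c hc g hx
  set A := fam 𝒜 (S : Subgroup G) with hA
  have hAS : A ≤ S := fam_le 𝒜 _
  have D₁ := CentAMain.side₁ D norm₁ norm₂
  have hsyl := isSyl_fam h S
  have hcA : c ∈ centralizer (A : Set G) := mem_centralizer_of_mem_J h S D₁ hc.1.1 hc.1.2
  set x := g * c * g⁻¹ with hxdef
  set B : Subgroup G := centralizer ({x} : Set G) with hB
  have hAgB : A.map (MulAut.conj g).toMonoidHom ≤ B := by
    rintro _ ⟨a, ha, rfl⟩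
    rw [hB, mem_centralizer_singleton_iff]
    change g * a * g⁻¹ * x = x * (g * a * g⁻¹)
    have h1 : a * c = c * a := (mem_centralizer_iff.1 hcA) a ha
    calc g * a * g⁻¹ * x = g * (a * c) * g⁻¹ := by rw [hxdef]; group
      _ = x * (g * a * g⁻¹) := by rw [h1, hxdef]; group
  have hsylg : IsSyl 𝒜 ⊤ (A.map (MulAut.conj g).toMonoidHom) := by
    have := hsyl.map_conj h g
    rwa [Subgroup.map_top_of_surjective _ (MulAut.conj g).surjective] at this
  have hsylB : IsSyl 𝒜 B (A.map (MulAut.conj g).toMonoidHom) := syl_of_le h hsylg le_top hAgB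
  set E : Subgroup G := A ⊓ B with hE
  obtain ⟨k, hk, hkE⟩ := hsylB.conj E inf_le_right ((S.2.to_le hAS).to_le inf_le_left)
    (fun y hy => hsyl.sub y hy.1)
  set g₁ := k⁻¹ * g with hg₁
  have hgx : g₁ * c * g₁⁻¹ = x := by
    have h1 : k⁻¹ * x * k = x := by
      have h2 : k * x = x * k := mem_centralizer_singleton_iff.1 hk
      calc k⁻¹ * x * k = k⁻¹ * (x * k) := by group
        _ = k⁻¹ * (k * x) := by rw [h2]
        _ = x := by group
    calc g₁ * c * g₁⁻¹ = k⁻¹ * x * k := by rw [hg₁, hxdef]; group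
      _ = x := h1
  have hEg : E ≤ A.map (MulAut.conj g₁).toMonoidHom := by
    have := map_conj_mono hkE k⁻¹
    rwa [map_conj_map_conj, inv_mul_cancel, map_conj_one, map_conj_map_conj] at this
  have hY : E.map (MulAut.conj g₁⁻¹).toMonoidHom ≤ A := by
    have := map_conj_mono hEg g₁⁻¹
    rwa [map_conj_map_conj, inv_mul_cancel, map_conj_one] at this
  have hYE : (E.map (MulAut.conj g₁⁻¹).toMonoidHom).map (MulAut.conj g₁).toMonoidHom = E := by
    rw [map_conj_map_conj, mul_inv_cancel, map_conj_one]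
  have hgen : Gen A (fun X => X = A ∨ X = E₁ ∨ X = E₂) (E.map (MulAut.conj g₁⁻¹).toMonoidHom) g₁ :=
    gen_of_conj h hsyl _ (Or.inl rfl) (fun X hX => Or.inr (D.ess X hX)) hY (by rw [hYE]; exact inf_le_left)
  obtain ⟨y, hy, c', hc', hxy⟩ := exists_of_gen h S D norm₁ norm₂ hN₁ hN₂ hgen c hc
  rw [hYE] at hy
  rw [hgx] at hxy
  have hc'A : c' ∈ centralizer (A : Set G) := mem_centralizer_of_mem_J h S D₁ hc'.1.1 hc'.1.2
  -- `x = a' c''`
  obtain ⟨a', ha', c'', hc'', hxa⟩ := hS x hx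
  have hEiff : ∀ b ∈ A, b ∈ E ↔ a' * b = b * a' := by
    intro b hb
    have h1 : b * c'' = c'' * b := (mem_centralizer_iff.1 hc'') b hb
    rw [hE, mem_inf, hB, mem_centralizer_singleton_iff, hxa]
    constructor
    · rintro ⟨-, h2⟩
      have h3 : b * a' * c'' = a' * b * c'' := by
        calc b * a' * c'' = b * (a' * c'') := by group
          _ = a' * (c'' * b) := by rw [h2]; group
          _ = a' * b * c'' := by rw [← h1]; group
      exact (mul_right_cancel h3).symm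
    · intro h2
      refine ⟨hb, ?_⟩
      calc b * (a' * c'') = b * a' * c'' := by group
        _ = a' * (b * c'') := by rw [← h2]; group
        _ = a' * c'' * b := by rw [h1]; group
  have ha'E : a' ∈ E := (hEiff a' ha').2 rfl
  have hCE : centralizer (E : Set G) ⊓ A ≤ E := by
    rintro b ⟨hb1, hb2⟩
    exact (hEiff b hb2).2 ((mem_centralizer_iff.1 hb1) a' ha'E)
  have hZE : centralizer (A : Set G) ⊓ A ≤ E := le_trans (inf_le_inf_right _ (centralizer_le inf_le_left)) hCE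
  have hnE : A ≤ normalizer (E : Set G) := by
    have key : ∀ a ∈ A, ∀ e ∈ E, a * e * a⁻¹ ∈ E := by
      intro a ha e he
      have h1 := hZE (comm_mem_centralizer S D norm₁ norm₂ ha he.1)
      have h2 := E.mul_mem h1 he
      have e1 : a * e * a⁻¹ * e⁻¹ * e = a * e * a⁻¹ := by group
      rwa [e1] at h2
    intro a ha
    rw [mem_normalizer_iff]
    intro e
    refine ⟨key a ha e, fun he => ?_⟩
    have := key a⁻¹ (inv_mem ha) _ he
    have e1 : a⁻¹ * (a * e * a⁻¹) * a⁻¹⁻¹ = e := by group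
    rwa [e1] at this
  have hxA : x ∈ centralizer (A : Set G) := by
    rw [hxy]
    exact cent_of_conj h S inf_le_left hnE hCE hc'A hy (by rw [← hxy]; exact hx)
  have hEA : A ≤ E := by
    intro a ha
    refine mem_inf.2 ⟨ha, ?_⟩
    rw [hB, mem_centralizer_singleton_iff]
    exact (mem_centralizer_iff.1 hxA) a ha
  have hyA : y ∈ normalizer (A : Set G) := centralizer_le_normalizer _ (centralizer_le hEA hy)
  refine ⟨⟨hx, ?_⟩, ?_⟩
  · rw [hxy]
    exact (mem_normalizer_iff.1 (normalizer_le_J h E₁ (hN₁ hyA)) c').1 hc'.1.2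
  · rw [hxy]
    exact (mem_normalizer_iff.1 (normalizer_le_J h E₂ (hN₂ hyA)) c').1 hc'.2

end Both

end Cfsg.Agent.ClassTwoFusion.CentStar
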