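import Cfsg.Agent.ClassTwoFusion.CentStar
import Cfsg.Agent.ClassTwo.EdgeMaps

/-!
# Torus elements normalizing `A` and `C_S(A)`
-/

set_option autoImplicit false
set_option linter.style.haveILetI false

namespace Cfsg.Agent.ClassTwoFusion.CentTorus

universe u

open Subgroup
open scoped commutatorElement Pointwise
open Cfsg.Agent.Lib.GoldschmidtFusion
open Cfsg.Agent.TwoFusion.ClosedFam
open Cfsg.Agent.ClassTwoFusion.RelAlperin
open Cfsg.Agent.ClassTwoFusion.OneEdge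
open Cfsg.Agent.ClassTwoFusion.CentLocal
open Cfsg.Agent.ClassTwoFusion.CentSide
open Cfsg.Agent.ClassTwoFusion.CentStar
open Cfsg.Agent.ClassTwoFusion.CentA
open Cfsg.Agent.ClassTwo.Sp4Defs

/-- the upper unitriangular matrices -/
def U (F : Type*) [Field F] : Subgroup (Matrix.SpecialLinearGroup (Fin 2) F) where
  carrier := Set.range u
  mul_mem' := by
    rintro _ _ ⟨a, rfl⟩ ⟨b, rfl⟩
    exact ⟨a + b, Cfsg.Agent.ClassTwo.EdgeSide.Side.u_mul a b⟩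
  one_mem' := ⟨0, Cfsg.Agent.ClassTwo.EdgeSide.Side.u_zero⟩
  inv_mem' := by
    rintro _ ⟨a, rfl⟩
    refine ⟨-a, ?_⟩
    rw [eq_comm, inv_eq_iff_mul_eq_one, ← Cfsg.Agent.ClassTwo.EdgeSide.Side.u_mul, add_neg_cancel]
    exact Cfsg.Agent.ClassTwo.EdgeSide.Side.u_zero

variable {G : Type u} [Group G] [Finite G] {F : Type*} [Field F] {𝒜 : Set G} (h : IsClosedFam 𝒜) (S : Sylow 2 G)
  {E : Subgroup G} (D : Side F 𝒜 (fam 𝒜 (S : Subgroup G)) E) (hSE : (S : Subgroup G) ≤ normalizer (E : Set G))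
include h D hSE

theorem exists_torus (φ : ↥(XG 𝒜 E) →* Matrix.SpecialLinearGroup (Fin 2) F) (hsurj : Function.Surjective φ)
    (hker : ∀ x, φ x = 1 ↔ (x : G) ∈ centralizer (E : Set G))
    (hup : ∀ x : ↥(XG 𝒜 E), (x : G) ∈ fam 𝒜 (S : Subgroup G) → ∃ a : F, φ x = u a) (l : Fˣ) :
    ∃ g, ∃ hg : g ∈ XG 𝒜 E, g ∈ normalizer (fam 𝒜 (S : Subgroup G) : Set G) ∧
      g ∈ normalizer (((S : Subgroup G) ⊓ centralizer (fam 𝒜 (S : Subgroup G) : Set G) : Subgroup G) : Set G) ∧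
      ∃ t : F, φ ⟨g, hg⟩ = u t * d l := by
  haveI : Fact (Nat.Prime 2) := ⟨Nat.prime_two⟩
  set A := fam 𝒜 (S : Subgroup G) with hA
  have hAX : A ≤ XG 𝒜 E := D.le_XG
  obtain ⟨⟨g₀, hg₀⟩, hφg₀⟩ := hsurj (d l)
  -- Frattini for `A`
  set M₀ : Subgroup G := ((U F).comap φ).map (XG 𝒜 E).subtype with hM₀
  have hM₀X : M₀ ≤ XG 𝒜 E := map_subtype_le _
  have hAM₀ : A ≤ M₀ := by
    intro a ha
    obtain ⟨t, ht⟩ := hup ⟨a, hAX ha⟩ ha
    exact ⟨⟨a, hAX ha⟩, ⟨t, ht.symm⟩, rfl⟩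
  have hsyl : IsSyl 𝒜 M₀ A := syl_of_le h (syl_XG h D (isSyl_fam h S)) hM₀X hAM₀
  have hgM₀ : g₀ ∈ normalizer (M₀ : Set G) := by
    rw [mem_normalizer_iff_map_conj]
    apply map_conj_le_of_le_normalizer
    rintro _ ⟨_, ⟨x, ⟨t, ht⟩, rfl⟩, rfl⟩
    refine ⟨⟨g₀, hg₀⟩ * x * ⟨g₀, hg₀⟩⁻¹, ?_, rfl⟩
    refine ⟨(l : F) ^ 2 * t, ?_⟩
    rw [map_mul, map_mul, map_inv, hφg₀, ← ht, Cfsg.Agent.ClassTwo.Sp4SL2.d_conj_u]
  obtain ⟨c, hc, hcg⟩ := hsyl.frattini h hgM₀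
  obtain ⟨c', ⟨t, ht⟩, hcc'⟩ := hc
  set g₁ := c * g₀ with hg₁
  have hcX : c ∈ XG 𝒜 E := by rw [← hcc']; exact c'.2
  have hg₁X : g₁ ∈ XG 𝒜 E := mul_mem hcX hg₀
  have hφg₁ : φ ⟨g₁, hg₁X⟩ = u t * d l := by
    have e : (⟨g₁, hg₁X⟩ : ↥(XG 𝒜 E)) = c' * ⟨g₀, hg₀⟩ := Subtype.ext (by
      change c * g₀ = (c' : G) * g₀
      rw [← hcc']; rfl)
    rw [e, map_mul, hφg₀, ← ht]
  -- Frattini for `C_S(A)`
  have hSN : (S : Subgroup G) ≤ normalizer (A : Set G) := h.le_normalizer_fam _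
  set C : Subgroup G := (S : Subgroup G) ⊓ centralizer (A : Set G) with hC
  set R : Subgroup G := XG 𝒜 E ⊓ centralizer (A : Set G) with hR
  have hXn : normalizer (E : Set G) ≤ normalizer (XG 𝒜 E : Set G) := h.le_normalizer_fam _
  have hCn : C ≤ normalizer (R : Set G) := by
    intro c hc
    have h1 := hXn (hSE hc.1)
    have h2 : c ∈ normalizer (centralizer (A : Set G) : Set G) := le_normalizer hc.2
    rw [mem_normalizer_iff]
    intro x
    rw [hR, mem_inf, mem_inf, (mem_normalizer_iff.1 h1 x), (mem_normalizer_iff.1 h2 x)]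
  have hWA : C ⊔ R ≤ centralizer (A : Set G) := sup_le inf_le_right inf_le_right
  have hidx : ¬ 2 ∣ C.relIndex (C ⊔ R) := by
    have h1 : ¬ 2 ∣ C.relIndex (centralizer (A : Set G)) := by
      haveI hKn : ((centralizer (A : Set G)).subgroupOf (normalizer (A : Set G))).Normal :=
        (normal_subgroupOf_iff_le_normalizer (centralizer_le_normalizer _)).2 (normalizer_le_normalizer_centralizer A)
      rw [hC, inf_relIndex_right, ← relIndex_subgroupOf (centralizer_le_normalizer _)]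
      intro hdvd
      have h3 := hdvd.trans (relIndex_dvd_index_of_normal_right ((S : Subgroup G).subgroupOf (normalizer (A : Set G)))
        ((centralizer (A : Set G)).subgroupOf (normalizer (A : Set G))))
      have h4 : ((S : Subgroup G).subgroupOf (normalizer (A : Set G))).index ∣ (S : Subgroup G).index :=
        relIndex_dvd_index_of_le hSN
      exact S.not_dvd_index (h3.trans h4)
    intro hdvd
    refine h1 (hdvd.trans ?_)
    rw [← relIndex_mul_relIndex C (C ⊔ R) (centralizer (A : Set G)) le_sup_left hWA]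
    exact dvd_mul_right _ _
  have hCW : C.map (MulAut.conj g₁).toMonoidHom ≤ C ⊔ R := by
    rintro _ ⟨c, hc, rfl⟩
    change g₁ * c * g₁⁻¹ ∈ C ⊔ R
    have h1 : g₁ * c * g₁⁻¹ * c⁻¹ ∈ R := by
      refine ⟨?_, ?_⟩
      · have h2 := (mem_normalizer_iff.1 (hXn (hSE hc.1)) g₁⁻¹).1 (inv_mem hg₁X)
        have h3 := (XG 𝒜 E).mul_mem hg₁X h2
        have e : g₁ * (c * g₁⁻¹ * c⁻¹) = g₁ * c * g₁⁻¹ * c⁻¹ := by group
        rwa [e] at h3
      · have h2 := (mem_normalizer_iff.1 (normalizer_le_normalizer_centralizer A hcg) c).1 hc.2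
        exact (centralizer (A : Set G)).mul_mem h2 (inv_mem hc.2)
    have e : g₁ * c * g₁⁻¹ = g₁ * c * g₁⁻¹ * c⁻¹ * c := by group
    rw [e]
    exact mul_mem (mem_sup_right h1) (mem_sup_left hc)
  have hC2 : IsPGroup 2 C := S.2.to_le inf_le_left
  obtain ⟨w, hw, hwC⟩ := exists_conj_le_in (p := 2) hC2 hidx hCW (hC2.map _)
  obtain ⟨c₁, hc₁, x, hx, rfl⟩ := Cfsg.Agent.TwoFusion.ClosedLocal.exists_mul_of_mem_sup hCn (by rwa [sup_comm])
  have hxC : (x * g₁) ∈ normalizer (C : Set G) := by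
    rw [mem_normalizer_iff_map_conj]
    apply map_conj_le_of_le_normalizer
    have h1 := map_conj_mono hwC c₁⁻¹
    rw [map_conj_map_conj, map_conj_map_conj, mem_normalizer_iff_map_conj.1 (le_normalizer (inv_mem hc₁))] at h1
    have e : c₁⁻¹ * (c₁ * x) * g₁ = x * g₁ := by group
    rwa [e] at h1
  have hxX : x ∈ XG 𝒜 E := hx.1
  refine ⟨x * g₁, mul_mem hxX hg₁X, mul_mem (centralizer_le_normalizer _ hx.2) hcg, hxC, t, ?_⟩
  have e : (⟨x * g₁, mul_mem hxX hg₁X⟩ : ↥(XG 𝒜 E)) = ⟨x, hxX⟩ * ⟨g₁, hg₁X⟩ := rfl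
  rw [e, map_mul, (hker _).2 (centralizer_le D.le hx.2), one_mul, hφg₁]

end Cfsg.Agent.ClassTwoFusion.CentTorus
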