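import Mathlib
import Cfsg.Agent.SmallSimple.PSLTwoPart
import Cfsg.Agent.SporadicB.DihedralLift
import Cfsg.Agent.ClassTwoFusion.OneEdge
import Cfsg.Agent.Lib.ProductSet
import Cfsg.Agent.S0242
import Cfsg.Agent.TwoFusion.ElemCent
import Cfsg.Agent.TypeSpFour.NoCompOne

/-!
# The case `q = 2`: dihedral Sylow 2-subgroups of order 8

* `of_dihedral`: a finite simple group with Sylow 2-subgroups `D₈` is `PSL₂(F)`, `|F| ≡ 7, 9 mod 16`, or `A₇`
  (from the Gorenstein–Walter theorem S0483, a hypothesis here);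
* `sylow_le_of_ess`: focal subgroup theorem for a closed family containing `S`;
* `exists_commutator_bound`: if a normal subgroup of `N(E)`, `|E| = 8` elementary abelian, induces a group of order
  6 on `E` with a fixed point, then `[E, N(E)]` lies in a subgroup of order 4.
-/

set_option autoImplicit false
set_option linter.style.haveILetI false
set_option linter.unusedSectionVars false

namespace Cfsg.Agent.ClassTwoFusion.Dihedral8

open Subgroup
open scoped commutatorElement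
open Cfsg.Agent.Lib.GoldschmidtFusion
open Cfsg.Agent.TwoFusion.ClosedFam
open Cfsg.Agent.ClassTwoFusion.RelAlperin

universe u

section GW

/-- the statement of S0483 -/
def GW : Prop :=
  ∀ (X : Type u) [Group X] [Finite X] [Group.IsPerfect X]
    (S : Sylow 2 X) (n : ℕ), 2 ≤ n → Nonempty ((S : Subgroup X) ≃* DihedralGroup n) →
    (∃ (F : Type) (_ : Field F) (_ : Fintype F), Odd (Fintype.card F) ∧ 3 < Fintype.card F ∧
      Nonempty (X ⧸ Cfsg.oddCore X ≃* Matrix.ProjectiveSpecialLinearGroup (Fin 2) F)) ∨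
    Nonempty (X ⧸ Cfsg.oddCore X ≃* alternatingGroup (Fin 7))

variable {G : Type u} [Group G] [Finite G] [IsSimpleGroup G]

omit [Finite G] in
theorem isPerfect_of_dihedral (S : Sylow 2 G) (hS : Nonempty ((S : Subgroup G) ≃* DihedralGroup 4)) :
    Group.IsPerfect G := by
  obtain ⟨e⟩ := hS
  constructor
  rcases (inferInstance : (_root_.commutator G).Normal).eq_bot_or_eq_top with h | h
  · exfalso
    have hc : ∀ x y : G, x * y = y * x := by
      intro x y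
      have h1 : ⁅x, y⁆ ∈ _root_.commutator G := Subgroup.commutator_mem_commutator (mem_top _) (mem_top _)
      rw [h, mem_bot, commutatorElement_eq_one_iff_mul_comm] at h1
      exact h1
    have h1 : e (e.symm (DihedralGroup.r 1) * e.symm (DihedralGroup.sr 0)) =
        e (e.symm (DihedralGroup.sr 0) * e.symm (DihedralGroup.r 1)) := by
      congr 1
      exact Subtype.ext (hc _ _)
    rw [map_mul, map_mul, MulEquiv.apply_symm_apply, MulEquiv.apply_symm_apply] at h1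
    revert h1
    decide
  · exact h

omit [IsSimpleGroup G] in
theorem card_of_dihedral (S : Sylow 2 G) (hS : Nonempty ((S : Subgroup G) ≃* DihedralGroup 4)) :
    8 ∣ Nat.card G ∧ ¬ 16 ∣ Nat.card G := by
  haveI : Fact (Nat.Prime 2) := ⟨Nat.prime_two⟩
  obtain ⟨e⟩ := hS
  have h1 : Nat.card (S : Subgroup G) = 8 := by
    rw [Nat.card_congr e.toEquiv, DihedralGroup.nat_card]
  have h2 := (S : Subgroup G).card_mul_index
  have h3 := S.not_dvd_index
  rw [h1] at h2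
  refine ⟨⟨_, h2.symm⟩, ?_⟩
  rintro ⟨k, hk⟩
  exact h3 ⟨k, by omega⟩

omit [Finite G] in
theorem oddCore_eq_bot (h2 : 2 ∣ Nat.card G) : Cfsg.oddCore G = ⊥ := by
  refine (sSup_eq_bot).2 ?_
  rintro N ⟨hN, hc⟩
  rcases hN.eq_bot_or_eq_top with h | h
  · exact h
  · exfalso
    subst h
    rw [Subgroup.card_top] at hc
    have := Nat.Coprime.eq_one_of_dvd (Nat.Coprime.symm hc) h2
    omega

/-- Simple groups with Sylow 2-subgroups `D₈`. -/
theorem of_dihedral (hGW : GW.{u}) (S : Sylow 2 G) (hS : Nonempty ((S : Subgroup G) ≃* DihedralGroup 4)) :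
    (∃ (F : Type) (_ : Field F) (_ : Fintype F), (Fintype.card F % 16 = 7 ∨ Fintype.card F % 16 = 9) ∧
      Nonempty (G ≃* Matrix.ProjectiveSpecialLinearGroup (Fin 2) F)) ∨
    Nonempty (G ≃* alternatingGroup (Fin 7)) := by
  haveI := isPerfect_of_dihedral S hS
  obtain ⟨h8, h16⟩ := card_of_dihedral S hS
  have hO : Cfsg.oddCore G = ⊥ := oddCore_eq_bot (dvd_trans (by norm_num) h8)
  have e₀ : G ≃* G ⧸ Cfsg.oddCore G :=
    ((QuotientGroup.quotientMulEquivOfEq hO).trans QuotientGroup.quotientBot).symm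
  rcases hGW G S 4 (by norm_num) hS with ⟨F, hF, hF2, hodd, -, ⟨e⟩⟩ | ⟨⟨e⟩⟩
  · left
    refine ⟨F, hF, hF2, ?_, ⟨e₀.trans e⟩⟩
    have h1 := Cfsg.Agent.SmallSimple.PSLTwoPart.card_psl_two_odd hodd
    rw [← Nat.card_congr (e₀.trans e).toEquiv] at h1
    exact Cfsg.Agent.SmallSimple.PSLTwoPart.mod_sixteen hodd h1 h8 h16
  · right
    exact ⟨e₀.trans e⟩

end GW

section Focal

variable {G : Type*} [Group G] [Finite G]

/-- focal subgroup theorem for a closed family containing a Sylow 2-subgroup -/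
theorem sylow_le_of_ess (hperf : Group.IsPerfect G) (S : Sylow 2 G) {𝒜 : Set G} (h : IsClosedFam 𝒜)
    (hS : IsSyl 𝒜 ⊤ (S : Subgroup G)) (M : Subgroup G)
    (hN : ∀ n ∈ normalizer ((S : Subgroup G) : Set G), ∀ y ∈ (S : Subgroup G), n * y * n⁻¹ * y⁻¹ ∈ M)
    (hE : ∀ E : Subgroup G, IsEss 𝒜 S E → ∀ n ∈ normalizer (E : Set G), ∀ y ∈ E, n * y * n⁻¹ * y⁻¹ ∈ M) :
    (S : Subgroup G) ≤ M := by
  refine Cfsg.Agent.TypeSpFour.focal_le hperf S M ?_
  intro y hy w hw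
  have hy1 : zpowers y ≤ (S : Subgroup G) := by rwa [zpowers_le]
  have hgen : Gen (S : Subgroup G) (fun E => E = S ∨ IsEss 𝒜 S E) (zpowers y) w := by
    refine gen_of_conj h hS _ (Or.inl rfl) (fun X hX => Or.inr hX) hy1 ?_
    rw [MonoidHom.map_zpowers, zpowers_le]
    simpa using hw
  have key : ∀ (Y : Subgroup G) (g : G), Gen (S : Subgroup G) (fun E => E = S ∨ IsEss 𝒜 S E) Y g →
      ∀ y ∈ Y, g * y * g⁻¹ * y⁻¹ ∈ M := by
    intro Y g hg
    induction hg with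
    | cent hA hc =>
      intro y hy
      have := mem_centralizer_iff.1 hc y hy
      rw [← this, mul_inv_cancel_right, mul_inv_cancel]
      exact one_mem _
    | base hX hF hAX hg =>
      intro y hy
      rcases hF with rfl | hF
      · exact hN _ hg _ (hAX hy)
      · exact hE _ hF _ hg _ (hAX hy)
    | @mul A g h _ _ ih1 ih2 =>
      intro y hy
      have h1 := ih1 y hy
      have h2 := ih2 (g * y * g⁻¹) ⟨y, hy, by simp⟩
      have h3 := mul_mem h2 h1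
      convert h3 using 1
      group
  exact key _ _ hgen y (mem_zpowers y)

end Focal

section Six

/-- In a group of order 6 the elements of order 3 are `a` and `a²`. -/
theorem eq_of_card_six {K : Type*} [Group K] (hK : Nat.card K = 6) {a b : K} (ha : a ^ 3 = 1) (ha1 : a ≠ 1)
    (hb : b ^ 3 = 1) : b = 1 ∨ b = a ∨ b = a ^ 2 := by
  haveI : Fact (Nat.Prime 3) := ⟨Nat.prime_three⟩
  haveI : Finite K := Nat.finite_of_card_ne_zero (by omega)
  have h3 : orderOf a = 3 := orderOf_eq_prime ha ha1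
  have hc : Nat.card (zpowers a) = 3 := by rw [Nat.card_zpowers, h3]
  have hi : (zpowers a).index = 2 := by
    have := (zpowers a).card_mul_index
    rw [hc, hK] at this
    omega
  have hb2 : b ^ 2 ∈ zpowers a := sq_mem_of_index_two hi b
  have hb4 : b ∈ zpowers a := by
    have h1 : b = (b ^ 2) ^ 2 := by
      rw [← pow_mul, show 2 * 2 = 3 + 1 by norm_num, pow_succ, hb, one_mul]
    rw [h1]
    exact pow_mem hb2 2
  obtain ⟨k, hk⟩ := (mem_zpowers_iff).1 hb4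
  have h1 : a ^ k = a ^ (k % 3) := by
    have h2 : k = 3 * (k / 3) + k % 3 := (Int.mul_ediv_add_emod k 3).symm
    conv_lhs => rw [h2]
    rw [zpow_add, zpow_mul, show a ^ (3 : ℤ) = 1 by exact_mod_cast ha, one_zpow, one_mul]
  have h3' : k % 3 = 0 ∨ k % 3 = 1 ∨ k % 3 = 2 := by omega
  rcases h3' with h | h | h
  · left
    rw [← hk, h1, h, zpow_zero]
  · right; left
    rw [← hk, h1, h, zpow_one]
  · right; right
    rw [← hk, h1, h]
    exact_mod_cast rfl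

end Six

section Bound

variable {G : Type*} [Group G] [Finite G]

/-- If a normal subgroup of `N(E)` induces a group of order 6 on `E`, `|E| = 8`, with a nontrivial fixed point, then
`[E, N(E)]` lies in a subgroup of order 4 of `E`. -/
theorem exists_commutator_bound {E X : Subgroup G} (hE2 : ∀ x ∈ E, x * x = 1) (hE8 : Nat.card E = 8)
    (hXN : X ≤ normalizer (E : Set G))
    (hnX : ∀ n ∈ normalizer (E : Set G), ∀ x ∈ X, n⁻¹ * x * n ∈ X)
    {K : Type*} [Group K] (hK : Nat.card K = 6) (φ : X →* K) (hφ : Function.Surjective φ)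
    (hker : ∀ x : X, φ x = 1 ↔ (x : G) ∈ centralizer (E : Set G))
    (hC : ∃ c ∈ E, c ≠ 1 ∧ ∀ x ∈ X, x * c = c * x) :
    ∃ W : Subgroup G, W ≤ E ∧ Nat.card W = 4 ∧
      ∀ n ∈ normalizer (E : Set G), ∀ e ∈ E, n * e * n⁻¹ * e⁻¹ ∈ W := by
  have hinv : ∀ x ∈ E, x⁻¹ = x := fun x hx => inv_eq_of_mul_eq_one_left (hE2 x hx)
  have hEc : ∀ x ∈ E, ∀ y ∈ E, x * y = y * x := by
    intro x hx y hy
    have h1 := hinv (x * y) (mul_mem hx hy)
    rw [mul_inv_rev, hinv x hx, hinv y hy] at h1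
    exact h1.symm
  haveI : Fact (Nat.Prime 3) := ⟨Nat.prime_three⟩
  haveI : Finite K := Nat.finite_of_card_ne_zero (by omega)
  obtain ⟨k, hk⟩ := exists_prime_orderOf_dvd_card' (G := K) 3 (by rw [hK]; norm_num)
  obtain ⟨⟨h, hhX⟩, rfl⟩ := hφ k
  have hk3 : (φ ⟨h, hhX⟩) ^ 3 = 1 := by rw [← hk]; exact pow_orderOf_eq_one _
  have hk1 : φ ⟨h, hhX⟩ ≠ 1 := by
    intro h1
    rw [h1, orderOf_one] at hk
    omega
  have hhN : h ∈ normalizer (E : Set G) := hXN hhX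
  have conjE : ∀ n ∈ normalizer (E : Set G), ∀ e ∈ E, n * e * n⁻¹ ∈ E := by
    intro n hn e he
    exact (mem_normalizer_iff.1 hn e).1 he
  have hh3 : ∀ e ∈ E, h * (h * (h * e * h⁻¹) * h⁻¹) * h⁻¹ = e := by
    intro e he
    have h1 : (⟨h, hhX⟩ : X) ^ 3 ∈ φ.ker := by
      rw [MonoidHom.mem_ker, map_pow, hk3]
    have h2 := (hker _).1 (MonoidHom.mem_ker.1 h1)
    have h3 := mem_centralizer_iff.1 h2 e he
    simp only [SubmonoidClass.mk_pow] at h3
    have h4 : h * (h * (h * e * h⁻¹) * h⁻¹) * h⁻¹ = (h ^ 3 * e) * (h ^ 3)⁻¹ := by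
      rw [pow_succ, pow_two]; group
    rw [h4, ← h3, mul_inv_cancel_right]
  -- the norm map
  let N : G → G := fun e => e * (h * e * h⁻¹) * (h * (h * e * h⁻¹) * h⁻¹)
  have hNdef : ∀ e, N e = e * (h * e * h⁻¹) * (h * (h * e * h⁻¹) * h⁻¹) := fun e => rfl
  have hNE : ∀ e ∈ E, N e ∈ E := by
    intro e he
    have h1 := conjE h hhN e he
    exact mul_mem (mul_mem he h1) (conjE h hhN _ h1)
  have hNmul : ∀ a ∈ E, ∀ b ∈ E, N (a * b) = N a * N b := by
    intro a ha b hb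
    have ha1 := conjE h hhN a ha
    have hb1 := conjE h hhN b hb
    have ha2 := conjE h hhN _ ha1
    have hb2 := conjE h hhN _ hb1
    have e1 : h * (a * b) * h⁻¹ = (h * a * h⁻¹) * (h * b * h⁻¹) := by group
    have e2 : h * ((h * a * h⁻¹) * (h * b * h⁻¹)) * h⁻¹ =
        (h * (h * a * h⁻¹) * h⁻¹) * (h * (h * b * h⁻¹) * h⁻¹) := by group
    rw [hNdef, hNdef, hNdef, e1, e2]
    generalize h * (h * a * h⁻¹) * h⁻¹ = a2 at *
    generalize h * (h * b * h⁻¹) * h⁻¹ = b2 at *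
    generalize h * a * h⁻¹ = a1 at *
    generalize h * b * h⁻¹ = b1 at *
    calc a * b * (a1 * b1) * (a2 * b2) = a * (b * a1) * (b1 * a2) * b2 := by group
      _ = a * (a1 * b) * (a2 * b1) * b2 := by rw [hEc b hb a1 ha1, hEc b1 hb1 a2 ha2]
      _ = a * a1 * (b * a2) * (b1 * b2) := by group
      _ = a * a1 * (a2 * b) * (b1 * b2) := by rw [hEc b hb a2 ha2]
      _ = a * a1 * a2 * (b * b1 * b2) := by group
  have hNfix : ∀ e ∈ E, h * N e * h⁻¹ = N e := by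
    intro e he
    have h1 := conjE h hhN e he
    have h2 := conjE h hhN _ h1
    have e1 : h * N e * h⁻¹ = (h * e * h⁻¹) * (h * (h * e * h⁻¹) * h⁻¹) *
        (h * (h * (h * e * h⁻¹) * h⁻¹) * h⁻¹) := by rw [hNdef]; group
    rw [e1, hh3 e he, hEc _ (mul_mem h1 h2) e he, hNdef, mul_assoc e]
  have hNC : ∀ e ∈ E, h * e * h⁻¹ = e → N e = e := by
    intro e he h1
    rw [hNdef, h1, h1, hE2 e he, one_mul]
  let ν : E →* E := MonoidHom.mk' (fun e => ⟨N e, hNE _ e.2⟩)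
    (fun a b => Subtype.ext (hNmul _ a.2 _ b.2))
  have hνdef : ∀ e : E, ((ν e : E) : G) = N e := fun e => rfl
  have hmemr : ∀ e : E, e ∈ ν.range ↔ h * (e : G) * h⁻¹ = e := by
    intro e
    constructor
    · rintro ⟨a, rfl⟩
      rw [hνdef]
      exact hNfix _ a.2
    · intro h1
      exact ⟨e, Subtype.ext (by rw [hνdef]; exact hNC _ e.2 h1)⟩
  have hmemk : ∀ e : E, e ∈ ν.ker ↔ N e = 1 := by
    intro e
    rw [MonoidHom.mem_ker]
    constructor
    · intro h1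
      rw [← hνdef, h1]; rfl
    · intro h1
      exact Subtype.ext (by rw [hνdef, h1]; rfl)
  have hcard : Nat.card ν.ker * Nat.card ν.range = 8 := by
    rw [← hE8, ← Nat.card_congr (QuotientGroup.quotientKerEquivRange ν).toEquiv, mul_comm]
    exact (card_eq_card_quotient_mul_card_subgroup ν.ker).symm
  have hkr : ∀ e : E, e ∈ ν.ker → e ∈ ν.range → e = 1 := by
    intro e h1 h2
    have h3 := hNC _ e.2 ((hmemr e).1 h2)
    rw [(hmemk e).1 h1] at h3
    exact Subtype.ext h3.symm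
  have hkc : ∀ e : E, e ∈ ν.ker → (⟨h * e * h⁻¹, conjE h hhN _ e.2⟩ : E) ∈ ν.ker := by
    intro e he
    rw [hmemk] at he ⊢
    show N (h * e * h⁻¹) = 1
    have e1 : N (h * e * h⁻¹) = h * N e * h⁻¹ := by
      rw [hNdef, hNdef]; group
    rw [e1, he]; group
  have hr2 : Nat.card ν.range = 2 := by
    have hdvd : Nat.card ν.range ∣ 2 ^ 3 := ⟨Nat.card ν.ker, by rw [mul_comm]; exact hcard.symm⟩
    obtain ⟨j, hj, hj2⟩ := (Nat.dvd_prime_pow Nat.prime_two).1 hdvd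
    interval_cases j
    · exfalso
      obtain ⟨c, hcE, hc1, hc⟩ := hC
      have h1 : (⟨c, hcE⟩ : E) ∈ ν.range := by
        rw [hmemr]
        show h * c * h⁻¹ = c
        rw [hc h hhX, mul_inv_cancel_right]
      rw [pow_zero, Subgroup.card_eq_one] at hj2
      rw [hj2, mem_bot] at h1
      exact hc1 (congrArg Subtype.val h1)
    · simpa using hj2
    · exfalso
      have hk2 : Nat.card ν.ker = 2 := by
        rw [hj2] at hcard; omega
      obtain ⟨x, y, hxy, huniv⟩ := Nat.card_eq_two_iff.1 hk2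
      obtain ⟨w, hw1⟩ : ∃ w : ν.ker, w ≠ 1 := by
        by_cases hx : x = 1
        · exact ⟨y, fun h => hxy (by rw [hx, h])⟩
        · exact ⟨x, hx⟩
      have hall : ∀ v : ν.ker, v ≠ 1 → v = w := by
        have huniq : ∀ v : ν.ker, v = x ∨ v = y := by
          intro v
          have : v ∈ ({x, y} : Set ν.ker) := by rw [huniv]; trivial
          simpa using this
        intro v hv
        rcases huniq v with h1 | h1 <;> rcases huniq w with h2 | h2 <;> rcases huniq 1 with h3 | h3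
        · rw [h1, h2]
        · rw [h1, h2]
        · exact absurd (h1.trans h3.symm) hv
        · exact absurd (h2.trans h3.symm) hw1
        · exact absurd (h2.trans h3.symm) hw1
        · exact absurd (h1.trans h3.symm) hv
        · rw [h1, h2]
        · rw [h1, h2]
      have h1 := hkc w.1 w.2
      have h2 : (⟨_, h1⟩ : ν.ker) = w := by
        apply hall
        intro h3
        apply hw1
        have h4 : h * (w.1 : G) * h⁻¹ = 1 := congrArg (fun v : ν.ker => ((v.1 : E) : G)) h3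
        have h5 : ((w.1 : E) : G) = 1 := by
          have := congrArg (fun g => h⁻¹ * g * h) h4
          rw [← mul_assoc, ← mul_assoc, inv_mul_cancel, one_mul, inv_mul_cancel_right, mul_one,
            inv_mul_cancel] at this
          exact this
        exact Subtype.ext (Subtype.ext h5)
      have h3 : h * (w.1 : G) * h⁻¹ = w.1 := congrArg (fun v : ν.ker => ((v.1 : E) : G)) h2
      exact hw1 (Subtype.ext (hkr w.1 w.2 ((hmemr _).2 h3)))
    · exfalso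
      have h1 : ν.range = ⊤ := by
        apply Subgroup.eq_top_of_card_eq
        rw [hj2, hE8]; norm_num
      apply hk1
      rw [hker]
      rw [mem_centralizer_iff]
      intro e he
      have h2 : (⟨e, he⟩ : E) ∈ ν.range := by rw [h1]; trivial
      have h3 : h * e * h⁻¹ = e := (hmemr _).1 h2
      exact (mul_inv_eq_iff_eq_mul.1 h3).symm
  have hk4 : Nat.card ν.ker = 4 := by
    rw [hr2] at hcard; omega
  -- equivariance
  have hequi : ∀ n ∈ normalizer (E : Set G), ∀ e ∈ E, N (n * e * n⁻¹) = n * N e * n⁻¹ := by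
    intro n hn e he
    have hh' : n⁻¹ * h * n ∈ X := hnX n hn h hhX
    have hb3 : (φ ⟨n⁻¹ * h * n, hh'⟩) ^ 3 = 1 := by
      rw [← map_pow, hker]
      rw [mem_centralizer_iff]
      intro a ha
      simp only [SubmonoidClass.mk_pow]
      have h1 := hh3 (n * a * n⁻¹) (conjE n hn a ha)
      have h2 : h ^ 3 * (n * a * n⁻¹) = (n * a * n⁻¹) * h ^ 3 := by
        rw [← mul_inv_eq_iff_eq_mul]
        conv_rhs => rw [← h1]
        rw [pow_succ, pow_two]; group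
      have h3 : (n⁻¹ * h * n) ^ 3 = n⁻¹ * h ^ 3 * n := by
        rw [pow_succ, pow_two, pow_succ, pow_two]; group
      rw [h3]
      calc a * (n⁻¹ * h ^ 3 * n) = n⁻¹ * ((n * a * n⁻¹) * h ^ 3) * n := by group
        _ = n⁻¹ * (h ^ 3 * (n * a * n⁻¹)) * n := by rw [h2]
        _ = n⁻¹ * h ^ 3 * n * a := by group
    -- the action of `h' = n⁻¹ h n`
    have hact : (∀ a ∈ E, (n⁻¹ * h * n) * a * (n⁻¹ * h * n)⁻¹ = h * a * h⁻¹) ∨
        (∀ a ∈ E, (n⁻¹ * h * n) * a * (n⁻¹ * h * n)⁻¹ = h * (h * a * h⁻¹) * h⁻¹) := by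
      rcases eq_of_card_six hK hk3 hk1 hb3 with h1 | h1 | h1
      · exfalso
        apply hk1
        rw [hker, mem_centralizer_iff] at h1 ⊢
        intro a ha
        have ha' : n⁻¹ * a * n ∈ E := (mem_normalizer_iff''.1 hn a).1 ha
        have h2 : (n⁻¹ * a * n) * (n⁻¹ * h * n) = (n⁻¹ * h * n) * (n⁻¹ * a * n) := h1 _ ha'
        calc a * h = n * ((n⁻¹ * a * n) * (n⁻¹ * h * n)) * n⁻¹ := by group
          _ = n * ((n⁻¹ * h * n) * (n⁻¹ * a * n)) * n⁻¹ := by rw [h2]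
          _ = h * a := by group
      · left
        have h2 : φ (⟨h, hhX⟩⁻¹ * ⟨n⁻¹ * h * n, hh'⟩) = 1 := by
          rw [map_mul, map_inv, h1, inv_mul_cancel]
        rw [hker, mem_centralizer_iff] at h2
        intro a ha
        have h3 : a * (h⁻¹ * (n⁻¹ * h * n)) = (h⁻¹ * (n⁻¹ * h * n)) * a := h2 a ha
        rw [mul_inv_eq_iff_eq_mul]
        calc n⁻¹ * h * n * a = h * ((h⁻¹ * (n⁻¹ * h * n)) * a) := by group
          _ = h * (a * (h⁻¹ * (n⁻¹ * h * n))) := by rw [h3]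
          _ = h * a * h⁻¹ * (n⁻¹ * h * n) := by group
      · right
        have h2 : φ ((⟨h, hhX⟩ ^ 2)⁻¹ * ⟨n⁻¹ * h * n, hh'⟩) = 1 := by
          rw [map_mul, map_inv, map_pow, h1, inv_mul_cancel]
        rw [hker, mem_centralizer_iff] at h2
        intro a ha
        have h3 : a * ((h ^ 2)⁻¹ * (n⁻¹ * h * n)) = ((h ^ 2)⁻¹ * (n⁻¹ * h * n)) * a := h2 a ha
        rw [mul_inv_eq_iff_eq_mul]
        calc n⁻¹ * h * n * a = h ^ 2 * (((h ^ 2)⁻¹ * (n⁻¹ * h * n)) * a) := by group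
          _ = h ^ 2 * (a * ((h ^ 2)⁻¹ * (n⁻¹ * h * n))) := by rw [h3]
          _ = h * (h * a * h⁻¹) * h⁻¹ * (n⁻¹ * h * n) := by rw [pow_two]; group
    have e1 : ∀ a, h * (n * a * n⁻¹) * h⁻¹ = n * ((n⁻¹ * h * n) * a * (n⁻¹ * h * n)⁻¹) * n⁻¹ := by
      intro a; group
    have e2 : N (n * e * n⁻¹) = n * (e * ((n⁻¹ * h * n) * e * (n⁻¹ * h * n)⁻¹) *
        ((n⁻¹ * h * n) * ((n⁻¹ * h * n) * e * (n⁻¹ * h * n)⁻¹) * (n⁻¹ * h * n)⁻¹)) * n⁻¹ := by
      rw [hNdef, e1, e1]; group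
    rw [e2]
    have h1 := conjE h hhN e he
    have h2 := conjE h hhN _ h1
    rcases hact with h3 | h3
    · rw [h3 e he, h3 _ h1, hNdef]
    · rw [h3 e he, h3 _ h2, hh3 e he, hNdef, mul_assoc e, hEc _ h2 _ h1, ← mul_assoc e]
  refine ⟨ν.ker.map E.subtype, ?_, ?_, ?_⟩
  · rintro _ ⟨x, -, rfl⟩
    exact x.2
  · rw [← hk4]
    exact Nat.card_congr (ν.ker.equivMapOfInjective _ E.subtype_injective).symm.toEquiv
  · intro n hn e he
    have hne := conjE n hn e he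
    refine ⟨⟨n * e * n⁻¹ * e⁻¹, mul_mem hne (inv_mem he)⟩, ?_, rfl⟩
    rw [SetLike.mem_coe, hmemk]
    show N (n * e * n⁻¹ * e⁻¹) = 1
    rw [hNmul _ hne _ (inv_mem he), hequi n hn e he, hinv e he]
    -- `n` centralises the image of the norm map
    have hr : (⟨N e, hNE e he⟩ : E) ∈ ν.range := ⟨⟨e, he⟩, rfl⟩
    have hr' : (⟨N (n * e * n⁻¹), hNE _ hne⟩ : E) ∈ ν.range := ⟨⟨_, hne⟩, rfl⟩
    have h1 : n * N e * n⁻¹ = N e := by
      by_cases hN1 : N e = 1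
      · rw [hN1]; group
      have hN2 : n * N e * n⁻¹ ≠ 1 := by
        intro h1
        apply hN1
        have := congrArg (fun g => n⁻¹ * g * n) h1
        rw [← mul_assoc, ← mul_assoc, inv_mul_cancel, one_mul, inv_mul_cancel_right, mul_one,
          inv_mul_cancel] at this
        exact this
      rw [← hequi n hn e he] at hN2 ⊢
      obtain ⟨x, y, hxy, huniv⟩ := Nat.card_eq_two_iff.1 hr2
      have huniq : ∀ v : ν.range, v = x ∨ v = y := by
        intro v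
        have : v ∈ ({x, y} : Set ν.range) := by rw [huniv]; trivial
        simpa using this
      have hne1 : (⟨⟨N e, hNE e he⟩, hr⟩ : ν.range) ≠ 1 := by
        intro h1
        exact hN1 (congrArg (fun v : ν.range => ((v.1 : E) : G)) h1)
      have hne2 : (⟨⟨N (n * e * n⁻¹), hNE _ hne⟩, hr'⟩ : ν.range) ≠ 1 := by
        intro h1
        exact hN2 (congrArg (fun v : ν.range => ((v.1 : E) : G)) h1)
      have heq : (⟨⟨N (n * e * n⁻¹), hNE _ hne⟩, hr'⟩ : ν.range) = ⟨⟨N e, hNE e he⟩, hr⟩ := by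
        rcases huniq ⟨⟨N (n * e * n⁻¹), hNE _ hne⟩, hr'⟩ with h1 | h1 <;>
          rcases huniq ⟨⟨N e, hNE e he⟩, hr⟩ with h2 | h2 <;> rcases huniq 1 with h3 | h3
        · rw [h1, h2]
        · rw [h1, h2]
        · exact absurd (h1.trans h3.symm) hne2
        · exact absurd (h2.trans h3.symm) hne1
        · exact absurd (h2.trans h3.symm) hne1
        · exact absurd (h1.trans h3.symm) hne2
        · rw [h1, h2]
        · rw [h1, h2]
      exact congrArg (fun v : ν.range => ((v.1 : E) : G)) heq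
    rw [h1, hE2 _ (hNE e he)]

end Bound

section Card

variable {G : Type*} [Group G]

theorem card_sup_mul {H N : Subgroup G} (h : H ≤ normalizer (N : Set G)) :
    Nat.card ↥(H ⊔ N) * Nat.card ↥(H ⊓ N) = Nat.card H * Nat.card N := by
  rw [← Cfsg.Agent.Lib.ProductSet.card_mul_card_inf H N]
  congr 1
  exact Nat.card_congr (Equiv.setCongr (Subgroup.coe_mul_of_left_le_normalizer_right H N h))

theorem exists_mul_of_mem_sup {H N : Subgroup G} (h : H ≤ normalizer (N : Set G)) {x : G} (hx : x ∈ H ⊔ N) :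
    ∃ a ∈ H, ∃ b ∈ N, x = a * b := by
  have h1 : x ∈ ((H ⊔ N : Subgroup G) : Set G) := hx
  rw [Subgroup.coe_mul_of_left_le_normalizer_right H N h, Set.mem_mul] at h1
  obtain ⟨a, ha, b, hb, hab⟩ := h1
  exact ⟨a, ha, b, hb, hab.symm⟩

theorem comm_of_sq {E : Subgroup G} (hE : ∀ x ∈ E, x * x = 1) {x y : G} (hx : x ∈ E) (hy : y ∈ E) :
    x * y = y * x := by
  have h1 := inv_eq_of_mul_eq_one_left (hE (x * y) (mul_mem hx hy))
  rw [mul_inv_rev, inv_eq_of_mul_eq_one_left (hE x hx), inv_eq_of_mul_eq_one_left (hE y hy)] at h1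
  exact h1.symm

end Card

/-- The 2-group `A = E₁E₂` with `|E_i : E₁ ∩ E₂| = 2`. -/
structure Ctx {G : Type*} [Group G] (A E₁ E₂ : Subgroup G) : Prop where
  sup : E₁ ⊔ E₂ = A
  nor₁ : A ≤ normalizer (E₁ : Set G)
  nor₂ : A ≤ normalizer (E₂ : Set G)
  sq₁ : ∀ x ∈ E₁, x * x = 1
  sq₂ : ∀ x ∈ E₂, x * x = 1
  cent₁ : centralizer (E₁ : Set G) ⊓ A ≤ E₁
  cent₂ : centralizer (E₂ : Set G) ⊓ A ≤ E₂
  card₁ : Nat.card ↥E₁ = 2 * Nat.card ↥(E₁ ⊓ E₂)
  card₂ : Nat.card ↥E₂ = 2 * Nat.card ↥(E₁ ⊓ E₂)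

namespace Ctx

variable {G : Type*} [Group G] {A E₁ E₂ : Subgroup G}

theorem symm (h : Ctx A E₁ E₂) : Ctx A E₂ E₁ where
  sup := by rw [sup_comm]; exact h.sup
  nor₁ := h.nor₂
  nor₂ := h.nor₁
  sq₁ := h.sq₂
  sq₂ := h.sq₁
  cent₁ := h.cent₂
  cent₂ := h.cent₁
  card₁ := by rw [inf_comm]; exact h.card₂
  card₂ := by rw [inf_comm]; exact h.card₁

theorem le₁ (h : Ctx A E₁ E₂) : E₁ ≤ A := by rw [← h.sup]; exact le_sup_left
theorem le₂ (h : Ctx A E₁ E₂) : E₂ ≤ A := h.symm.le₁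

variable [Finite G]

/-- `|E₁ : Z| = 2`: two elements outside `Z` differ by an element of `Z` -/
theorem mem_Z (h : Ctx A E₁ E₂) {x y : G} (hx : x ∈ E₁) (hy : y ∈ E₁) (hx2 : x ∉ E₂) (hy2 : y ∉ E₂) :
    x * y ∈ E₁ ⊓ E₂ := by
  have hi : ((E₁ ⊓ E₂).subgroupOf E₁).index = 2 := by
    have h1 := ((E₁ ⊓ E₂).subgroupOf E₁).card_mul_index
    rw [Nat.card_congr (subgroupOfEquivOfLe (inf_le_left : E₁ ⊓ E₂ ≤ E₁)).toEquiv, h.card₁, mul_comm] at h1
    exact Nat.eq_of_mul_eq_mul_right Nat.card_pos h1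
  have h1 := (mul_mem_iff_of_index_two hi (a := ⟨x, hx⟩) (b := ⟨y, hy⟩)).2
  rw [mem_subgroupOf, mem_subgroupOf, mem_subgroupOf] at h1
  exact h1 ⟨fun h3 => absurd h3.2 hx2, fun h3 => absurd h3.2 hy2⟩

theorem exists_not_mem (h : Ctx A E₁ E₂) : ∃ x ∈ E₁, x ∉ E₂ := by
  by_contra hcon
  push Not at hcon
  have h1 : E₁ ⊓ E₂ = E₁ := inf_eq_left.2 hcon
  have h2 := h.card₁
  rw [h1] at h2
  have : 0 < Nat.card E₁ := Nat.card_pos
  omega

/-- elements of `E₁ - Z` and `E₂ - Z` do not commute -/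
theorem not_comm (h : Ctx A E₁ E₂) {x y : G} (hx : x ∈ E₁) (hx2 : x ∉ E₂) (hy : y ∈ E₂) (hy1 : y ∉ E₁) :
    x * y ≠ y * x := by
  intro hc
  apply hx2
  apply h.cent₂
  refine mem_inf.2 ⟨?_, h.le₁ hx⟩
  rw [mem_centralizer_iff]
  intro b hb
  by_cases hb1 : b ∈ E₁
  · exact comm_of_sq h.sq₁ hb1 hx
  · have h1 := h.symm.mem_Z hb hy hb1 hy1
    have h2 := comm_of_sq h.sq₁ h1.2 hx
    have h3 : b = b * y * y⁻¹ := by group
    rw [h3]
    calc b * y * y⁻¹ * x = b * y * (y⁻¹ * x) := by group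
      _ = b * y * (x * y⁻¹) := by rw [(Commute.inv_right hc : x * y⁻¹ = y⁻¹ * x)]
      _ = (b * y * x) * y⁻¹ := by group
      _ = x * (b * y * y⁻¹) := by rw [h2]; group

omit [Finite G] in
theorem exists_mul (h : Ctx A E₁ E₂) {s : G} (hs : s ∈ A) : ∃ a ∈ E₁, ∃ b ∈ E₂, s = a * b := by
  rw [← h.sup] at hs
  exact exists_mul_of_mem_sup (h.le₁.trans h.nor₂) hs

omit [Finite G] in
theorem br (h : Ctx A E₁ E₂) {a b : G} (ha : a ∈ E₁) (hb : b ∈ E₂) : a * b * a⁻¹ * b⁻¹ ∈ E₁ ⊓ E₂ := by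
  refine mem_inf.2 ⟨?_, ?_⟩
  · have h1 := (mem_normalizer_iff.1 (h.nor₁ (h.le₂ hb)) a⁻¹).1 (inv_mem ha)
    have h2 := mul_mem ha h1
    convert h2 using 1
    group
  · have h1 := (mem_normalizer_iff.1 (h.nor₂ (h.le₁ ha)) b).1 hb
    exact mul_mem h1 (inv_mem hb)

/-- involutions of `A` lie in `E₁ ∪ E₂` -/
theorem mem_or_mem (h : Ctx A E₁ E₂) {s : G} (hs : s ∈ A) (hs2 : s * s = 1) : s ∈ E₁ ∨ s ∈ E₂ := by
  obtain ⟨a, ha, b, hb, rfl⟩ := h.exists_mul hs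
  by_cases ha2 : a ∈ E₂
  · exact Or.inr (mul_mem ha2 hb)
  by_cases hb1 : b ∈ E₁
  · exact Or.inl (mul_mem ha hb1)
  exfalso
  apply h.not_comm ha ha2 hb hb1
  have h1 := inv_eq_of_mul_eq_one_left hs2
  rw [mul_inv_rev, inv_eq_of_mul_eq_one_left (h.sq₁ a ha), inv_eq_of_mul_eq_one_left (h.sq₂ b hb)] at h1
  exact h1.symm

theorem cardA (h : Ctx A E₁ E₂) : Nat.card A = 4 * Nat.card ↥(E₁ ⊓ E₂) := by
  have h1 := card_sup_mul (h.le₁.trans h.nor₂)
  rw [h.sup, h.card₁, h.card₂] at h1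
  have h2 : 0 < Nat.card ↥(E₁ ⊓ E₂) := Nat.card_pos
  apply Nat.eq_of_mul_eq_mul_right h2
  rw [h1]
  ring

/-- `|Z| = 2`: `A` is dihedral of order 8 -/
theorem dihedral (h : Ctx A E₁ E₂) (hZ : Nat.card ↥(E₁ ⊓ E₂) = 2) : Nonempty (A ≃* DihedralGroup 4) := by
  obtain ⟨x, hx, hx2⟩ := h.exists_not_mem
  obtain ⟨y, hy, hy1⟩ := h.symm.exists_not_mem
  have hxy := h.not_comm hx hx2 hy hy1
  have hx1 : x ≠ 1 := fun h1 => hx2 (h1 ▸ one_mem _)
  have hy2 : y ≠ 1 := fun h1 => hy1 (h1 ▸ one_mem _)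
  have ho : orderOf (x * y) = 4 := by
    have h1 : (x * y) ^ 2 = x * y * x⁻¹ * y⁻¹ := by
      rw [inv_eq_of_mul_eq_one_left (h.sq₁ x hx), inv_eq_of_mul_eq_one_left (h.sq₂ y hy), pow_two]
      group
    have h2 : (x * y) ^ 2 ∈ E₁ := by rw [h1]; exact (h.br hx hy).1
    have h3 : (x * y) ^ 2 ≠ 1 := by
      rw [h1]
      intro h4
      exact hxy (by rwa [mul_inv_eq_one, mul_inv_eq_iff_eq_mul] at h4)
    refine orderOf_eq_prime_pow (p := 2) (n := 1) (by simpa using h3) ?_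
    rw [show 2 ^ (1 + 1) = 2 * 2 by norm_num, pow_mul, pow_two, h.sq₁ _ h2]
  obtain ⟨e⟩ := Cfsg.Agent.SporadicB.DihedralLift.closure_pair_equiv_dihedral (h.sq₁ x hx) (h.sq₂ y hy) ho
    (Cfsg.Agent.SporadicB.DihedralLift.not_mem_zpowers (h.sq₁ x hx) (h.sq₂ y hy) hx1 hy2)
  have hcl : closure ({x, y} : Set G) = A := by
    apply Subgroup.eq_of_le_of_card_ge
    · rw [closure_le]
      rintro g (rfl | rfl)
      · exact h.le₁ hx
      · exact h.le₂ hy
    · rw [h.cardA, hZ, Nat.card_congr e.toEquiv, DihedralGroup.nat_card]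
  exact ⟨(MulEquiv.subgroupCongr hcl.symm).trans e⟩

/-- an element of `N(A)` fixes or swaps `E₁`, `E₂` -/
theorem normalizer_or (h : Ctx A E₁ E₂) {n : G} (hn : n ∈ normalizer (A : Set G)) :
    (E₁.map (MulAut.conj n).toMonoidHom = E₁ ∧ E₂.map (MulAut.conj n).toMonoidHom = E₂) ∨
    (E₁.map (MulAut.conj n).toMonoidHom = E₂ ∧ E₂.map (MulAut.conj n).toMonoidHom = E₁) := by
  have key : ∀ E : Subgroup G, E ≤ A → (∀ x ∈ E, x * x = 1) → Nat.card E = Nat.card E₁ →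
      E.map (MulAut.conj n).toMonoidHom = E₁ ∨ E.map (MulAut.conj n).toMonoidHom = E₂ := by
    intro E hEA hE hc
    have h1 : ((E.map (MulAut.conj n).toMonoidHom : Subgroup G) : Set G) ⊆ E₁ ∪ E₂ := by
      rintro _ ⟨x, hx, rfl⟩
      apply h.mem_or_mem
      · exact (mem_normalizer_iff.1 hn x).1 (hEA hx)
      · rw [← map_mul, hE x hx, map_one]
    have h2 : Nat.card (E.map (MulAut.conj n).toMonoidHom) = Nat.card E := card_map_conj E n
    rcases SubgroupClass.subset_union.1 h1 with h3 | h3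
    · left
      exact Subgroup.eq_of_le_of_card_ge h3 (by rw [h2, hc])
    · right
      exact Subgroup.eq_of_le_of_card_ge h3 (by rw [h2, hc, h.card₁, h.card₂])
  have hne : E₁ ≠ E₂ := by
    intro h1
    obtain ⟨x, hx, hx2⟩ := h.exists_not_mem
    exact hx2 (h1 ▸ hx)
  have hinj : ∀ E E' : Subgroup G, E.map (MulAut.conj n).toMonoidHom = E'.map (MulAut.conj n).toMonoidHom → E = E' :=
    fun E E' h1 => Subgroup.map_injective (MulAut.conj n).injective h1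
  rcases key E₁ h.le₁ h.sq₁ rfl with h1 | h1 <;>
    rcases key E₂ h.le₂ h.sq₂ (by rw [h.card₁, h.card₂]) with h2 | h2
  · exact absurd (hinj _ _ (h1.trans h2.symm)) hne
  · exact Or.inl ⟨h1, h2⟩
  · exact Or.inr ⟨h1, h2⟩
  · exact absurd (hinj _ _ (h1.trans h2.symm)) hne

/-- if `A` is a Sylow 2-subgroup, `N(A)` normalises `E₁` and `E₂` -/
theorem normalizer_le (S : Sylow 2 G) (h : Ctx (S : Subgroup G) E₁ E₂) {n : G}
    (hn : n ∈ normalizer ((S : Subgroup G) : Set G)) :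
    n ∈ normalizer (E₁ : Set G) ∧ n ∈ normalizer (E₂ : Set G) := by
  have hne : E₁ ≠ E₂ := by
    intro h1
    obtain ⟨x, hx, hx2⟩ := h.exists_not_mem
    exact hx2 (h1 ▸ hx)
  rcases h.normalizer_or hn with h1 | h1
  · exact ⟨mem_normalizer_iff_map_conj.2 h1.1, mem_normalizer_iff_map_conj.2 h1.2⟩
  · exfalso
    obtain ⟨k, m, hm, hkm⟩ := Nat.exists_eq_pow_mul_and_not_dvd (orderOf_pos n).ne' 2 (by norm_num)
    have hmem : n ^ m ∈ (S : Subgroup G) := by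
      refine Cfsg.Agent.TwoFusion.ElemCent.mem_of_normalizer_of_pow S (k := k) (pow_mem hn m) ?_
      rw [← pow_mul, mul_comm, ← hkm, pow_orderOf_eq_one]
    have hfix : E₁.map (MulAut.conj (n ^ m)).toMonoidHom = E₁ :=
      mem_normalizer_iff_map_conj.1 (h.nor₁ hmem)
    have hpow : ∀ j : ℕ, E₁.map (MulAut.conj (n ^ (2 * j + 1))).toMonoidHom = E₂ := by
      intro j
      induction j with
      | zero => simpa using h1.1
      | succ j ih =>
        have : n ^ (2 * (j + 1) + 1) = n * (n * n ^ (2 * j + 1)) := by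
          rw [← pow_succ', ← pow_succ']
          congr 1
        rw [this, ← map_conj_map_conj, ← map_conj_map_conj, ih, h1.2, h1.1]
    have hodd : ∃ j, m = 2 * j + 1 := by
      refine ⟨m / 2, ?_⟩
      omega
    obtain ⟨j, rfl⟩ := hodd
    rw [hpow] at hfix
    exact hne hfix.symm

end Ctx

section Main

open Cfsg.Agent.ClassTwoFusion.OneEdge

variable {G : Type*} [Group G] [Finite G]

theorem card_SL_two {F : Type*} [Field F] (hF : Nat.card F = 2) :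
    Nat.card (Matrix.SpecialLinearGroup (Fin 2) F) = 6 := by
  haveI : Finite F := Nat.finite_of_card_ne_zero (by omega)
  haveI := Fintype.ofFinite F
  rw [Nat.card_eq_fintype_card] at hF
  have h1 := Cfsg.Agent.S0242.result hF 2 (by norm_num)
  rw [Fin.prod_univ_two] at h1
  simpa using h1

/-- `|F| = 2` and `|Z| = 4` is impossible if `A` is a Sylow 2-subgroup of a perfect group. -/
theorem not_four (hperf : Group.IsPerfect G) (S : Sylow 2 G) {𝒜 : Set G} (h𝒜 : IsClosedFam 𝒜)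
    {E₁ E₂ : Subgroup G} (h : Ctx (S : Subgroup G) E₁ E₂) (hZ : Nat.card ↥(E₁ ⊓ E₂) = 4)
    (hsyl : IsSyl 𝒜 ⊤ (S : Subgroup G))
    (hess : ∀ X : Subgroup G, IsEss 𝒜 S X → X = E₁ ∨ X = E₂)
    {K : Type*} [Group K] (hK : Nat.card K = 6)
    (φ₁ : ↥(XG 𝒜 E₁) →* K) (φ₂ : ↥(XG 𝒜 E₂) →* K) (hφ₁ : Function.Surjective φ₁) (hφ₂ : Function.Surjective φ₂)
    (hk₁ : ∀ x, φ₁ x = 1 ↔ (x : G) ∈ centralizer (E₁ : Set G))
    (hk₂ : ∀ x, φ₂ x = 1 ↔ (x : G) ∈ centralizer (E₂ : Set G))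
    (hC₁ : 2 * Nat.card ↥(E₁ ⊓ centralizer (XG 𝒜 E₁ : Set G)) = Nat.card ↥(E₁ ⊓ E₂))
    (hC₂ : 2 * Nat.card ↥(E₂ ⊓ centralizer (XG 𝒜 E₂ : Set G)) = Nat.card ↥(E₁ ⊓ E₂)) : False := by
  have side : ∀ E : Subgroup G, (∀ x ∈ E, x * x = 1) → Nat.card E = 8 →
      2 * Nat.card ↥(E ⊓ centralizer (XG 𝒜 E : Set G)) = 4 → ∀ φ : ↥(XG 𝒜 E) →* K, Function.Surjective φ →
      (∀ x, φ x = 1 ↔ (x : G) ∈ centralizer (E : Set G)) →
      ∃ W : Subgroup G, W ≤ E ∧ Nat.card W = 4 ∧ ∀ n ∈ normalizer (E : Set G), ∀ e ∈ E, n * e * n⁻¹ * e⁻¹ ∈ W := by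
    intro E hE hE8 hC φ hφ hk
    refine exists_commutator_bound hE hE8 (fam_le 𝒜 _) ?_ hK φ hφ hk ?_
    · intro n hn x hx
      have h1 := h𝒜.conj_mem_fam (H := normalizer (E : Set G)) (g := n⁻¹)
        (fun y hy => mul_mem (mul_mem (inv_mem hn) hy) (inv_mem (inv_mem hn))) hx
      simpa using h1
    · have h2 : Nat.card ↥(E ⊓ centralizer (XG 𝒜 E : Set G)) = 2 := by omega
      obtain ⟨x, y, hxy, -⟩ := Nat.card_eq_two_iff.1 h2
      have h3 : ∃ c : ↥(E ⊓ centralizer (XG 𝒜 E : Set G)), c ≠ 1 := by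
        by_cases hx : x = 1
        · exact ⟨y, fun h => hxy (by rw [hx, h])⟩
        · exact ⟨x, hx⟩
      obtain ⟨⟨c, hc⟩, hc1⟩ := h3
      refine ⟨c, (mem_inf.1 hc).1, fun h => hc1 (Subtype.ext h), ?_⟩
      intro x hx
      exact mem_centralizer_iff.1 (mem_inf.1 hc).2 x hx
  obtain ⟨W₁, hW₁E, hW₁4, hW₁⟩ := side E₁ h.sq₁ (by rw [h.card₁, hZ]) (by rw [hC₁, hZ]) φ₁ hφ₁ hk₁
  obtain ⟨W₂, hW₂E, hW₂4, hW₂⟩ := side E₂ h.sq₂ (by rw [h.card₂, hZ]) (by rw [hC₂, hZ]) φ₂ hφ₂ hk₂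
  -- `S` normalises `W₁` and `W₂`
  have conjW : ∀ E W : Subgroup G, W ≤ E → (S : Subgroup G) ≤ normalizer (E : Set G) →
      (∀ n ∈ normalizer (E : Set G), ∀ e ∈ E, n * e * n⁻¹ * e⁻¹ ∈ W) →
      ∀ n ∈ (S : Subgroup G), ∀ w ∈ W, n * w * n⁻¹ ∈ W := by
    intro E W hWE hSE hW n hn w hw
    have h1 := mul_mem (hW n (hSE hn) w (hWE hw)) hw
    simpa using h1
  have c₁ := conjW E₁ W₁ hW₁E h.nor₁ hW₁
  have c₂ := conjW E₂ W₂ hW₂E h.nor₂ hW₂
  have hW12 : W₁ ≤ normalizer (W₂ : Set G) := by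
    intro w hw
    refine mem_normalizer_iff.2 fun x => ⟨fun hx => c₂ w (h.le₁ (hW₁E hw)) x hx, fun hx => ?_⟩
    have h1 := c₂ w⁻¹ (inv_mem (h.le₁ (hW₁E hw))) _ hx
    have h2 : w⁻¹ * (w * x * w⁻¹) * w⁻¹⁻¹ = x := by group
    rwa [h2] at h1
  obtain ⟨x, hx, hx2⟩ := h.exists_not_mem
  obtain ⟨y, hy, hy1⟩ := h.symm.exists_not_mem
  have hxy := h.not_comm hx hx2 hy hy1
  have hz1 : x * y * x⁻¹ * y⁻¹ ∈ W₂ := hW₂ x (h.nor₂ (h.le₁ hx)) y hy
  have hz2 : x * y * x⁻¹ * y⁻¹ ∈ W₁ := by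
    have h1 := inv_mem (hW₁ y (h.nor₁ (h.le₂ hy)) x hx)
    convert h1 using 1
    group
  have hz : x * y * x⁻¹ * y⁻¹ ≠ 1 := by
    intro h4
    exact hxy (by rwa [mul_inv_eq_one, mul_inv_eq_iff_eq_mul] at h4)
  have hcardW : Nat.card ↥(W₁ ⊔ W₂) * Nat.card ↥(W₁ ⊓ W₂) = 16 := by
    rw [card_sup_mul hW12, hW₁4, hW₂4]
  have hinf : 2 ≤ Nat.card ↥(W₁ ⊓ W₂) := by
    by_contra hcon
    have h1 : 0 < Nat.card ↥(W₁ ⊓ W₂) := Nat.card_pos
    have h2 : Nat.card ↥(W₁ ⊓ W₂) = 1 := by omega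
    rw [Subgroup.card_eq_one] at h2
    have h3 : x * y * x⁻¹ * y⁻¹ ∈ W₁ ⊓ W₂ := mem_inf.2 ⟨hz2, hz1⟩
    rw [h2, mem_bot] at h3
    exact hz h3
  -- conjugation by elements of `S` preserves `W₁ ⊔ W₂`
  have cM : ∀ n ∈ (S : Subgroup G), ∀ w ∈ W₁ ⊔ W₂, n * w * n⁻¹ ∈ W₁ ⊔ W₂ := by
    intro n hn w hw
    obtain ⟨a, ha, b, hb, rfl⟩ := exists_mul_of_mem_sup hW12 hw
    have h1 : n * (a * b) * n⁻¹ = (n * a * n⁻¹) * (n * b * n⁻¹) := by group
    rw [h1]
    exact mul_mem ((le_sup_left : W₁ ≤ W₁ ⊔ W₂) (c₁ n hn a ha)) ((le_sup_right : W₂ ≤ W₁ ⊔ W₂) (c₂ n hn b hb))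
  have hle := sylow_le_of_ess hperf S h𝒜 hsyl (W₁ ⊔ W₂) ?_ ?_
  · have h1 : Nat.card (S : Subgroup G) ≤ Nat.card ↥(W₁ ⊔ W₂) := Subgroup.card_le_of_le hle
    rw [h.cardA, hZ] at h1
    nlinarith
  · intro n hn s hs
    obtain ⟨a, ha, b, hb, rfl⟩ := h.exists_mul hs
    obtain ⟨hn1, hn2⟩ := h.normalizer_le S hn
    have h1 := (le_sup_left : W₁ ≤ W₁ ⊔ W₂) (hW₁ n hn1 a ha)
    have h2 := cM a (h.le₁ ha) _ ((le_sup_right : W₂ ≤ W₁ ⊔ W₂) (hW₂ n hn2 b hb))
    have h3 := mul_mem h1 h2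
    convert h3 using 1
    group
  · intro E hE n hn e he
    rcases hess E hE with rfl | rfl
    · exact (le_sup_left : W₁ ≤ W₁ ⊔ W₂) (hW₁ n hn e he)
    · exact (le_sup_right : W₂ ≤ W₁ ⊔ W₂) (hW₂ n hn e he)

/-- **The case `q = 2`.** -/
theorem sylow_dihedral (hperf : Group.IsPerfect G) (S : Sylow 2 G) {𝒜 : Set G} (h𝒜 : IsClosedFam 𝒜)
    {F : Type*} [Field F] (hF : Nat.card F = 2) {E₁ E₂ : Subgroup G} (h : OneEdge F 𝒜 (S : Subgroup G) E₁ E₂)
    (nor₁ : (S : Subgroup G) ≤ normalizer (E₁ : Set G)) (nor₂ : (S : Subgroup G) ≤ normalizer (E₂ : Set G)) :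
    Nonempty ((S : Subgroup G) ≃* DihedralGroup 4) := by
  have hc : Ctx (S : Subgroup G) E₁ E₂ :=
    { sup := h.sup, nor₁ := nor₁, nor₂ := nor₂, sq₁ := h.sq₁, sq₂ := h.sq₂, cent₁ := h.cent₁, cent₂ := h.cent₂
      card₁ := by rw [h.card₁, hF], card₂ := by rw [h.card₂, hF] }
  set C₁ := E₁ ⊓ centralizer (XG 𝒜 E₁ : Set G) with hC₁
  set C₂ := E₂ ⊓ centralizer (XG 𝒜 E₂ : Set G) with hC₂
  have h1 : 2 * Nat.card C₁ = Nat.card ↥(E₁ ⊓ E₂) := by rw [← h.cardC₁, hF]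
  have h2 : 2 * Nat.card C₂ = Nat.card ↥(E₁ ⊓ E₂) := by rw [← h.cardC₂, hF]
  -- `C_i ≤ Z`
  have hX₁ : E₂ ≤ XG 𝒜 E₁ := fun x hx => mem_fam (h.syl.sub x (hc.le₂ hx)) (nor₁ (hc.le₂ hx))
  have hX₂ : E₁ ≤ XG 𝒜 E₂ := fun x hx => mem_fam (h.syl.sub x (hc.le₁ hx)) (nor₂ (hc.le₁ hx))
  have hC₁Z : C₁ ≤ E₁ ⊓ E₂ := by
    intro x hx
    refine mem_inf.2 ⟨(mem_inf.1 hx).1, h.cent₂ (mem_inf.2 ⟨?_, hc.le₁ (mem_inf.1 hx).1⟩)⟩
    rw [mem_centralizer_iff]
    intro y hy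
    exact mem_centralizer_iff.1 (mem_inf.1 hx).2 y (hX₁ hy)
  have hC₂Z : C₂ ≤ E₁ ⊓ E₂ := by
    intro x hx
    refine mem_inf.2 ⟨h.cent₁ (mem_inf.2 ⟨?_, hc.le₂ (mem_inf.1 hx).1⟩), (mem_inf.1 hx).1⟩
    rw [mem_centralizer_iff]
    intro y hy
    exact mem_centralizer_iff.1 (mem_inf.1 hx).2 y (hX₂ hy)
  have h3 : Nat.card C₁ * Nat.card C₂ ≤ Nat.card ↥(E₁ ⊓ E₂) := by
    have hn : C₁ ≤ normalizer (C₂ : Set G) := by
      intro x hx
      apply centralizer_le_normalizer (C₂ : Set G)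
      rw [mem_centralizer_iff]
      intro y hy
      exact comm_of_sq h.sq₁ (mem_inf.1 (hC₂Z hy)).1 (mem_inf.1 (hC₁Z hx)).1
    have h4 := card_sup_mul hn
    have h5 : C₁ ⊓ C₂ = ⊥ := h.disj
    rw [h5, Subgroup.card_bot, mul_one] at h4
    rw [← h4]
    exact Subgroup.card_le_of_le (sup_le hC₁Z hC₂Z)
  have h4 : Nat.card C₁ = Nat.card C₂ := by omega
  have h5 : Nat.card C₁ ≤ 2 := by
    rw [← h1, ← h4] at h3
    have : 0 < Nat.card C₁ := Nat.card_pos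
    exact Nat.le_of_mul_le_mul_right h3 this
  have h6 : 0 < Nat.card C₁ := Nat.card_pos
  have h7 : Nat.card C₁ = 1 ∨ Nat.card C₁ = 2 := by omega
  rcases h7 with h7 | h7
  · exact hc.dihedral (by omega)
  · exfalso
    exact not_four hperf S h𝒜 hc (by omega) h.syl h.ess (card_SL_two hF) h.φ₁ h.φ₂ h.surj₁ h.surj₂ h.ker₁ h.ker₂
      h1 h2

end Main

end Cfsg.Agent.ClassTwoFusion.Dihedral8
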