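import Mathlib
import Cfsg.Agent.TwoFusion.SylowConj

/-!
# Elementwise lemmas used in the analysis of class two Sylow 2-subgroups
-/

set_option autoImplicit false

namespace Cfsg.Agent.ClassTwoFusion.Gen

open Subgroup

variable {G : Type*} [Group G]

/-- an element of a 2-group with an odd power equal to one is trivial -/
theorem eq_one_of_pow_odd {u : G} {P : Subgroup G} (hP : IsPGroup 2 P) (hu : u ∈ P) {k : ℕ}
    (hk : Odd k) (h : u ^ k = 1) : u = 1 := by
  obtain ⟨n, hn⟩ := hP ⟨u, hu⟩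
  have hn' : u ^ 2 ^ n = 1 := by simpa using congrArg Subtype.val hn
  have h1 : orderOf u ∣ 2 ^ n := orderOf_dvd_of_pow_eq_one hn'
  have h2 : orderOf u ∣ k := orderOf_dvd_of_pow_eq_one h
  have h3 : Nat.Coprime (2 ^ n) k := Nat.Coprime.pow_left n (Nat.coprime_two_left.2 hk)
  exact orderOf_eq_one_iff.1 (Nat.eq_one_of_dvd_coprimes h3 h1 h2)

/-- conjugation by powers -/
theorem pow_conj_of_fixed {y e u : G} (h1 : y * e * y⁻¹ = u * e) (h2 : y * u * y⁻¹ = u) (k : ℕ) :
    y ^ k * e * (y ^ k)⁻¹ = u ^ k * e := by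
  induction k with
  | zero => simp
  | succ k ih =>
    have h3 : y * u ^ k * y⁻¹ = u ^ k := by
      rw [← conj_pow, h2]
    calc y ^ (k + 1) * e * (y ^ (k + 1))⁻¹ = y * (y ^ k * e * (y ^ k)⁻¹) * y⁻¹ := by
          rw [pow_succ']; group
      _ = (y * u ^ k * y⁻¹) * (y * e * y⁻¹) := by rw [ih]; group
      _ = u ^ (k + 1) * e := by rw [h3, h1, pow_succ]; group

/-- An element of odd order inducing `e ↦ u e` with `u` in a 2-group and fixed, fixes `e`. -/
theorem eq_of_odd_of_fixed {y e u : G} {P : Subgroup G} (hP : IsPGroup 2 P) (hu : u ∈ P)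
    (hy : Odd (orderOf y)) (h1 : y * e * y⁻¹ = u * e) (h2 : y * u * y⁻¹ = u) : u = 1 := by
  have h3 := pow_conj_of_fixed h1 h2 (orderOf y)
  rw [pow_orderOf_eq_one] at h3
  have h4 : u ^ orderOf y = 1 := by
    have : e = u ^ orderOf y * e := by simpa using h3
    exact (mul_eq_right.1 this.symm)
  exact eq_one_of_pow_odd hP hu hy h4

/-- same, when `u` is only fixed modulo `M` (here `u` and its images commute) -/
theorem odd_omega {M : Subgroup G} (hM : IsPGroup 2 M) (hc : ∀ a ∈ M, ∀ b ∈ M, a * b = b * a)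
    {y : G} (hy : Odd (orderOf y)) (hyM : ∀ a ∈ M, y * a * y⁻¹ ∈ M)
    (hfix : ∀ a ∈ M, a * a = 1 → y * a * y⁻¹ = a) : ∀ a ∈ M, y * a * y⁻¹ = a := by
  have key : ∀ n : ℕ, ∀ a ∈ M, a ^ 2 ^ n = 1 → y * a * y⁻¹ = a := by
    intro n
    induction n with
    | zero => intro a _ h; simp at h; simp [h]
    | succ n ih =>
      intro a ha h
      have h1 : (a * a) ^ 2 ^ n = 1 := by
        rw [← pow_two, ← pow_mul, ← pow_succ']; exact h
      have h2 := ih (a * a) (mul_mem ha ha) h1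
      set u := y * a * y⁻¹ * a⁻¹ with hu
      have huM : u ∈ M := mul_mem (hyM a ha) (inv_mem ha)
      have hua : y * a * y⁻¹ = u * a := by rw [hu]; group
      have h3 : y * (a * a) * y⁻¹ = (u * a) * (u * a) := by
        rw [← hua]; group
      rw [h2] at h3
      have h4 : u * u = 1 := by
        have : (u * a) * (u * a) = (u * u) * (a * a) := by
          calc (u * a) * (u * a) = u * (a * u) * a := by group
            _ = u * (u * a) * a := by rw [hc a ha u huM]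
            _ = (u * u) * (a * a) := by group
        rw [this] at h3
        exact mul_eq_right.1 h3.symm
      have h5 : u = 1 := eq_of_odd_of_fixed hM huM hy hua (hfix u huM h4)
      rw [hua, h5, one_mul]
  intro a ha
  obtain ⟨n, hn⟩ := hM ⟨a, ha⟩
  exact key n a ha (by simpa using congrArg Subtype.val hn)

/-- elements of `K ⊔ P`, `P` normalising `K` -/
theorem exists_mul_of_mem_sup {P K : Subgroup G} (hK : ∀ p ∈ P, ∀ k ∈ K, p * k * p⁻¹ ∈ K) {x : G}
    (hx : x ∈ K ⊔ P) : ∃ p ∈ P, ∃ k ∈ K, x = p * k := by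
  let M : Subgroup G :=
    { carrier := {x | ∃ p ∈ P, ∃ k ∈ K, x = p * k}
      one_mem' := ⟨1, one_mem _, 1, one_mem _, by simp⟩
      mul_mem' := by
        rintro _ _ ⟨p, hp, k, hk, rfl⟩ ⟨p', hp', k', hk', rfl⟩
        refine ⟨p * p', mul_mem hp hp', (p'⁻¹ * k * p') * k', mul_mem ?_ hk', by group⟩
        simpa using hK p'⁻¹ (inv_mem hp') k hk
      inv_mem' := by
        rintro _ ⟨p, hp, k, hk, rfl⟩
        refine ⟨p⁻¹, inv_mem hp, p * k⁻¹ * p⁻¹, hK p hp _ (inv_mem hk), by group⟩ }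
  have hM : K ⊔ P ≤ M := by
    refine sup_le ?_ ?_
    · intro k hk; exact ⟨1, one_mem _, k, hk, by simp⟩
    · intro p hp; exact ⟨p, hp, 1, one_mem _, by simp⟩
  exact hM hx

/-- Frattini argument, elementwise. -/
theorem exists_mul_conj [Finite G] {p : ℕ} [Fact p.Prime] (P : Sylow p G) {K R : Subgroup G}
    (hK : ∀ y ∈ (P : Subgroup G), ∀ k ∈ K, y * k * y⁻¹ ∈ K) (hR : IsPGroup p R) {x : G}
    (hx : ∀ r ∈ R, x * r * x⁻¹ ∈ K ⊔ (P : Subgroup G)) :
    ∃ k ∈ K, ∀ r ∈ R, (k * x) * r * (k * x)⁻¹ ∈ (P : Subgroup G) := by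
  obtain ⟨c, hc, hcR⟩ := Cfsg.Agent.TwoFusion.SylowConj.exists_conj_le_of_sylow_le P
    (K ⊔ (P : Subgroup G)) (R.map (MulAut.conj x).toMonoidHom) le_sup_right (hR.map _) (by
      rintro _ ⟨r, hr, rfl⟩
      exact hx r hr)
  obtain ⟨y, hy, k, hk, rfl⟩ := exists_mul_of_mem_sup hK hc
  refine ⟨k, hk, fun r hr => ?_⟩
  have h1 := hcR (x * r * x⁻¹) ⟨r, hr, rfl⟩
  have h2 := mul_mem (mul_mem (inv_mem hy) h1) hy
  have e : y⁻¹ * (y * k * (x * r * x⁻¹) * (y * k)⁻¹) * y = (k * x) * r * (k * x)⁻¹ := by group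
  rwa [e] at h2

/-- `K ≤ Q ⊔ C` if `Q ≤ K` has index prime to `p` and `C` contains the `p'`-elements of `K`. -/
theorem le_sup_of_pPrime [Finite G] {p : ℕ} [Fact p.Prime] {K Q C : Subgroup G} (hQK : Q ≤ K)
    (hCK : C ≤ K) (hQ : ¬ p ∣ Q.relIndex K)
    (hC : ∀ x ∈ K, Nat.Coprime (orderOf x) p → x ∈ C) : K ≤ Q ⊔ C := by
  have hle : Q ⊔ C ≤ K := sup_le hQK hCK
  have h1 : (Q ⊔ C).relIndex K = 1 := by
    by_contra hne
    obtain ⟨r, hr, hrd⟩ := Nat.exists_prime_and_dvd hne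
    haveI : Fact r.Prime := ⟨hr⟩
    by_cases hrp : r = p
    · subst hrp
      exact hQ (hrd.trans (relIndex_dvd_of_le_left K le_sup_left))
    · -- a Sylow `r`-subgroup of `K` lies in `C`
      obtain ⟨R⟩ : Nonempty (Sylow r K) := inferInstance
      have hR : (R : Subgroup K).map K.subtype ≤ Q ⊔ C := by
        rintro _ ⟨x, hx, rfl⟩
        refine mem_sup_right (hC _ x.2 ?_)
        obtain ⟨n, hn⟩ := (IsPGroup.iff_orderOf.1 R.isPGroup') ⟨x, hx⟩
        have h2 : orderOf ((x : K) : G) = r ^ n := by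
          rw [← hn, orderOf_coe, ← orderOf_coe (⟨x, hx⟩ : (R : Subgroup K))]
        change Nat.Coprime (orderOf ((x : K) : G)) p
        rw [h2]
        exact Nat.Coprime.pow_left n ((Nat.coprime_primes hr Fact.out).2 hrp)
      have h3 : (R : Subgroup K) ≤ (Q ⊔ C).subgroupOf K := by
        intro x hx
        exact hR ⟨x, hx, rfl⟩
      have h4 : ((Q ⊔ C).subgroupOf K).index ∣ (R : Subgroup K).index := index_dvd_of_le h3
      exact R.not_dvd_index (hrd.trans h4)
  exact relIndex_eq_one.1 h1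

/-- index of a Sylow intersection with a subgroup normalised by the Sylow subgroup -/
theorem not_dvd_relIndex [Finite G] {p : ℕ} [Fact p.Prime] (P : Sylow p G) {K : Subgroup G}
    (hK : ∀ y ∈ (P : Subgroup G), ∀ k ∈ K, y * k * y⁻¹ ∈ K) :
    ¬ p ∣ ((P : Subgroup G) ⊓ K).relIndex K := by
  rw [inf_relIndex_right]
  -- a Sylow `p`-subgroup of `K` is conjugate into `P ⊓ K`
  obtain ⟨R⟩ : Nonempty (Sylow p K) := inferInstance
  obtain ⟨k, hk, hkR⟩ := exists_mul_conj P hK (R := (R : Subgroup K).map K.subtype)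
    (R.isPGroup'.map _) (x := 1) (by
      rintro _ ⟨r, hr, rfl⟩
      simpa using mem_sup_left (T := (P : Subgroup G)) r.2)
  have h1 : ((⟨k, hk⟩ : K) • R : Sylow p K) ≤ (P : Subgroup G).subgroupOf K := by
    intro y hy
    have h2 : (⟨k, hk⟩ : K)⁻¹ * y * ⟨k, hk⟩ ∈ (R : Subgroup K) := by
      have := Subgroup.mem_pointwise_smul_iff_inv_smul_mem.1 hy
      simpa using this
    have h3 := hkR _ ⟨_, h2, rfl⟩
    rw [mem_subgroupOf]
    convert h3 using 1
    simp [mul_assoc]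
  intro h2
  exact ((⟨k, hk⟩ : K) • R : Sylow p K).not_dvd_index (h2.trans (index_dvd_of_le h1))

end Cfsg.Agent.ClassTwoFusion.Gen
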