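import Mathlib
import Cfsg.Agent.ClassTwoFusion.Gen
import Cfsg.Agent.ClassTwoFusion.Ess
import Cfsg.Agent.TwoFusion.PResidual

/-!
# The local subgroup of an essential subgroup, Sylow 2-subgroup of class two
-/

set_option autoImplicit false

namespace Cfsg.Agent.ClassTwoFusion.Local

open Subgroup Cfsg.Agent.ClassTwoFusion.Gen Cfsg.Agent.ClassTwoFusion.Ess

variable {G : Type*} [Group G]

/-! ### Conjugates under a subgroup, odd elements -/

/-- `⟨A^N⟩` -/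
def ncl (N A : Subgroup G) : Subgroup G := closure {x | ∃ n ∈ N, ∃ a ∈ A, x = n * a * n⁻¹}

theorem le_ncl (N A : Subgroup G) : A ≤ ncl N A := fun a ha =>
  subset_closure ⟨1, one_mem _, a, ha, by simp⟩

theorem conj_mem_ncl {N A : Subgroup G} {n x : G} (hn : n ∈ N) (hx : x ∈ ncl N A) :
    n * x * n⁻¹ ∈ ncl N A := by
  have h : (ncl N A).map (MulAut.conj n).toMonoidHom ≤ ncl N A := by
    unfold ncl
    rw [MonoidHom.map_closure, closure_le]
    rintro _ ⟨_, ⟨m, hm, a, ha, rfl⟩, rfl⟩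
    refine subset_closure ⟨n * m, mul_mem hn hm, a, ha, ?_⟩
    simp [mul_assoc]
  exact h ⟨x, hx, rfl⟩

theorem ncl_le {N A M : Subgroup G} (h : ∀ n ∈ N, ∀ a ∈ A, n * a * n⁻¹ ∈ M) : ncl N A ≤ M := by
  unfold ncl
  rw [closure_le]
  rintro _ ⟨n, hn, a, ha, rfl⟩
  exact h n hn a ha

theorem ncl_le_of_le {N A M : Subgroup G} (hAM : A ≤ M) (h : ∀ n ∈ N, ∀ a ∈ M, n * a * n⁻¹ ∈ M) :
    ncl N A ≤ M := ncl_le fun n hn a ha => h n hn a (hAM ha)

/-- the subgroup generated by the elements of odd order -/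
def oddGen (X : Subgroup G) : Subgroup G := closure {x | x ∈ X ∧ Odd (orderOf x)}

theorem oddGen_le (X : Subgroup G) : oddGen X ≤ X := by
  unfold oddGen
  rw [closure_le]
  exact fun x hx => hx.1

theorem mem_oddGen {X : Subgroup G} {x : G} (hx : x ∈ X) (h : Odd (orderOf x)) : x ∈ oddGen X :=
  subset_closure ⟨hx, h⟩

theorem conj_mem_oddGen {X : Subgroup G} {g x : G} (hg : ∀ y ∈ X, g * y * g⁻¹ ∈ X)
    (hx : x ∈ oddGen X) : g * x * g⁻¹ ∈ oddGen X := by
  have h : (oddGen X).map (MulAut.conj g).toMonoidHom ≤ oddGen X := by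
    unfold oddGen
    rw [MonoidHom.map_closure, closure_le]
    rintro _ ⟨y, ⟨hy, hy'⟩, rfl⟩
    refine subset_closure ⟨hg y hy, ?_⟩
    have : orderOf ((MulAut.conj g).toMonoidHom y) = orderOf y :=
      orderOf_injective _ (MulAut.conj g).injective y
    rw [this]; exact hy'
  exact h ⟨x, hx, rfl⟩

/-- elements of `X` normalised by `N` acting trivially on `E / M` -/
def actTriv (N E M : Subgroup G) (hE : ∀ n ∈ N, ∀ e ∈ E, n * e * n⁻¹ ∈ E)
    (hM : ∀ n ∈ N, ∀ m ∈ M, n * m * n⁻¹ ∈ M) : Subgroup G where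
  carrier := {x | x ∈ N ∧ ∀ e ∈ E, x * e * x⁻¹ * e⁻¹ ∈ M}
  one_mem' := ⟨one_mem _, fun e _ => by simp⟩
  mul_mem' := by
    rintro x y ⟨hx, hx'⟩ ⟨hy, hy'⟩
    refine ⟨mul_mem hx hy, fun e he => ?_⟩
    have h1 := mul_mem (hx' _ (hE y hy e he)) (hy' e he)
    have e1 : x * (y * e * y⁻¹) * x⁻¹ * (y * e * y⁻¹)⁻¹ * (y * e * y⁻¹ * e⁻¹) =
      (x * y) * e * (x * y)⁻¹ * e⁻¹ := by group
    rwa [e1] at h1
  inv_mem' := by
    rintro x ⟨hx, hx'⟩
    refine ⟨inv_mem hx, fun e he => ?_⟩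
    have he' : x⁻¹ * e * x ∈ E := by simpa using hE x⁻¹ (inv_mem hx) e he
    have h1 := inv_mem (hx' _ he')
    have e1 : (x * (x⁻¹ * e * x) * x⁻¹ * (x⁻¹ * e * x)⁻¹)⁻¹ = x⁻¹ * e * x⁻¹⁻¹ * e⁻¹ := by group
    rwa [e1] at h1

theorem conj_mem_actTriv {N E M : Subgroup G} (hE : ∀ n ∈ N, ∀ e ∈ E, n * e * n⁻¹ ∈ E)
    (hM : ∀ n ∈ N, ∀ m ∈ M, n * m * n⁻¹ ∈ M) {n x : G} (hn : n ∈ N) (hx : x ∈ actTriv N E M hE hM) :
    n * x * n⁻¹ ∈ actTriv N E M hE hM := by
  refine ⟨mul_mem (mul_mem hn hx.1) (inv_mem hn), fun e he => ?_⟩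
  have he' : n⁻¹ * e * n ∈ E := by simpa using hE n⁻¹ (inv_mem hn) e he
  have h1 := hM n hn _ (hx.2 _ he')
  have e1 : n * (x * (n⁻¹ * e * n) * x⁻¹ * (n⁻¹ * e * n)⁻¹) * n⁻¹ =
    (n * x * n⁻¹) * e * (n * x * n⁻¹)⁻¹ * e⁻¹ := by group
  rwa [e1] at h1

/-! ### Class two Sylow subgroup -/

/-- `P` has nilpotency class at most two -/
def Cl2 (P : Subgroup G) : Prop :=
  ∀ x ∈ P, ∀ y ∈ P, ∀ z ∈ P, (x * y * x⁻¹ * y⁻¹) * z = z * (x * y * x⁻¹ * y⁻¹)

/-- centre of `P` -/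
def Zc (P : Subgroup G) : Subgroup G := centralizer (P : Set G) ⊓ P

/-- `Ω₁(Z(P))` -/
def Om (P : Subgroup G) : Subgroup G where
  carrier := {z | z ∈ Zc P ∧ z * z = 1}
  one_mem' := ⟨one_mem _, by simp⟩
  mul_mem' := by
    rintro a b ⟨ha, ha'⟩ ⟨hb, hb'⟩
    refine ⟨mul_mem ha hb, ?_⟩
    have h1 : a * b = b * a := (mem_centralizer_iff.1 ha.1 b hb.2).symm
    calc a * b * (a * b) = a * (b * a) * b := by group
      _ = (a * a) * (b * b) := by rw [← h1]; group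
      _ = 1 := by rw [ha', hb', mul_one]
  inv_mem' := by
    rintro a ⟨ha, ha'⟩
    refine ⟨inv_mem ha, ?_⟩
    have : a⁻¹ = a := inv_eq_of_mul_eq_one_right ha'
    rw [this]; exact ha'

theorem mem_Zc {P : Subgroup G} {z : G} : z ∈ Zc P ↔ z ∈ P ∧ ∀ x ∈ P, x * z = z * x := by
  unfold Zc
  rw [mem_inf, mem_centralizer_iff, and_comm]
  rfl

theorem mem_Om {P : Subgroup G} {z : G} :
    z ∈ Om P ↔ z ∈ P ∧ (∀ x ∈ P, x * z = z * x) ∧ z * z = 1 := by
  change (z ∈ Zc P ∧ z * z = 1) ↔ _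
  rw [mem_Zc, and_assoc]

theorem Om_le_Zc (P : Subgroup G) : Om P ≤ Zc P := fun _ h => h.1

theorem Zc_le (P : Subgroup G) : Zc P ≤ P := inf_le_right

/-- `⟨Z(P)^N⟩`, `N = N_G(E)` -/
def VF (P E : Subgroup G) : Subgroup G := ncl (normalizer (E : Set G)) (Zc P)

/-- `Ω₁` of it -/
def VV (P E : Subgroup G) : Subgroup G := closure {v | v ∈ VF P E ∧ v * v = 1}

/-- `X = ⟨P^N⟩` -/
def XX (P E : Subgroup G) : Subgroup G := ncl (normalizer (E : Set G)) P

/-- `B = O²(X)` -/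
def BB (P E : Subgroup G) : Subgroup G := oddGen (XX P E)

structure Setup [Finite G] (P : Sylow 2 G) (E : Subgroup G) : Prop where
  cl : Cl2 (P : Subgroup G)
  ess : IsEss 2 (P : Subgroup G) E

namespace Setup

variable [Finite G] {P : Sylow 2 G} {E : Subgroup G} (h : Setup P E)
include h

omit h in
theorem comm_mem_Zc (hcl : Cl2 (P : Subgroup G)) {x y : G} (hx : x ∈ (P : Subgroup G))
    (hy : y ∈ (P : Subgroup G)) : x * y * x⁻¹ * y⁻¹ ∈ Zc (P : Subgroup G) :=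
  mem_Zc.2 ⟨mul_mem (mul_mem (mul_mem hx hy) (inv_mem hx)) (inv_mem hy),
    fun z hz => (hcl x hx y hy z hz).symm⟩

theorem Zc_le_E : Zc (P : Subgroup G) ≤ E := by
  intro z hz
  refine h.ess.centric ⟨centralizer_le (by exact_mod_cast h.ess.lt.le) hz.1, hz.2⟩

theorem E_le : E ≤ (P : Subgroup G) := h.ess.lt.le

theorem isPGroup_E : IsPGroup 2 E := P.isPGroup'.to_le h.E_le

theorem P_le_N : (P : Subgroup G) ≤ normalizer (E : Set G) := by
  have key : ∀ x ∈ (P : Subgroup G), ∀ e ∈ E, x * e * x⁻¹ ∈ E := by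
    intro x hx e he
    have h1 := mul_mem (h.Zc_le_E (comm_mem_Zc h.cl hx (h.E_le he))) he
    have e1 : x * e * x⁻¹ * e⁻¹ * e = x * e * x⁻¹ := by group
    rwa [e1] at h1
  intro x hx
  rw [mem_normalizer_iff]
  intro e
  refine ⟨key x hx e, fun he => ?_⟩
  have := key x⁻¹ (inv_mem hx) _ he
  have e1 : x⁻¹ * (x * e * x⁻¹) * x⁻¹⁻¹ = e := by group
  rwa [e1] at this

theorem E_conj {n e : G} (hn : n ∈ normalizer (E : Set G)) (he : e ∈ E) : n * e * n⁻¹ ∈ E :=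
  (mem_normalizer_iff.1 hn e).1 he

theorem VF_le_E : VF (P : Subgroup G) E ≤ E := ncl_le fun _ hn _ ha => h.E_conj hn (h.Zc_le_E ha)

theorem VF_comm_E : ∀ v ∈ VF (P : Subgroup G) E, ∀ e ∈ E, v * e = e * v := by
  have h1 : VF (P : Subgroup G) E ≤ centralizer (E : Set G) := by
    refine ncl_le fun n hn a ha => ?_
    rw [mem_centralizer_iff]
    intro e he
    have he' : n⁻¹ * e * n ∈ E := by simpa using h.E_conj (inv_mem hn) he
    have h2 := (mem_Zc.1 ha).2 _ (h.E_le he')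
    calc e * (n * a * n⁻¹) = n * ((n⁻¹ * e * n) * a) * n⁻¹ := by group
      _ = n * a * n⁻¹ * e := by rw [h2]; group
  intro v hv e he
  exact (mem_centralizer_iff.1 (h1 hv) e he).symm

theorem VF_comm : ∀ v ∈ VF (P : Subgroup G) E, ∀ w ∈ VF (P : Subgroup G) E, v * w = w * v :=
  fun v hv w hw => h.VF_comm_E v hv w (h.VF_le_E hw)

theorem mem_VV {v : G} : v ∈ VV (P : Subgroup G) E ↔ v ∈ VF (P : Subgroup G) E ∧ v * v = 1 := by
  constructor
  · intro hv
    let M : Subgroup G :=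
      { carrier := {v | v ∈ VF (P : Subgroup G) E ∧ v * v = 1}
        one_mem' := ⟨one_mem _, by simp⟩
        mul_mem' := by
          rintro a b ⟨ha, ha'⟩ ⟨hb, hb'⟩
          refine ⟨mul_mem ha hb, ?_⟩
          calc a * b * (a * b) = a * (b * a) * b := by group
            _ = (a * a) * (b * b) := by rw [h.VF_comm b hb a ha]; group
            _ = 1 := by rw [ha', hb', mul_one]
        inv_mem' := by
          rintro a ⟨ha, ha'⟩
          refine ⟨inv_mem ha, ?_⟩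
          have : a⁻¹ = a := inv_eq_of_mul_eq_one_right ha'
          rw [this]; exact ha' }
    have h1 : VV (P : Subgroup G) E ≤ M := by
      unfold VV; rw [closure_le]; exact fun v hv => hv
    exact h1 hv
  · intro hv; exact subset_closure hv

theorem VV_le_VF : VV (P : Subgroup G) E ≤ VF (P : Subgroup G) E := fun _ hv => (h.mem_VV.1 hv).1

theorem VV_le_E : VV (P : Subgroup G) E ≤ E := h.VV_le_VF.trans h.VF_le_E

theorem VV_sq {v : G} (hv : v ∈ VV (P : Subgroup G) E) : v * v = 1 := (h.mem_VV.1 hv).2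

theorem VV_comm_E {v e : G} (hv : v ∈ VV (P : Subgroup G) E) (he : e ∈ E) : v * e = e * v :=
  h.VF_comm_E v (h.VV_le_VF hv) e he

omit h [Finite G] in
theorem VF_conj {P E : Subgroup G} {n v : G} (hn : n ∈ normalizer (E : Set G)) (hv : v ∈ VF P E) :
    n * v * n⁻¹ ∈ VF P E := conj_mem_ncl hn hv

theorem VV_conj {n v : G} (hn : n ∈ normalizer (E : Set G)) (hv : v ∈ VV (P : Subgroup G) E) :
    n * v * n⁻¹ ∈ VV (P : Subgroup G) E := by
  rw [h.mem_VV] at hv ⊢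
  refine ⟨VF_conj hn hv.1, ?_⟩
  have e1 : n * v * n⁻¹ * (n * v * n⁻¹) = n * (v * v) * n⁻¹ := by group
  rw [e1, hv.2]; simp

theorem Zc_le_VF : Zc (P : Subgroup G) ≤ VF (P : Subgroup G) E := le_ncl _ _

theorem Om_le_VV : Om (P : Subgroup G) ≤ VV (P : Subgroup G) E := fun _ hv =>
  h.mem_VV.2 ⟨h.Zc_le_VF hv.1, hv.2⟩

theorem P_le_XX : (P : Subgroup G) ≤ XX (P : Subgroup G) E := le_ncl _ _

theorem XX_le_N : XX (P : Subgroup G) E ≤ normalizer (E : Set G) :=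
  ncl_le fun _ hn _ ha => mul_mem (mul_mem hn (h.P_le_N ha)) (inv_mem hn)

omit h [Finite G] in
theorem XX_conj {P E : Subgroup G} {n x : G} (hn : n ∈ normalizer (E : Set G)) (hx : x ∈ XX P E) :
    n * x * n⁻¹ ∈ XX P E := conj_mem_ncl hn hx

/-- `[E, X] ≤ VF` -/
theorem comm_XX_mem {x e : G} (hx : x ∈ XX (P : Subgroup G) E) (he : e ∈ E) :
    x * e * x⁻¹ * e⁻¹ ∈ VF (P : Subgroup G) E := by
  have h1 : XX (P : Subgroup G) E ≤ actTriv (normalizer (E : Set G)) E (VF (P : Subgroup G) E)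
      (fun n hn e he => h.E_conj hn he) (fun n hn v hv => VF_conj hn hv) :=
    ncl_le_of_le (fun y hy => ⟨h.P_le_N hy, fun e he =>
      h.Zc_le_VF (comm_mem_Zc h.cl hy (h.E_le he))⟩)
      (fun n hn a ha => conj_mem_actTriv _ _ hn ha)
  exact (h1 hx).2 e he

/-- odd elements trivial on `VV` are trivial on `E` -/
theorem odd_centralizes {y : G} (hy : y ∈ XX (P : Subgroup G) E) (hodd : Odd (orderOf y))
    (hyV : ∀ v ∈ VV (P : Subgroup G) E, y * v * y⁻¹ = v) : ∀ e ∈ E, y * e * y⁻¹ = e := by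
  have hyN := h.XX_le_N hy
  have h1 := odd_omega (M := VF (P : Subgroup G) E) (h.isPGroup_E.to_le h.VF_le_E) h.VF_comm hodd
    (fun a ha => VF_conj hyN ha) (fun a ha ha' => hyV a (h.mem_VV.2 ⟨ha, ha'⟩))
  intro e he
  have h2 := h.comm_XX_mem hy he
  have e1 : y * e * y⁻¹ = (y * e * y⁻¹ * e⁻¹) * e := by group
  have h3 := eq_of_odd_of_fixed h.isPGroup_E (h.VF_le_E h2) hodd e1 (h1 _ h2)
  rw [e1, h3, one_mul]

/-- `P` acts quadratically on `VV`. -/
theorem comm_VV_mem_Om {x v : G} (hx : x ∈ (P : Subgroup G)) (hv : v ∈ VV (P : Subgroup G) E) :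
    x * v * x⁻¹ * v⁻¹ ∈ Om (P : Subgroup G) := by
  have h1 := comm_mem_Zc h.cl hx (h.E_le (h.VV_le_E hv))
  have h2 : x * v * x⁻¹ * v⁻¹ ∈ VV (P : Subgroup G) E :=
    mul_mem (h.VV_conj (h.P_le_N hx) hv) (inv_mem hv)
  exact ⟨h1, h.VV_sq h2⟩

theorem sq_comm_VV {x v : G} (hx : x ∈ (P : Subgroup G)) (hv : v ∈ VV (P : Subgroup G) E) :
    (x * x) * v * (x * x)⁻¹ = v := by
  set c := x * v * x⁻¹ * v⁻¹ with hc
  have hcO := h.comm_VV_mem_Om hx hv
  have h1 : x * v * x⁻¹ = c * v := by rw [hc]; group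
  have h2 : x * c = c * x := (mem_Om.1 hcO).2.1 x hx
  have h3 : c * c = 1 := (mem_Om.1 hcO).2.2
  calc (x * x) * v * (x * x)⁻¹ = x * (x * v * x⁻¹) * x⁻¹ := by group
    _ = (x * c) * v * x⁻¹ := by rw [h1]; group
    _ = c * (x * v * x⁻¹) := by rw [h2]; group
    _ = (c * c) * v := by rw [h1]; group
    _ = v := by rw [h3, one_mul]

theorem conj_mem_cent {n x : G} (hn : n ∈ normalizer (E : Set G))
    (hx : x ∈ centralizer (VV (P : Subgroup G) E : Set G)) :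
    n * x * n⁻¹ ∈ centralizer (VV (P : Subgroup G) E : Set G) := by
  rw [mem_centralizer_iff] at hx ⊢
  intro v hv
  have hv' : n⁻¹ * v * n ∈ VV (P : Subgroup G) E := by
    simpa using h.VV_conj (inv_mem hn) hv
  have := hx _ hv'
  calc v * (n * x * n⁻¹) = n * ((n⁻¹ * v * n) * x) * n⁻¹ := by group
    _ = n * x * n⁻¹ * v := by rw [this]; group

/-! ### `C_P(V) = E` -/

/-- `K = C_X(V)` -/
theorem K_le {Q : Subgroup G} (hQ : Q = (P : Subgroup G) ⊓ centralizer (VV (P : Subgroup G) E : Set G)) :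
    XX (P : Subgroup G) E ⊓ centralizer (VV (P : Subgroup G) E : Set G) ≤
      Q ⊔ (XX (P : Subgroup G) E ⊓ centralizer (E : Set G)) := by
  have hQK : Q ≤ XX (P : Subgroup G) E ⊓ centralizer (VV (P : Subgroup G) E : Set G) := by
    rw [hQ]; exact inf_le_inf_right _ h.P_le_XX
  have hCK : XX (P : Subgroup G) E ⊓ centralizer (E : Set G) ≤
      XX (P : Subgroup G) E ⊓ centralizer (VV (P : Subgroup G) E : Set G) :=
    inf_le_inf_left _ (centralizer_le (by exact_mod_cast h.VV_le_E))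
  refine le_sup_of_pPrime (p := 2) hQK hCK ?_ ?_
  · have h1 := not_dvd_relIndex P (K := XX (P : Subgroup G) E ⊓
      centralizer (VV (P : Subgroup G) E : Set G)) (by
        rintro y hy k ⟨hk1, hk2⟩
        exact ⟨XX_conj (h.P_le_N hy) hk1, h.conj_mem_cent (h.P_le_N hy) hk2⟩)
    have e1 : (P : Subgroup G) ⊓ (XX (P : Subgroup G) E ⊓
        centralizer (VV (P : Subgroup G) E : Set G)) = Q := by
      rw [hQ, ← inf_assoc, inf_eq_left.2 h.P_le_XX]
    rwa [e1] at h1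
  · rintro x ⟨hx1, hx2⟩ hx3
    refine ⟨hx1, ?_⟩
    change x ∈ centralizer (E : Set G)
    rw [mem_centralizer_iff]
    intro e he
    have h1 := h.odd_centralizes hx1 (Nat.coprime_two_right.1 hx3) (fun v hv => by
      rw [← mem_centralizer_iff.1 hx2 v hv]; group) e he
    calc e * x = (x * e * x⁻¹) * x := by rw [h1]
      _ = x * e := by group

/-- **Claim A**: `C_P(V) = E`. -/
theorem inf_centralizer_eq :
    (P : Subgroup G) ⊓ centralizer (VV (P : Subgroup G) E : Set G) = E := by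
  set Q : Subgroup G := (P : Subgroup G) ⊓ centralizer (VV (P : Subgroup G) E : Set G) with hQ
  have hEQ : E ≤ Q := by
    refine le_inf h.E_le ?_
    intro e he
    rw [mem_centralizer_iff]
    intro v hv
    exact h.VV_comm_E hv he
  by_contra hne
  have hlt : E < Q := lt_of_le_of_ne hEQ (Ne.symm hne)
  have hQP : Q ≤ (P : Subgroup G) := inf_le_left
  apply h.ess.ess
  set K : Subgroup G := XX (P : Subgroup G) E ⊓ centralizer (VV (P : Subgroup G) E : Set G) with hK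
  have hPstar : (P : Subgroup G) ≤ starSub (P : Subgroup G) E :=
    le_trans (le_inf h.P_le_N le_normalizer) (inf_normalizer_le_starSub h.ess.lt le_rfl)
  have hKstar : K ≤ starSub (P : Subgroup G) E :=
    (h.K_le hQ).trans (sup_le (hQP.trans hPstar)
      (inf_le_right.trans (centralizer_le_starSub _ _)))
  intro n hn
  obtain ⟨k, hk, hkR⟩ := exists_mul_conj P (K := K) (R := Q) (x := n)
    (fun y hy k hk => ⟨XX_conj (h.P_le_N hy) hk.1, h.conj_mem_cent (h.P_le_N hy) hk.2⟩)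
    (P.isPGroup'.to_le hQP) (fun r hr => mem_sup_left ⟨XX_conj hn (h.P_le_XX hr.1),
      h.conj_mem_cent hn hr.2⟩)
  have hkN : k ∈ normalizer (E : Set G) := h.XX_le_N hk.1
  have h1 : ∀ r ∈ Q, (k * n) * r * (k * n)⁻¹ ∈ Q := fun r hr =>
    ⟨hkR r hr, h.conj_mem_cent (mul_mem hkN hn) hr.2⟩
  have h2 : k * n ∈ normalizer (Q : Set G) := by
    apply Cfsg.Agent.Lib.GoldschmidtFusion.mem_normalizer_iff_map_conj.2
    refine Cfsg.Agent.Lib.GoldschmidtFusion.map_conj_le_of_le_normalizer ?_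
    rintro _ ⟨r, hr, rfl⟩
    exact h1 r hr
  have h3 := inf_normalizer_le_starSub hlt hQP ⟨mul_mem hkN hn, h2⟩
  have h4 : n = k⁻¹ * (k * n) := by group
  rw [h4]
  exact mul_mem (inv_mem (hKstar hk)) h3

end Setup

end Cfsg.Agent.ClassTwoFusion.Local
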