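import Mathlib
import Cfsg.Agent.ClassTwoFusion.Quad
import Cfsg.Agent.TwoFusion.SylowConj

/-!
# Quadratic offenders are Sylow 2-subgroups

`QData` + an offender imply `NData`: for every Sylow 2-subgroup `T` of `L`:
`|V : C_V(T)| = |T|`, `C_V(t) = C_V(T)` for `1 ≠ t ∈ T`.
-/

set_option autoImplicit false

namespace Cfsg.Agent.ClassTwoFusion.Quad

open Subgroup Cfsg.Agent.TwoFusion.StronglyEmbeddedBasic
open scoped Pointwise

variable {L V : Type*} [Group L] [Group V] [MulDistribMulAction L V]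

theorem cv_sup (A B : Subgroup L) :
    cv V ((A ⊔ B : Subgroup L) : Set L) = cv V (A : Set L) ⊓ cv V (B : Set L) := by
  apply le_antisymm
  · exact le_inf (cv_anti (by exact_mod_cast (le_sup_left : A ≤ A ⊔ B)))
      (cv_anti (by exact_mod_cast (le_sup_right : B ≤ A ⊔ B)))
  · rintro v ⟨h1, h2⟩
    have h3 : A ⊔ B ≤ MulAction.stabilizer L v := sup_le (fun a ha => h1 a ha) (fun b hb => h2 b hb)
    exact fun x hx => h3 hx

theorem mem_smul_sylow {T : Sylow 2 L} {g x : L} :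
    x ∈ ((g • T : Sylow 2 L) : Subgroup L) ↔ g⁻¹ * x * g ∈ (T : Subgroup L) := by
  change x ∈ (MulAut.conj g • (T : Subgroup L)) ↔ _
  rw [mem_pointwise_smul_iff_inv_smul_mem]
  simp

theorem mem_cv_smul_sylow {T : Sylow 2 L} {g : L} {v : V} :
    v ∈ cv V (((g • T : Sylow 2 L) : Subgroup L) : Set L) ↔ g⁻¹ • v ∈ cv V ((T : Subgroup L) : Set L) := by
  constructor
  · intro hv a ha
    have h1 : g * a * g⁻¹ ∈ ((g • T : Sylow 2 L) : Subgroup L) := by
      have e : g⁻¹ * (g * a * g⁻¹) * g = a := by group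
      rw [mem_smul_sylow, e]
      exact ha
    have := hv _ h1
    rw [mul_smul, mul_smul] at this
    rw [eq_inv_smul_iff]
    exact this
  · intro hv x hx
    have h1 := hv _ (mem_smul_sylow.1 hx)
    rw [mul_smul, mul_smul, smul_smul g g⁻¹, mul_inv_cancel, one_smul] at h1
    have := congrArg (fun w => g • w) h1
    simpa using this

theorem coe_smul_sylow (T : Sylow 2 L) (g : L) :
    ((g • T : Sylow 2 L) : Subgroup L) = (T : Subgroup L).map (MulAut.conj g).toMonoidHom := by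
  ext x
  rw [mem_smul_sylow, mem_map]
  constructor
  · intro hx
    exact ⟨_, hx, by simp [mul_assoc]⟩
  · rintro ⟨y, hy, rfl⟩
    simpa [mul_assoc] using hy

/-- Conclusion of Lemma N, from which everything else is derived. -/
structure NData (L V : Type*) [Group L] [Group V] [MulDistribMulAction L V] : Prop where
  comm : ∀ v w : V, v * w = w * v
  sq : ∀ v : V, v * v = 1
  faith : ∀ x : L, (∀ v : V, x • v = v) → x = 1
  quad : ∀ Q : Subgroup L, IsPGroup 2 Q → ∀ x ∈ Q, ∀ y ∈ Q, ∀ v : V, y • d x v = d x v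
  index_cv : ∀ T : Sylow 2 L, (cv V ((T : Subgroup L) : Set L)).index = Nat.card T
  cv_eq : ∀ T : Sylow 2 L, ∀ t ∈ T, t ≠ 1 → cv V {t} = cv V ((T : Subgroup L) : Set L)
  exists_ne : ∃ T T' : Sylow 2 L, T ≠ T'

namespace QData

variable {α : Type*} {f : L → α} (h : QData L V f) [Finite L] [Finite V]
include h

/-- All involutions are conjugate. -/
theorem conj_all (hf : ∃ t s : L, orderOf t = 2 ∧ orderOf s = 2 ∧ f t ≠ f s) {s t : L}
    (hs : orderOf s = 2) (ht : orderOf t = 2) : ∃ g : L, g * s * g⁻¹ = t := by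
  obtain ⟨t₀, s₀, ht₀, hs₀, hne⟩ := hf
  have key : ∀ a b : L, orderOf a = 2 → orderOf b = 2 → f a ≠ f b → ∃ g : L, g * a * g⁻¹ = b := by
    intro a b ha hb hab
    obtain ⟨g, -, -, hg, -⟩ := exists_swap a b ha hb (h.odd_of_ne ha hb hab)
    exact ⟨g, hg⟩
  by_cases h1 : f s = f t
  · obtain ⟨r, hr, hrs⟩ : ∃ r, orderOf r = 2 ∧ f s ≠ f r := by
      by_cases h2 : f s = f t₀
      · exact ⟨s₀, hs₀, by rw [h2]; exact hne⟩
      · exact ⟨t₀, ht₀, h2⟩
    obtain ⟨g, hg⟩ := key s r hs hr hrs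
    obtain ⟨k, hk⟩ := key r t hr ht (by rw [← h1]; exact hrs.symm)
    exact ⟨k * g, by rw [← hk, ← hg]; group⟩
  · exact key s t hs ht h1

theorem offender_top (hf : ∃ t s : L, orderOf t = 2 ∧ orderOf s = 2 ∧ f t ≠ f s)
    {A : Subgroup L} (hA : IsPGroup 2 A) (hA1 : A ≠ ⊥) (hoff : (cv V (A : Set L)).index ≤ Nat.card A) :
    (cv V (A : Set L)).index = Nat.card A ∧
      ∀ a ∈ A, a ≠ 1 → cv V ({a} : Set L) = cv V (A : Set L) := by
  obtain ⟨t, s, h1, h2, h3⟩ := hf
  exact h.offender _ ⊤ le_rfl ⟨t, mem_top _, s, mem_top _, h1, h2, h3⟩ A le_top hA hA1 hoff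

/-- A quadratic offender is a Sylow 2-subgroup. -/
theorem eq_sylow (hf : ∃ t s : L, orderOf t = 2 ∧ orderOf s = 2 ∧ f t ≠ f s)
    {A : Subgroup L} (hA : IsPGroup 2 A) (hA1 : A ≠ ⊥) (hoff : (cv V (A : Set L)).index ≤ Nat.card A)
    (T : Sylow 2 L) (hAT : A ≤ T) : A = T := by
  apply le_antisymm hAT
  intro t ht
  by_contra htA
  obtain ⟨a₀, ha₀A, ha₀⟩ := (bot_or_exists_ne_one A).resolve_left hA1
  have ha₀2 := h.orderOf_eq_two hA ha₀A ha₀
  have ht1 : t ≠ 1 := fun e => htA (by rw [e]; exact one_mem A)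
  have ht2 := h.orderOf_eq_two T.isPGroup' ht ht1
  obtain ⟨g, hg⟩ := h.conj_all hf ha₀2 ht2
  set A' : Subgroup L := A.map (MulAut.conj g).toMonoidHom with hA'
  have hA'p : IsPGroup 2 A' := hA.map _
  have htA' : t ∈ A' := ⟨a₀, ha₀A, hg⟩
  obtain ⟨c, hc, hcA⟩ := Cfsg.Agent.TwoFusion.SylowConj.exists_conj_le_of_sylow_le T
    (centralizer ({t} : Set L)) A' (fun x hx => by
      rw [mem_centralizer_singleton_iff]
      exact h.mul_comm' T.isPGroup' hx ht) hA'p (fun x hx => by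
      rw [mem_centralizer_singleton_iff]
      exact h.mul_comm' hA'p hx htA')
  set A₂ : Subgroup L := A.map (MulAut.conj (c * g)).toMonoidHom with hA₂
  have hA₂p : IsPGroup 2 A₂ := hA.map _
  have hA₂T : A₂ ≤ T := by
    rintro _ ⟨a, ha, rfl⟩
    have := hcA (g * a * g⁻¹) ⟨a, ha, rfl⟩
    have e : (MulAut.conj (c * g)).toMonoidHom a = c * (g * a * g⁻¹) * c⁻¹ := by
      simp [mul_assoc]
    rw [e]; exact this
  have htA₂ : t ∈ A₂ := by
    refine ⟨a₀, ha₀A, ?_⟩
    have e : (MulAut.conj (c * g)).toMonoidHom a₀ = c * (g * a₀ * g⁻¹) * c⁻¹ := by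
      simp [mul_assoc]
    rw [e, hg]
    rw [mem_centralizer_singleton_iff] at hc
    rw [hc]; group
  have hcard₂ : Nat.card A₂ = Nat.card A :=
    Nat.card_congr (A.equivMapOfInjective _ (MulAut.conj (c * g)).injective).toEquiv.symm
  have hind₂ : (cv V (A₂ : Set L)).index = (cv V (A : Set L)).index := index_cv_map_conj A (c * g)
  have hA₂1 : A₂ ≠ ⊥ := fun e => ht1 (by rw [e, mem_bot] at htA₂; exact htA₂)
  obtain ⟨o1, o2⟩ := h.offender_top hf hA hA1 hoff
  obtain ⟨o1', o2'⟩ := h.offender_top hf hA₂p hA₂1 (by rw [hind₂, hcard₂]; exact hoff)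
  -- the join
  set J : Subgroup L := A ⊔ A₂ with hJ
  have hJT : J ≤ T := sup_le hAT hA₂T
  have hJp : IsPGroup 2 J := T.isPGroup'.to_le hJT
  have hJ1 : J ≠ ⊥ := fun e => hA1 (le_bot_iff.1 (e ▸ le_sup_left))
  have hAJ : A ≤ J := le_sup_left
  have hcardJ : A.relIndex J * Nat.card A = Nat.card J := by
    have := relIndex_mul_relIndex ⊥ A J bot_le hAJ
    rw [relIndex_bot_left, relIndex_bot_left] at this
    rw [mul_comm]; exact this
  have hltJ : 1 < A.relIndex J := by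
    rcases Nat.lt_or_ge 1 (A.relIndex J) with h1 | h1
    · exact h1
    · exfalso
      have h2 : A.relIndex J ≠ 0 := index_ne_zero_of_finite
      have h3 : A.relIndex J = 1 := by omega
      exact htA (relIndex_eq_one.1 h3 (le_sup_right (a := A) htA₂))
  have hposA : 0 < Nat.card A := Nat.card_pos
  by_cases hinf : A ⊓ A₂ = ⊥
  · have h1 : Nat.card A ≤ A.relIndex J := by
      have h2 : A.relIndex A₂ = Nat.card A₂ := by
        rw [← inf_relIndex_right, hinf, relIndex_bot_left]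
      rw [← hcard₂, ← h2]
      exact relIndex_le_of_le_right le_sup_right index_ne_zero_of_finite
    have h2 : (cv V (J : Set L)).index ≤ Nat.card J := by
      rw [hJ, cv_sup, ← hJ]
      refine index_inf_le.trans ?_
      rw [o1, hind₂, o1, ← hcardJ]
      exact Nat.mul_le_mul_right _ h1
    obtain ⟨p1, p2⟩ := h.offender_top hf hJp hJ1 h2
    have h3 := p2 a₀ (hAJ ha₀A) ha₀
    rw [o2 a₀ ha₀A ha₀] at h3
    rw [← h3, o1, ← hcardJ] at p1
    have : 1 * Nat.card A < A.relIndex J * Nat.card A := (Nat.mul_lt_mul_right hposA).2 hltJ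
    omega
  · obtain ⟨a, ha, ha1⟩ := (bot_or_exists_ne_one (A ⊓ A₂)).resolve_left hinf
    have h1 : cv V (A : Set L) = cv V (A₂ : Set L) := by rw [← o2 a ha.1 ha1, ← o2' a ha.2 ha1]
    have h2 : cv V (J : Set L) = cv V (A : Set L) := by
      rw [hJ, cv_sup, ← h1, inf_idem]
    have h3 : (cv V (J : Set L)).index ≤ Nat.card J := by
      rw [h2]
      exact hoff.trans (Nat.le_of_dvd Nat.card_pos (card_dvd_of_le hAJ))
    obtain ⟨p1, -⟩ := h.offender_top hf hJp hJ1 h3
    rw [h2, o1, ← hcardJ] at p1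
    have : 1 * Nat.card A < A.relIndex J * Nat.card A := (Nat.mul_lt_mul_right hposA).2 hltJ
    omega

omit [Finite V] h in
theorem exists_sylow_mem {t : L} (ht : orderOf t = 2) : ∃ T : Sylow 2 L, t ∈ (T : Subgroup L) := by
  have h1 : IsPGroup 2 (zpowers t) := by
    refine IsPGroup.of_card (n := 1) ?_
    rw [Nat.card_zpowers, ht, pow_one]
  obtain ⟨T, hT⟩ := h1.exists_le_sylow
  exact ⟨T, hT (mem_zpowers t)⟩

/-- **Lemma N.** -/
theorem toNData (hf : ∃ t s : L, orderOf t = 2 ∧ orderOf s = 2 ∧ f t ≠ f s)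
    {A : Subgroup L} (hA : IsPGroup 2 A) (hA1 : A ≠ ⊥)
    (hoff : (cv V (A : Set L)).index ≤ Nat.card A) : NData L V := by
  obtain ⟨T₀, hT₀⟩ := hA.exists_le_sylow
  have hAT := h.eq_sylow hf hA hA1 hoff T₀ hT₀
  obtain ⟨o1, o2⟩ := h.offender_top hf hA hA1 hoff
  rw [hAT] at o1 o2
  refine ⟨h.comm, h.sq, h.faith, h.quad, ?_, ?_, ?_⟩
  · intro T
    obtain ⟨g, rfl⟩ := MulAction.exists_smul_eq L T₀ T
    have h1 := index_cv_map_conj (V := V) (T₀ : Subgroup L) g
    rw [← coe_smul_sylow] at h1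
    rw [h1, o1]
    exact Nat.card_congr (T₀.equivSMul g).toEquiv
  · intro T t ht ht1
    obtain ⟨g, rfl⟩ := MulAction.exists_smul_eq L T₀ T
    ext v
    rw [mem_cv_smul_sylow]
    have h1 : g⁻¹ * t * g ∈ (T₀ : Subgroup L) := mem_smul_sylow.1 ht
    have h2 : g⁻¹ * t * g ≠ 1 := by
      intro e
      apply ht1
      have : t = g * (g⁻¹ * t * g) * g⁻¹ := by group
      rw [this, e]; group
    have h3 := o2 _ h1 h2
    rw [← h3, mem_cv_singleton, mem_cv_singleton, smul_smul, mul_assoc, mul_inv_cancel, mul_one,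
      mul_smul, smul_left_cancel_iff]
  · by_contra hcon
    push Not at hcon
    obtain ⟨t, s, ht, hs, hne⟩ := hf
    obtain ⟨T, hT⟩ := exists_sylow_mem ht
    obtain ⟨S, hS⟩ := exists_sylow_mem hs
    rw [hcon S T] at hS
    exact hne (h.f_eq T.isPGroup' hT hS (fun e => by rw [e, orderOf_one] at ht; omega)
      (fun e => by rw [e, orderOf_one] at hs; omega))

end QData

end Cfsg.Agent.ClassTwoFusion.Quad
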