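import Mathlib
import Cfsg.Agent.ClassTwoFusion.Local
import Cfsg.Agent.ClassTwoFusion.QuadStruct

/-!
# The action of `N_G(E)` on `V`, `E` essential
-/

set_option autoImplicit false

namespace Cfsg.Agent.ClassTwoFusion.Local

open Subgroup Cfsg.Agent.ClassTwoFusion.Gen Cfsg.Agent.ClassTwoFusion.Ess
open Cfsg.Agent.ClassTwoFusion.Quad
open scoped Pointwise

variable {G : Type*} [Group G]

theorem mem_normalizer_of_conj [Finite G] {A : Subgroup G} {g : G} (h : ∀ a ∈ A, g * a * g⁻¹ ∈ A) :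
    g ∈ normalizer (A : Set G) := by
  apply Cfsg.Agent.Lib.GoldschmidtFusion.mem_normalizer_iff_map_conj.2
  refine Cfsg.Agent.Lib.GoldschmidtFusion.map_conj_le_of_le_normalizer ?_
  rintro _ ⟨r, hr, rfl⟩
  exact h r hr

namespace Setup

variable [Finite G] {P : Sylow 2 G} {E : Subgroup G} (h : Setup P E)
include h

theorem P_le_star : (P : Subgroup G) ≤ starSub (P : Subgroup G) E :=
  le_trans (le_inf h.P_le_N le_normalizer) (inf_normalizer_le_starSub h.ess.lt le_rfl)

theorem K_le_star : XX (P : Subgroup G) E ⊓ centralizer (VV (P : Subgroup G) E : Set G) ≤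
    starSub (P : Subgroup G) E :=
  (h.K_le rfl).trans (sup_le (inf_le_left.trans h.P_le_star)
      (inf_le_right.trans (centralizer_le_starSub _ _)))

/-- `C_X(V) = E C_X(E)` -/
theorem K_le_sup : XX (P : Subgroup G) E ⊓ centralizer (VV (P : Subgroup G) E : Set G) ≤
    E ⊔ (XX (P : Subgroup G) E ⊓ centralizer (E : Set G)) := by
  have := h.K_le rfl
  rwa [h.inf_centralizer_eq] at this

theorem star_le_N : starSub (P : Subgroup G) E ≤ normalizer (E : Set G) := starSub_le_normalizer _ _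

theorem inf_normalizer_P_le_star :
    normalizer (E : Set G) ⊓ normalizer ((P : Subgroup G) : Set G) ≤ starSub (P : Subgroup G) E :=
  inf_normalizer_le_starSub h.ess.lt le_rfl

/-- `C_N(V) ≤ E*` -/
theorem cent_le_star {x : G} (hx : x ∈ normalizer (E : Set G))
    (hxV : x ∈ centralizer (VV (P : Subgroup G) E : Set G)) : x ∈ starSub (P : Subgroup G) E := by
  obtain ⟨k, hk, hkR⟩ := exists_mul_conj P (K := XX (P : Subgroup G) E ⊓
      centralizer (VV (P : Subgroup G) E : Set G)) (R := (P : Subgroup G)) (x := x)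
    (fun y hy k hk => ⟨XX_conj (h.P_le_N hy) hk.1, h.conj_mem_cent (h.P_le_N hy) hk.2⟩)
    P.isPGroup' (fun r hr => by
      have h1 : x * r * x⁻¹ * r⁻¹ ∈ XX (P : Subgroup G) E ⊓
          centralizer (VV (P : Subgroup G) E : Set G) := by
        refine mem_inf.2 ⟨mul_mem (XX_conj hx (h.P_le_XX hr)) (inv_mem (h.P_le_XX hr)), ?_⟩
        have h2 := mul_mem hxV (h.conj_mem_cent (h.P_le_N hr) (inv_mem hxV))
        have e1 : x * (r * x⁻¹ * r⁻¹) = x * r * x⁻¹ * r⁻¹ := by group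
        rw [e1] at h2
        exact h2
      have e2 : x * r * x⁻¹ = (x * r * x⁻¹ * r⁻¹) * r := by group
      rw [e2]
      exact mul_mem (mem_sup_left h1) (mem_sup_right hr))
  have hkN : k ∈ normalizer (E : Set G) := h.XX_le_N hk.1
  have h2 := h.inf_normalizer_P_le_star ⟨mul_mem hkN hx, mem_normalizer_of_conj hkR⟩
  have h4 : x = k⁻¹ * (k * x) := by group
  rw [h4]
  exact mul_mem (inv_mem (h.K_le_star hk)) h2

theorem inf_centralizer_le_E {x : G} (hx : x ∈ (P : Subgroup G))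
    (hxV : x ∈ centralizer (VV (P : Subgroup G) E : Set G)) : x ∈ E := by
  have : x ∈ (P : Subgroup G) ⊓ centralizer (VV (P : Subgroup G) E : Set G) := ⟨hx, hxV⟩
  rwa [h.inf_centralizer_eq] at this

/-- centralisers of nontrivial elements of `P/E` in `N/C_N(V)` lie in `E*` -/
theorem comm_mem_star {t y : G} (ht : t ∈ (P : Subgroup G)) (htE : t ∉ E)
    (hy : y ∈ normalizer (E : Set G))
    (hyt : y * t * y⁻¹ * t⁻¹ ∈ centralizer (VV (P : Subgroup G) E : Set G)) :
    y ∈ starSub (P : Subgroup G) E := by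
  set C : Subgroup G := normalizer (E : Set G) ⊓ centralizer (VV (P : Subgroup G) E : Set G) with hC
  set Q : Subgroup G := E ⊔ zpowers t with hQ
  have hQP : Q ≤ (P : Subgroup G) := sup_le h.E_le (by rw [zpowers_le]; exact ht)
  have hEQ : E < Q := by
    refine lt_of_le_of_ne le_sup_left ?_
    intro e
    apply htE
    rw [e]
    exact mem_sup_right (mem_zpowers t)
  have hCP : ∀ z ∈ (P : Subgroup G), ∀ k ∈ C, z * k * z⁻¹ ∈ C := fun z hz k hk =>
    mem_inf.2 ⟨mul_mem (mul_mem (h.P_le_N hz) hk.1) (inv_mem (h.P_le_N hz)),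
      h.conj_mem_cent (h.P_le_N hz) hk.2⟩
  have hc : y * t * y⁻¹ * t⁻¹ ∈ C :=
    mem_inf.2 ⟨mul_mem (mul_mem (mul_mem hy (h.P_le_N ht)) (inv_mem hy)) (inv_mem (h.P_le_N ht)), hyt⟩
  have hyQ : ∀ r ∈ Q, y * r * y⁻¹ ∈ C ⊔ (P : Subgroup G) := by
    have : Q ≤ (C ⊔ (P : Subgroup G)).comap (MulAut.conj y).toMonoidHom := by
      refine sup_le ?_ ?_
      · intro e he
        rw [mem_comap]
        change y * e * y⁻¹ ∈ C ⊔ (P : Subgroup G)
        exact mem_sup_right (h.E_le (h.E_conj hy he))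
      · rw [zpowers_le]
        rw [mem_comap]
        change y * t * y⁻¹ ∈ C ⊔ (P : Subgroup G)
        have e2 : y * t * y⁻¹ = (y * t * y⁻¹ * t⁻¹) * t := by group
        rw [e2]
        exact mul_mem (mem_sup_left hc) (mem_sup_right ht)
    exact this
  obtain ⟨k, hk, hkR⟩ := exists_mul_conj P (K := C) (R := Q) (x := y) hCP (P.isPGroup'.to_le hQP) hyQ
  have hkyN : k * y ∈ normalizer (E : Set G) := mul_mem hk.1 hy
  have hky : ∀ r ∈ Q, (k * y) * r * (k * y)⁻¹ ∈ Q := by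
    have : Q ≤ Q.comap (MulAut.conj (k * y)).toMonoidHom := by
      refine sup_le ?_ ?_
      · intro e he
        rw [mem_comap]
        change (k * y) * e * (k * y)⁻¹ ∈ Q
        exact hEQ.le (h.E_conj hkyN he)
      · rw [zpowers_le]
        rw [mem_comap]
        change (k * y) * t * (k * y)⁻¹ ∈ Q
        have h1 : (k * y) * t * (k * y)⁻¹ * t⁻¹ ∈ C := by
          have h2 := mul_mem (mul_mem hk hc) (hCP t ht k⁻¹ (inv_mem hk))
          have e3 : k * (y * t * y⁻¹ * t⁻¹) * (t * k⁻¹ * t⁻¹) = (k * y) * t * (k * y)⁻¹ * t⁻¹ := by group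
          rwa [e3] at h2
        have h2 : (k * y) * t * (k * y)⁻¹ * t⁻¹ ∈ (P : Subgroup G) :=
          mul_mem (hkR t (mem_sup_right (mem_zpowers t))) (inv_mem ht)
        have h3 := h.inf_centralizer_le_E h2 h1.2
        have e4 : (k * y) * t * (k * y)⁻¹ = ((k * y) * t * (k * y)⁻¹ * t⁻¹) * t := by group
        rw [e4]
        exact mul_mem (hEQ.le h3) (mem_sup_right (mem_zpowers t))
    exact this
  have h3 := inf_normalizer_le_starSub hEQ hQP ⟨hkyN, mem_normalizer_of_conj hky⟩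
  have h4 : y = k⁻¹ * (k * y) := by group
  rw [h4]
  exact mul_mem (inv_mem (h.cent_le_star hk.1 hk.2)) h3

/-! ### the group `L` -/

theorem N_le_N : normalizer (E : Set G) ≤ normalizer (VV (P : Subgroup G) E : Set G) := fun _ hn =>
  mem_normalizer_of_conj fun _ hv => h.VV_conj hn hv

end Setup

/-- the representation of `N_G(E)` on `V` -/
def rho [Finite G] {P : Sylow 2 G} {E : Subgroup G} (h : Setup P E) :
    ↥(normalizer (E : Set G)) →* MulAut ↥(VV (P : Subgroup G) E) :=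
  (normalizerMonoidHom (VV (P : Subgroup G) E)).comp (inclusion h.N_le_N)

/-- its image -/
abbrev LL [Finite G] {P : Sylow 2 G} {E : Subgroup G} (h : Setup P E) : Type _ := ↥(rho h).range

/-- the map onto the image -/
def rr [Finite G] {P : Sylow 2 G} {E : Subgroup G} (h : Setup P E) :
    ↥(normalizer (E : Set G)) →* LL h := (rho h).rangeRestrict

namespace Setup

variable [Finite G] {P : Sylow 2 G} {E : Subgroup G} (h : Setup P E)

theorem rr_surjective : Function.Surjective (rr h) := (rho h).rangeRestrict_surjective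

theorem coe_smul (n : ↥(normalizer (E : Set G))) (v : ↥(VV (P : Subgroup G) E)) :
    ((rr h n • v : ↥(VV (P : Subgroup G) E)) : G) = n * v * (n : G)⁻¹ := rfl

theorem faith (x : LL h) (hx : ∀ v : ↥(VV (P : Subgroup G) E), x • v = v) : x = 1 := by
  apply Subtype.ext
  apply MulEquiv.ext
  intro v
  exact hx v

theorem rr_eq_one_iff (n : ↥(normalizer (E : Set G))) :
    rr h n = 1 ↔ (n : G) ∈ centralizer (VV (P : Subgroup G) E : Set G) := by
  constructor
  · intro h1
    rw [mem_centralizer_iff]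
    intro v hv
    have h2 : rr h n • (⟨v, hv⟩ : ↥(VV (P : Subgroup G) E)) = ⟨v, hv⟩ := by rw [h1, one_smul]
    have h3 := congrArg Subtype.val h2
    rw [coe_smul] at h3
    have h4 : (n : G) * v * (n : G)⁻¹ = v := h3
    calc v * (n : G) = ((n : G) * v * (n : G)⁻¹) * n := by rw [h4]
      _ = n * v := by group
  · intro h1
    apply h.faith
    intro v
    apply Subtype.ext
    rw [coe_smul]
    have := mem_centralizer_iff.1 h1 v v.2
    rw [← this]; group

theorem rr_eq_iff (m n : ↥(normalizer (E : Set G))) :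
    rr h m = rr h n ↔ (m : G) * (n : G)⁻¹ ∈ centralizer (VV (P : Subgroup G) E : Set G) := by
  rw [← mul_inv_eq_one, ← map_inv, ← map_mul, rr_eq_one_iff]
  rfl

/-- the image of `P`, a Sylow 2-subgroup of `L` -/
noncomputable def Tb : Sylow 2 (LL h) := (P.subtype h.P_le_N).mapSurjective h.rr_surjective

theorem mem_Tb {x : LL h} : x ∈ (h.Tb : Subgroup (LL h)) ↔
    ∃ t : G, ∃ ht : t ∈ (P : Subgroup G), rr h ⟨t, h.P_le_N ht⟩ = x := by
  constructor
  · rintro ⟨⟨t, htN⟩, ht, rfl⟩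
    exact ⟨t, ht, rfl⟩
  · rintro ⟨t, ht, rfl⟩
    exact ⟨⟨t, h.P_le_N ht⟩, ht, rfl⟩

theorem rr_P_eq_one_iff {t : G} (ht : t ∈ (P : Subgroup G)) :
    rr h ⟨t, h.P_le_N ht⟩ = 1 ↔ t ∈ E := by
  rw [rr_eq_one_iff]
  constructor
  · exact h.inf_centralizer_le_E ht
  · intro htE
    rw [mem_centralizer_iff]
    intro v hv
    exact h.VV_comm_E hv htE

/-- the function on `L` -/
def ff (x : LL h) : Set ↥(normalizer (E : Set G)) :=
  {g | ∃ y : ↥(normalizer (E : Set G)), (y : G) ∈ starSub (P : Subgroup G) E ∧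
    rr h y = (rr h g)⁻¹ * x * rr h g}

theorem quad_Tb {x y : LL h} (hx : x ∈ (h.Tb : Subgroup (LL h))) (hy : y ∈ (h.Tb : Subgroup (LL h)))
    (v : ↥(VV (P : Subgroup G) E)) : y • d x v = d x v := by
  obtain ⟨s, hs, rfl⟩ := h.mem_Tb.1 hx
  obtain ⟨t, ht, rfl⟩ := h.mem_Tb.1 hy
  apply Subtype.ext
  rw [coe_smul]
  have h1 : ((d (rr h ⟨s, h.P_le_N hs⟩) v : ↥(VV (P : Subgroup G) E)) : G) = s * v * s⁻¹ * v := rfl
  have h2 := h.comm_VV_mem_Om hs v.2
  have h3 : (v : G)⁻¹ = v := inv_eq_of_mul_eq_one_right (h.VV_sq v.2)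
  rw [h3] at h2
  rw [h1]
  have := (mem_Om.1 h2).2.1 t ht
  change t * (s * ↑v * s⁻¹ * ↑v) * t⁻¹ = s * ↑v * s⁻¹ * ↑v
  rw [this]; group

theorem QD : QData (LL h) ↥(VV (P : Subgroup G) E) h.ff where
  comm := fun v w => Subtype.ext (h.VV_comm_E v.2 (h.VV_le_E w.2))
  sq := fun v => Subtype.ext (h.VV_sq v.2)
  faith := h.faith
  quad := by
    intro Q hQ x hx y hy v
    obtain ⟨S, hS⟩ := hQ.exists_le_sylow
    obtain ⟨g, rfl⟩ := MulAction.exists_smul_eq (LL h) h.Tb S
    have hx' := mem_smul_sylow.1 (hS hx)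
    have hy' := mem_smul_sylow.1 (hS hy)
    have h1 := h.quad_Tb hx' hy' (g⁻¹ • v)
    have h2 : d (g⁻¹ * x * g) (g⁻¹ • v) = g⁻¹ • d x v := by
      unfold d
      rw [smul_mul', smul_smul, smul_smul]
      congr 2
      group
    rw [h2, smul_smul] at h1
    have h3 := congrArg (fun w => g • w) h1
    simp only [smul_smul] at h3
    have e1 : g * (g⁻¹ * y * g * g⁻¹) = y := by group
    rw [e1, mul_inv_cancel, one_smul] at h3
    exact h3
  f_comm := by
    -- it suffices to show one inclusion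
    have key : ∀ s t : LL h, orderOf s = 2 → Commute s t → h.ff s ⊆ h.ff t := by
      rintro s t hs hst g ⟨y, hy, hys⟩
      obtain ⟨a, b, hab, ⟨k, hk⟩, hb⟩ :=
        Cfsg.Agent.TwoFusion.PResidual.exists_pPart_mul_pPrimePart 2 y
      set s₁ : LL h := (rr h g)⁻¹ * s * rr h g with hs₁
      have hs₁2 : orderOf s₁ = 2 := by
        refine Eq.trans ?_ ((orderOf_injective (MulAut.conj (rr h g)⁻¹).toMonoidHom
          (MulAut.conj (rr h g)⁻¹).injective s).trans hs)
        congr 1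
      -- the odd part acts trivially
      have hodd : rr h (y ^ b) = 1 := by
        have h1 : orderOf (rr h (y ^ b)) ∣ orderOf (y ^ b) := orderOf_map_dvd _ _
        have h2 : orderOf (rr h (y ^ b)) ∣ 2 := by
          rw [map_zpow, hys]
          exact (orderOf_dvd_of_mem_zpowers (zpow_mem (mem_zpowers s₁) b)).trans (dvd_of_eq hs₁2)
        have h3 : orderOf (rr h (y ^ b)) = 1 := Nat.eq_one_of_dvd_coprimes hb h1 h2
        exact orderOf_eq_one_iff.1 h3
      have hya : rr h (y ^ a) = s₁ := by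
        have : rr h y = rr h (y ^ a) * rr h (y ^ b) := by rw [← map_mul, ← hab]
        rw [hodd, mul_one] at this
        rw [← this, hys]
      -- conjugate the 2-part into `P`
      have hyaS : ((y ^ a : ↥(normalizer (E : Set G))) : G) ∈ starSub (P : Subgroup G) E := by
        rw [coe_zpow]; exact zpow_mem hy a
      have hp : IsPGroup 2 (zpowers ((y ^ a : ↥(normalizer (E : Set G))) : G)) := by
        refine IsPGroup.of_card (n := k) ?_
        rw [Nat.card_zpowers, orderOf_coe, hk]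
      obtain ⟨c, hc, hcP⟩ := Cfsg.Agent.TwoFusion.SylowConj.exists_conj_le_of_sylow_le P
        (starSub (P : Subgroup G) E) _ h.P_le_star hp (by rw [zpowers_le]; exact hyaS)
      have hcN : c ∈ normalizer (E : Set G) := h.star_le_N hc
      set t₀ : G := c * ((y ^ a : ↥(normalizer (E : Set G))) : G) * c⁻¹ with ht₀
      have ht₀P : t₀ ∈ (P : Subgroup G) := hcP _ (mem_zpowers _)
      have ht₀r : rr h ⟨t₀, h.P_le_N ht₀P⟩ = rr h ⟨c, hcN⟩ * s₁ * (rr h ⟨c, hcN⟩)⁻¹ := by
        rw [← hya, ← map_mul, ← map_inv, ← map_mul]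
        rfl
      have ht₀E : t₀ ∉ E := by
        intro hE
        have h1 := (h.rr_P_eq_one_iff ht₀P).2 hE
        rw [ht₀r, conj_eq_one_iff] at h1
        rw [h1, orderOf_one] at hs₁2
        omega
      -- a preimage of `t₁ = t^g`
      obtain ⟨z, hz⟩ := h.rr_surjective ((rr h g)⁻¹ * t * rr h g)
      refine ⟨z, ?_, hz⟩
      have hcomm : Commute s₁ (rr h z) := by
        rw [hz, hs₁]
        change _ = _
        calc (rr h g)⁻¹ * s * rr h g * ((rr h g)⁻¹ * t * rr h g)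
            = (rr h g)⁻¹ * (s * t) * rr h g := by group
          _ = (rr h g)⁻¹ * (t * s) * rr h g := by rw [hst.eq]
          _ = (rr h g)⁻¹ * t * rr h g * ((rr h g)⁻¹ * s * rr h g) := by group
      have h5 : c * (z : G) * c⁻¹ ∈ starSub (P : Subgroup G) E := by
        refine h.comm_mem_star ht₀P ht₀E (mul_mem (mul_mem hcN z.2) (inv_mem hcN)) ?_
        have h6 : rr h (⟨c, hcN⟩ * z * (⟨c, hcN⟩)⁻¹ * ⟨t₀, h.P_le_N ht₀P⟩ *
            (⟨c, hcN⟩ * z * (⟨c, hcN⟩)⁻¹)⁻¹ * (⟨t₀, h.P_le_N ht₀P⟩)⁻¹) = 1 := by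
          simp only [map_mul, map_inv, ht₀r]
          have h7 := hcomm.eq
          calc rr h ⟨c, hcN⟩ * rr h z * (rr h ⟨c, hcN⟩)⁻¹ *
                (rr h ⟨c, hcN⟩ * s₁ * (rr h ⟨c, hcN⟩)⁻¹) *
                (rr h ⟨c, hcN⟩ * rr h z * (rr h ⟨c, hcN⟩)⁻¹)⁻¹ *
                (rr h ⟨c, hcN⟩ * s₁ * (rr h ⟨c, hcN⟩)⁻¹)⁻¹
              = rr h ⟨c, hcN⟩ * (rr h z * s₁) * ((rr h z)⁻¹ * s₁⁻¹) * (rr h ⟨c, hcN⟩)⁻¹ := by group
            _ = 1 := by rw [← h7]; group
        rw [rr_eq_one_iff] at h6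
        exact h6
      have h8 := mul_mem (mul_mem (inv_mem hc) h5) hc
      have e2 : c⁻¹ * (c * (z : G) * c⁻¹) * c = z := by group
      rwa [e2] at h8
    intro s t hs ht hst
    exact Set.Subset.antisymm (key s t hs hst) (key t s ht hst.symm)

/-- `f` is not constant -/
theorem QD_ne : ∃ t s : LL h, orderOf t = 2 ∧ orderOf s = 2 ∧ h.ff t ≠ h.ff s := by
  by_contra hcon
  push Not at hcon
  apply h.ess.ess
  intro n hn
  -- every conjugate of `P` lies in `E*`
  obtain ⟨t₀, ht₀, ht₀E⟩ := SetLike.exists_of_lt h.ess.lt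
  have hord : ∀ t : G, ∀ ht : t ∈ (P : Subgroup G), t ∉ E →
      orderOf (rr h ⟨t, h.P_le_N ht⟩) = 2 := by
    intro t ht htE
    refine h.QD.orderOf_eq_two h.Tb.isPGroup' (h.mem_Tb.2 ⟨t, ht, rfl⟩) ?_
    rw [Ne, h.rr_P_eq_one_iff ht]; exact htE
  have h1 : ∀ r ∈ (P : Subgroup G), n * r * n⁻¹ ∈ starSub (P : Subgroup G) E := by
    intro r hr
    by_cases hrE : r ∈ E
    · exact h.P_le_star (h.E_le (h.E_conj hn hrE))
    · have h2 := hord r hr hrE
      set x : LL h := rr h ⟨n, hn⟩ * rr h ⟨r, h.P_le_N hr⟩ * (rr h ⟨n, hn⟩)⁻¹ with hx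
      have hx2 : orderOf x = 2 := by
        refine Eq.trans ?_ ((orderOf_injective (MulAut.conj (rr h ⟨n, hn⟩)).toMonoidHom
          (MulAut.conj (rr h ⟨n, hn⟩)).injective (rr h ⟨r, h.P_le_N hr⟩)).trans h2)
        congr 1
      have h3 := hcon (rr h ⟨t₀, h.P_le_N ht₀⟩) x (hord t₀ ht₀ ht₀E) hx2
      have h4 : (1 : ↥(normalizer (E : Set G))) ∈ h.ff (rr h ⟨t₀, h.P_le_N ht₀⟩) :=
        ⟨⟨t₀, h.P_le_N ht₀⟩, h.P_le_star ht₀, by simp⟩
      rw [h3] at h4
      obtain ⟨y, hy, hyx⟩ := h4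
      rw [map_one, inv_one, one_mul, mul_one, hx, ← map_mul, ← map_inv, ← map_mul, rr_eq_iff] at hyx
      have hyN := y.2
      have h5 : (y : G) * (n * r * n⁻¹)⁻¹ ∈ starSub (P : Subgroup G) E := by
        refine h.cent_le_star (mul_mem hyN (inv_mem (mul_mem (mul_mem hn (h.P_le_N hr))
          (inv_mem hn)))) hyx
      have h6 := mul_mem (inv_mem h5) hy
      have e1 : ((y : G) * (n * r * n⁻¹)⁻¹)⁻¹ * y = n * r * n⁻¹ := by group
      rwa [e1] at h6
  obtain ⟨c, hc, hcP⟩ := Cfsg.Agent.TwoFusion.SylowConj.exists_conj_le_of_sylow_le P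
    (starSub (P : Subgroup G) E) ((P : Subgroup G).map (MulAut.conj n).toMonoidHom) h.P_le_star
    (P.isPGroup'.map _) (by rintro _ ⟨r, hr, rfl⟩; exact h1 r hr)
  have h2 : c * n ∈ normalizer ((P : Subgroup G) : Set G) := by
    refine mem_normalizer_of_conj fun r hr => ?_
    have := hcP (n * r * n⁻¹) ⟨r, hr, rfl⟩
    have e1 : c * (n * r * n⁻¹) * c⁻¹ = (c * n) * r * (c * n)⁻¹ := by group
    rwa [e1] at this
  have h3 := h.inf_normalizer_P_le_star ⟨mul_mem (h.star_le_N hc) hn, h2⟩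
  have e1 : n = c⁻¹ * (c * n) := by group
  rw [e1]
  exact mul_mem (inv_mem hc) h3

end Setup

end Cfsg.Agent.ClassTwoFusion.Local
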