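import Mathlib
import Cfsg.Agent.ClassTwoFusion.LocalG

/-!
# Adjacent essential subgroups
-/

set_option autoImplicit false

namespace Cfsg.Agent.ClassTwoFusion.Local

open Subgroup Cfsg.Agent.ClassTwoFusion.Gen Cfsg.Agent.ClassTwoFusion.Ess
open Cfsg.Agent.ClassTwoFusion.Quad
open scoped Pointwise

variable {G : Type*} [Group G]

/-- powers modulo `M` -/
theorem pow_mod {M : Subgroup G} {y e u : G} (hM : ∀ m ∈ M, y * m * y⁻¹ ∈ M)
    (huM : ∀ m ∈ M, u * m = m * u) (h1 : y * e * y⁻¹ = u * e) (h2 : y * u * y⁻¹ * u⁻¹ ∈ M) (n : ℕ) :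
    ∃ m ∈ M, y ^ n * e * (y ^ n)⁻¹ = m * u ^ n * e := by
  induction n with
  | zero => exact ⟨1, one_mem _, by simp⟩
  | succ n ih =>
    obtain ⟨m, hm, hme⟩ := ih
    have h3 : ∀ k : ℕ, ∃ m ∈ M, y * u ^ k * y⁻¹ = m * u ^ k := by
      intro k
      induction k with
      | zero => exact ⟨1, one_mem _, by simp⟩
      | succ k ihk =>
        obtain ⟨a, ha, hak⟩ := ihk
        refine ⟨a * (y * u * y⁻¹ * u⁻¹), mul_mem ha h2, ?_⟩
        have h4' : Commute u (y * u * y⁻¹ * u⁻¹) := huM _ h2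
        have h4 : Commute (y * u * y⁻¹ * u⁻¹) (u ^ k) := (h4'.pow_left k).symm
        calc y * u ^ (k + 1) * y⁻¹ = (y * u ^ k * y⁻¹) * (y * u * y⁻¹) := by rw [pow_succ]; group
          _ = a * (u ^ k * (y * u * y⁻¹ * u⁻¹)) * u := by rw [hak]; group
          _ = a * ((y * u * y⁻¹ * u⁻¹) * u ^ k) * u := by rw [h4.eq]
          _ = a * (y * u * y⁻¹ * u⁻¹) * u ^ (k + 1) := by rw [pow_succ]; group
    obtain ⟨a, ha, hak⟩ := h3 n
    refine ⟨(y * m * y⁻¹) * a, mul_mem (hM m hm) ha, ?_⟩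
    calc y ^ (n + 1) * e * (y ^ (n + 1))⁻¹ = y * (y ^ n * e * (y ^ n)⁻¹) * y⁻¹ := by
          rw [pow_succ']; group
      _ = (y * m * y⁻¹) * (y * u ^ n * y⁻¹) * (y * e * y⁻¹) := by rw [hme]; group
      _ = (y * m * y⁻¹) * a * u ^ (n + 1) * e := by rw [hak, h1, pow_succ]; group

/-- `W = [V, B]` -/
def WW (P E : Subgroup G) : Subgroup G := ⁅BB P E, VV P E⁆

/-- `C_E(B)` -/
def CE (P E : Subgroup G) : Subgroup G := E ⊓ centralizer (BB P E : Set G)

namespace Setup

variable [Finite G] {P : Sylow 2 G} {E : Subgroup G} (h : Setup P E)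
include h

theorem BB_le_XX : BB (P : Subgroup G) E ≤ XX (P : Subgroup G) E := oddGen_le _

omit h [Finite G] in
theorem BB_conj {P E : Subgroup G} {n x : G} (hn : n ∈ normalizer (E : Set G)) (hx : x ∈ BB P E) :
    n * x * n⁻¹ ∈ BB P E := conj_mem_oddGen (fun _ hy => XX_conj hn hy) hx

/-- `x² ∈ E` for `x ∈ P` -/
theorem sq_mem_E {x : G} (hx : x ∈ (P : Subgroup G)) : x * x ∈ E := by
  refine h.inf_centralizer_le_E (mul_mem hx hx) ?_
  rw [mem_centralizer_iff]
  intro v hv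
  have := h.sq_comm_VV hx hv
  calc v * (x * x) = ((x * x) * v * (x * x)⁻¹) * (x * x) := by rw [this]
    _ = (x * x) * v := by group

/-- `[VF, X] ≤ V` -/
theorem comm_VF_mem {x v : G} (hx : x ∈ XX (P : Subgroup G) E) (hv : v ∈ VF (P : Subgroup G) E) :
    x * v * x⁻¹ * v⁻¹ ∈ VV (P : Subgroup G) E := by
  have h1 : XX (P : Subgroup G) E ≤ actTriv (normalizer (E : Set G)) (VF (P : Subgroup G) E)
      (VV (P : Subgroup G) E)
      (fun n hn e he => VF_conj hn he) (fun n hn v hv => h.VV_conj hn hv) := by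
    refine ncl_le_of_le (fun y hy => ⟨h.P_le_N hy, fun v hv => ?_⟩)
      (fun n hn a ha => conj_mem_actTriv _ _ hn ha)
    refine h.Om_le_VV ⟨comm_mem_Zc h.cl hy (h.E_le (h.VF_le_E hv)), ?_⟩
    set c := y * v * y⁻¹ * v⁻¹ with hc
    have hcZ : c ∈ Zc (P : Subgroup G) := comm_mem_Zc h.cl hy (h.E_le (h.VF_le_E hv))
    have e1 : y * v * y⁻¹ = c * v := by rw [hc]; group
    have e2 : y * c = c * y := (mem_Zc.1 hcZ).2 y hy
    have e3 : (y * y) * v * (y * y)⁻¹ = (c * c) * v := by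
      calc (y * y) * v * (y * y)⁻¹ = y * (y * v * y⁻¹) * y⁻¹ := by group
        _ = (y * c) * v * y⁻¹ := by rw [e1]; group
        _ = c * (y * v * y⁻¹) := by rw [e2]; group
        _ = (c * c) * v := by rw [e1]; group
    have e4 := h.VF_comm_E v hv _ (h.sq_mem_E hy)
    have e5 : (y * y) * v * (y * y)⁻¹ = v := by rw [← e4]; group
    rw [e5] at e3
    exact mul_eq_right.1 e3.symm
  exact (h1 hx).2 v hv

/-- `[E, y] ≤ V` for `y` of odd order in `X` -/
theorem comm_odd_mem {y e : G} (hy : y ∈ XX (P : Subgroup G) E) (hodd : Odd (orderOf y))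
    (he : e ∈ E) : y * e * y⁻¹ * e⁻¹ ∈ VV (P : Subgroup G) E := by
  set u := y * e * y⁻¹ * e⁻¹ with hu
  have huF : u ∈ VF (P : Subgroup G) E := h.comm_XX_mem hy he
  have h1 : y * e * y⁻¹ = u * e := by rw [hu]; group
  obtain ⟨m, hm, hme⟩ := pow_mod (M := VV (P : Subgroup G) E) (fun m hm => h.VV_conj (h.XX_le_N hy) hm)
    (fun m hm => h.VF_comm u huF m (h.VV_le_VF hm)) h1 (h.comm_VF_mem hy huF) (orderOf y)
  rw [pow_orderOf_eq_one] at hme
  have h2 : m * u ^ orderOf y = 1 := by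
    have : e = m * u ^ orderOf y * e := by simpa using hme
    exact mul_eq_right.1 this.symm
  have h3 : (u * u) ^ orderOf y = 1 := by
    have h4 : u ^ orderOf y = m⁻¹ := (inv_eq_of_mul_eq_one_right h2).symm
    have h5 : m⁻¹ = m := inv_eq_of_mul_eq_one_right (h.VV_sq hm)
    rw [← pow_two, ← pow_mul, mul_comm, pow_mul, h4, h5, pow_two, h.VV_sq hm]
  have h4 := eq_one_of_pow_odd h.isPGroup_E (mul_mem (h.VF_le_E huF) (h.VF_le_E huF)) hodd h3
  exact h.mem_VV.2 ⟨huF, h4⟩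

/-- odd elements of `X` centralise commutators of elements of `E` -/
theorem comm_fixed {y e f : G} (hy : y ∈ XX (P : Subgroup G) E) (hodd : Odd (orderOf y))
    (he : e ∈ E) (hf : f ∈ E) :
    y * (e * f * e⁻¹ * f⁻¹) * y⁻¹ = e * f * e⁻¹ * f⁻¹ := by
  set v := y * e * y⁻¹ * e⁻¹ with hv
  set w := y * f * y⁻¹ * f⁻¹ with hw
  have hvV : v ∈ VV (P : Subgroup G) E := h.comm_odd_mem hy hodd he
  have hwV : w ∈ VV (P : Subgroup G) E := h.comm_odd_mem hy hodd hf
  have e1 : y * e * y⁻¹ = v * e := by rw [hv]; group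
  have e2 : y * f * y⁻¹ = w * f := by rw [hw]; group
  have hve : v * e = e * v := h.VV_comm_E hvV he
  have hvf : v * f = f * v := h.VV_comm_E hvV hf
  have hwe : w * e = e * w := h.VV_comm_E hwV he
  have hwf : w * f = f * w := h.VV_comm_E hwV hf
  have hvw : v * w = w * v := h.VV_comm_E hvV (h.VV_le_E hwV)
  have cve : Commute v e := hve
  have cvf : Commute v f := hvf
  have cwe : Commute w e := hwe
  have cwf : Commute w f := hwf
  have cvw : Commute v w := hvw
  have e3 : y * (e * f * e⁻¹ * f⁻¹) * y⁻¹ = (v * e) * (w * f) * (v * e)⁻¹ * (w * f)⁻¹ := by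
    rw [← e1, ← e2]; group
  have e4 : (v * e) * (w * f) = (v * w) * (e * f) := by
    rw [mul_assoc, ← mul_assoc e, ← cwe.eq]; group
  have e5 : (w * f) * (v * e) = (v * w) * (f * e) := by
    rw [mul_assoc, ← mul_assoc f, ← cvf.eq, cvw.eq]; group
  calc y * (e * f * e⁻¹ * f⁻¹) * y⁻¹ = ((v * e) * (w * f)) * ((w * f) * (v * e))⁻¹ := by
        rw [e3]; group
    _ = ((v * w) * (e * f)) * ((v * w) * (f * e))⁻¹ := by rw [e4, e5]
    _ = (v * w) * (e * f * e⁻¹ * f⁻¹) * (v * w)⁻¹ := by group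
    _ = e * f * e⁻¹ * f⁻¹ := by
        have h1 : Commute (v * w) (e * f * e⁻¹ * f⁻¹) := by
          refine Commute.mul_left ?_ ?_
          · exact ((cve.mul_right cvf).mul_right cve.inv_right).mul_right cvf.inv_right
          · exact ((cwe.mul_right cwf).mul_right cwe.inv_right).mul_right cwf.inv_right
        rw [h1.eq]; group

theorem WW_le_VV : WW (P : Subgroup G) E ≤ VV (P : Subgroup G) E := by
  unfold WW
  rw [commutator_le]
  intro b hb v hv
  exact mul_mem (h.VV_conj (h.XX_le_N (h.BB_le_XX hb)) hv) (inv_mem hv)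

theorem WW_conj {n x : G} (hn : n ∈ normalizer (E : Set G)) (hx : x ∈ WW (P : Subgroup G) E) :
    n * x * n⁻¹ ∈ WW (P : Subgroup G) E := by
  have h1 : (WW (P : Subgroup G) E).map (MulAut.conj n).toMonoidHom ≤ WW (P : Subgroup G) E := by
    unfold WW
    rw [map_commutator]
    refine commutator_mono ?_ ?_
    · rintro _ ⟨b, hb, rfl⟩; exact BB_conj hn hb
    · rintro _ ⟨v, hv, rfl⟩; exact h.VV_conj hn hv
  exact h1 ⟨x, hx, rfl⟩

/-- `[E, B] ≤ W` -/
theorem comm_BB_mem {b e : G} (hb : b ∈ BB (P : Subgroup G) E) (he : e ∈ E) :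
    b * e * b⁻¹ * e⁻¹ ∈ WW (P : Subgroup G) E := by
  have h1 : BB (P : Subgroup G) E ≤ actTriv (normalizer (E : Set G)) E
      (WW (P : Subgroup G) E)
      (fun n hn e he => h.E_conj hn he) (fun n hn v hv => h.WW_conj hn hv) := by
    refine (closure_le _).2 ?_
    rintro y ⟨hy, hodd⟩
    refine ⟨h.XX_le_N hy, fun e he => ?_⟩
    set u := y * e * y⁻¹ * e⁻¹ with hu
    have huV : u ∈ VV (P : Subgroup G) E := h.comm_odd_mem hy hodd he
    have h1 : y * e * y⁻¹ = u * e := by rw [hu]; group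
    obtain ⟨m, hm, hme⟩ := pow_mod (M := WW (P : Subgroup G) E) (fun m hm => h.WW_conj (h.XX_le_N hy) hm)
      (fun m hm => h.VV_comm_E huV (h.VV_le_E (h.WW_le_VV hm))) h1
      (commutator_mem_commutator (mem_oddGen hy hodd) huV) (orderOf y)
    rw [pow_orderOf_eq_one] at hme
    have h2 : m * u ^ orderOf y = 1 := by
      have : e = m * u ^ orderOf y * e := by simpa using hme
      exact mul_eq_right.1 this.symm
    have h3 : u ^ orderOf y = u := by
      obtain ⟨k, hk⟩ := hodd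
      rw [hk, pow_succ, pow_mul, pow_two, h.VV_sq huV, one_pow, one_mul]
    rw [h3] at h2
    have h4 : u = m⁻¹ := (inv_eq_of_mul_eq_one_right h2).symm
    rw [h4]; exact inv_mem hm
  exact (h1 hb).2 e he

theorem mem_CE {e : G} : e ∈ CE (P : Subgroup G) E ↔ e ∈ E ∧ ∀ y ∈ XX (P : Subgroup G) E,
    Odd (orderOf y) → y * e * y⁻¹ = e := by
  unfold CE
  rw [mem_inf, mem_centralizer_iff]
  refine and_congr_right fun _ => ?_
  constructor
  · intro h1 y hy hodd
    rw [h1 y (mem_oddGen hy hodd)]; group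
  · intro h1 b hb
    have h2 : BB (P : Subgroup G) E ≤ centralizer ({e} : Set G) := by
      refine (closure_le _).2 ?_
      rintro y ⟨hy, hodd⟩
      rw [SetLike.mem_coe, mem_centralizer_singleton_iff]
      have := h1 y hy hodd
      calc y * e = (y * e * y⁻¹) * y := by group
        _ = e * y := by rw [this]
    exact mem_centralizer_singleton_iff.1 (h2 hb)

theorem CE_conj {n x : G} (hn : n ∈ normalizer (E : Set G)) (hx : x ∈ CE (P : Subgroup G) E) :
    n * x * n⁻¹ ∈ CE (P : Subgroup G) E := by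
  refine mem_inf.2 ⟨h.E_conj hn hx.1, ?_⟩
  rw [mem_centralizer_iff]
  intro b hb
  have h1 : n⁻¹ * b * n ∈ BB (P : Subgroup G) E := by simpa using BB_conj (inv_mem hn) hb
  have h2 := mem_centralizer_iff.1 hx.2 _ h1
  calc b * (n * x * n⁻¹) = n * ((n⁻¹ * b * n) * x) * n⁻¹ := by group
    _ = n * x * n⁻¹ * b := by rw [h2]; group

end Setup

namespace Good

variable [Finite G] {P : Sylow 2 G} {E : Subgroup G} (h : Good P E)
include h

/-- `C_V(B) = U` -/
theorem CE_inf_le : CE (P : Subgroup G) E ⊓ VV (P : Subgroup G) E ≤ UE (P : Subgroup G) E := by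
  by_contra hne
  obtain ⟨y, hy, hodd, v, hv, hyv⟩ := h.exists_odd
  obtain ⟨m, hm, u, hu, rfl⟩ := h.exists_mul_UE (M := CE (P : Subgroup G) E ⊓ VV (P : Subgroup G) E)
    inf_le_right (fun x hx m hm => mem_inf.2 ⟨h.CE_conj (h.XX_le_N hx) hm.1,
      h.VV_conj (h.XX_le_N hx) hm.2⟩) hne hv
  apply hyv
  have h1 := (h.mem_CE.1 hm.1).2 y hy hodd
  have h2 := (h.mem_UE.1 hu).2 y hy
  calc y * (m * u) * y⁻¹ = (y * m * y⁻¹) * (y * u * y⁻¹) := by group
    _ = m * u := by rw [h1, h2]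

theorem UE_le_CE : UE (P : Subgroup G) E ≤ CE (P : Subgroup G) E := fun _ hu =>
  h.mem_CE.2 ⟨h.VV_le_E (h.UE_le_VV hu), fun y hy _ => (h.mem_UE.1 hu).2 y hy⟩

theorem UE_conj {n x : G} (hn : n ∈ normalizer (E : Set G)) (hx : x ∈ UE (P : Subgroup G) E) :
    n * x * n⁻¹ ∈ UE (P : Subgroup G) E :=
  h.CE_inf_le (mem_inf.2 ⟨h.CE_conj hn (h.UE_le_CE hx), h.VV_conj hn (h.UE_le_VV hx)⟩)

end Good

/-! ### Edges -/

/-- adjacency with all its first consequences -/
structure Edge [Finite G] (P : Sylow 2 G) (E F : Subgroup G) : Prop where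
  gi : Good P E
  gj : Good P F
  nij : ¬ VV (P : Subgroup G) E ≤ F
  nji : ¬ VV (P : Subgroup G) F ≤ E
  supi : (P : Subgroup G) ≤ VV (P : Subgroup G) F ⊔ E
  supj : (P : Subgroup G) ≤ VV (P : Subgroup G) E ⊔ F
  rel : F.relIndex (VV (P : Subgroup G) E) = E.relIndex (P : Subgroup G)
  rel' : E.relIndex (VV (P : Subgroup G) F) = F.relIndex (P : Subgroup G)
  q_eq : E.relIndex (P : Subgroup G) = F.relIndex (P : Subgroup G)

section

variable [Finite G] {P : Sylow 2 G} {E F : Subgroup G}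

theorem VV_le_iff (hi : Setup P E) (hj : Setup P F) : VV (P : Subgroup G) E ≤ F ↔
    ∀ v ∈ VV (P : Subgroup G) E, ∀ w ∈ VV (P : Subgroup G) F, v * w = w * v := by
  constructor
  · intro h1 v hv w hw
    exact (hj.VV_comm_E hw (h1 hv)).symm
  · intro h1 v hv
    refine hj.inf_centralizer_le_E (hi.E_le (hi.VV_le_E hv)) ?_
    rw [mem_centralizer_iff]
    intro w hw
    exact (h1 v hv w hw).symm

theorem VV_le_symm (hi : Setup P E) (hj : Setup P F) (h : VV (P : Subgroup G) E ≤ F) :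
    VV (P : Subgroup G) F ≤ E := by
  rw [VV_le_iff hi hj] at h
  rw [VV_le_iff hj hi]
  exact fun w hw v hv => (h v hv w hw).symm

theorem centralizer_relIndex (hi : Setup P E) (hj : Setup P F) :
    (centralizer (VV (P : Subgroup G) F : Set G)).relIndex (VV (P : Subgroup G) E) =
      F.relIndex (VV (P : Subgroup G) E) := by
  rw [← inf_relIndex_right, ← inf_relIndex_right (H := F)]
  congr 1
  ext v
  rw [mem_inf, mem_inf]
  refine and_congr_left fun hv => ?_
  constructor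
  · intro h1; exact hj.inf_centralizer_le_E (hi.E_le (hi.VV_le_E hv)) h1
  · intro h1
    rw [mem_centralizer_iff]
    intro w hw
    exact hj.VV_comm_E hw h1

theorem edge_aux (hi : Setup P E) (hj : Setup P F) (h : ¬ VV (P : Subgroup G) E ≤ F)
    (hle : F.relIndex (VV (P : Subgroup G) E) ≤ E.relIndex (VV (P : Subgroup G) F)) : Edge P E F := by
  have hji : ¬ VV (P : Subgroup G) F ≤ E := fun h1 => h (VV_le_symm hj hi h1)
  have hVi : VV (P : Subgroup G) E ≤ (P : Subgroup G) := hi.VV_le_E.trans hi.E_le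
  have hVj : VV (P : Subgroup G) F ≤ (P : Subgroup G) := hj.VV_le_E.trans hj.E_le
  obtain ⟨a1, a2, a3, a4⟩ := hi.offender hVj hji (by rw [centralizer_relIndex hi hj]; exact hle)
  rw [centralizer_relIndex hi hj] at a3
  obtain ⟨b1, b2, b3, b4⟩ := hj.offender hVi h (by rw [centralizer_relIndex hj hi, a3])
  exact ⟨⟨hi, a1⟩, ⟨hj, b1⟩, h, hji, a2, b2, by rw [a3, a4], by rw [← a3, b4], by rw [← a4, ← a3, b4]⟩

theorem Edge.symm (e : Edge P E F) : Edge P F E where
  gi := e.gj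
  gj := e.gi
  nij := e.nji
  nji := e.nij
  supi := e.supj
  supj := e.supi
  q_eq := e.q_eq.symm
  rel := e.rel'
  rel' := e.rel

theorem edge_of_not_le (hi : Setup P E) (hj : Setup P F) (h : ¬ VV (P : Subgroup G) E ≤ F) :
    Edge P E F := by
  rcases le_total (F.relIndex (VV (P : Subgroup G) E)) (E.relIndex (VV (P : Subgroup G) F)) with h1 | h1
  · exact edge_aux hi hj h h1
  · exact (edge_aux hj hi (fun h2 => h (VV_le_symm hj hi h2)) h1).symm

end

namespace Edge

variable [Finite G] {P : Sylow 2 G} {E F : Subgroup G} (e : Edge P E F)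
include e

theorem Vi_le_P : VV (P : Subgroup G) E ≤ (P : Subgroup G) := e.gi.VV_le_E.trans e.gi.E_le

theorem mem_Om {v : G} (hv : v ∈ VV (P : Subgroup G) E) (hvF : v ∈ F) : v ∈ Om (P : Subgroup G) := by
  obtain ⟨t, ht, htE⟩ := SetLike.not_le_iff_exists.1 e.nji
  refine e.gi.mem_Om_of_fixed (e.symm.Vi_le_P ht) htE hv ?_
  have h1 := e.gj.VV_comm_E ht hvF
  rw [h1]; group

theorem Om_le : Om (P : Subgroup G) ≤ E ⊓ F := by
  intro z hz
  exact ⟨e.gi.VV_le_E (e.gi.Om_le_VV hz), e.gj.VV_le_E (e.gj.Om_le_VV hz)⟩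

theorem exists_mul_E {x : G} (hx : x ∈ E) : ∃ a ∈ E ⊓ F, ∃ v ∈ VV (P : Subgroup G) E, x = a * v := by
  obtain ⟨a, ha, v, hv, rfl⟩ := exists_mul_of_mem_sup (P := F) (K := VV (P : Subgroup G) E)
    (fun p hp k hk => e.gi.VV_conj (e.gi.P_le_N (e.gj.E_le hp)) hk) (e.supj (e.gi.E_le hx))
  refine ⟨a, ⟨?_, ha⟩, v, hv, rfl⟩
  have := mul_mem hx (inv_mem (e.gi.VV_le_E hv))
  simpa using this

theorem exists_mul_P {x : G} (hx : x ∈ (P : Subgroup G)) : ∃ a ∈ E ⊓ F,
    ∃ v ∈ VV (P : Subgroup G) E, ∃ w ∈ VV (P : Subgroup G) F, x = a * v * w := by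
  obtain ⟨b, hb, w, hw, rfl⟩ := exists_mul_of_mem_sup (P := E) (K := VV (P : Subgroup G) F)
    (fun p hp k hk => e.gj.VV_conj (e.gj.P_le_N (e.gi.E_le hp)) hk) (e.supi hx)
  obtain ⟨a, ha, v, hv, rfl⟩ := e.exists_mul_E hb
  exact ⟨a, ha, v, hv, w, hw, rfl⟩

/-- `E = C_E(B) V` and `C_E(B) ≤ F`. -/
theorem CE_main : (∀ x ∈ E, ∃ c ∈ CE (P : Subgroup G) E, ∃ v ∈ VV (P : Subgroup G) E, x = c * v) ∧
    CE (P : Subgroup G) E ≤ F := by
  set q := E.relIndex (P : Subgroup G) with hq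
  have hq2 : 2 ≤ q := e.gi.two_le
  -- the second Sylow subgroup of `L`
  obtain ⟨T', hne⟩ := e.gi.nd.exists_ne' e.gi.Tb
  obtain ⟨g, hg⟩ := MulAction.exists_smul_eq (LL e.gi.toSetup) e.gi.Tb T'
  obtain ⟨n, rfl⟩ := e.gi.rr_surjective g
  subst hg
  set D : Subgroup G := E ⊓ F with hD
  set Dn : Subgroup G := D.map (MulAut.conj (n : G)).toMonoidHom with hDn
  set FF : Subgroup G := D ⊓ Dn with hFF
  have hnN : (n : G) ∈ normalizer (E : Set G) := n.2
  have hDnE : Dn ≤ E := by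
    rintro _ ⟨x, hx, rfl⟩
    exact e.gi.E_conj hnN hx.1
  have hVE := e.gi.VV_le_E
  -- indices
  have hFE : F.relIndex E = q := by
    apply le_antisymm
    · calc F.relIndex E ≤ F.relIndex (P : Subgroup G) :=
            relIndex_le_of_le_right e.gi.E_le index_ne_zero_of_finite
        _ = q := e.q_eq.symm
    · rw [hq, ← e.rel]
      exact relIndex_le_of_le_right hVE index_ne_zero_of_finite
  have hDE : D.relIndex E = q := by rw [hD, inf_comm, inf_relIndex_right, hFE]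
  have hDnE' : Dn.relIndex E = q := by
    have h1 := relIndex_mul_relIndex (⊥ : Subgroup G) D E bot_le inf_le_left
    have h2 := relIndex_mul_relIndex (⊥ : Subgroup G) Dn E bot_le hDnE
    rw [relIndex_bot_left, relIndex_bot_left] at h1 h2
    have h3 : Nat.card Dn = Nat.card D :=
      Nat.card_congr (D.equivMapOfInjective _ (MulAut.conj (n : G)).injective).toEquiv.symm
    rw [h3, ← h1, hDE] at h2
    exact Nat.eq_of_mul_eq_mul_left Nat.card_pos h2
  have hFFE : FF.relIndex E ≤ q * q := by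
    have := relIndex_inf_le (H := D) (K := Dn) (L := E)
    rwa [hDE, hDnE'] at this
  -- intersection with `V`
  have hFV : FF ⊓ VV (P : Subgroup G) E = UE (P : Subgroup G) E := by
    apply le_antisymm
    · rintro v ⟨⟨hv1, hv2⟩, hv⟩
      have hvO : v ∈ Om (P : Subgroup G) := e.mem_Om hv hv1.2
      obtain ⟨w, hw, hwv⟩ := hv2
      have hwv' : w = (n : G)⁻¹ * v * n := by
        rw [← hwv]; simp [mul_assoc]
      have hwO : w ∈ Om (P : Subgroup G) := by
        refine e.mem_Om ?_ hw.2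
        rw [hwv']
        simpa using e.gi.VV_conj (inv_mem hnN) hv
      have h1 : (⟨v, hv⟩ : ↥(VV (P : Subgroup G) E)) ∈ UU (LL e.gi.toSetup) ↥(VV (P : Subgroup G) E) := by
        rw [e.gi.nd.UU_eq hne]
        refine mem_inf.2 ⟨?_, ?_⟩
        · rw [← e.gi.img_P, e.gi.mem_cv_img e.gi.P_le_N]
          intro a ha
          change a * v * a⁻¹ = v
          rw [(Local.mem_Om.1 hvO).2.1 a ha]; group
        · rw [mem_cv_smul_sylow, ← e.gi.img_P, e.gi.mem_cv_img e.gi.P_le_N]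
          intro a ha
          have h2 : (((rr e.gi.toSetup n)⁻¹ • (⟨v, hv⟩ : ↥(VV (P : Subgroup G) E)) :
              ↥(VV (P : Subgroup G) E)) : G) = w := by
            rw [hwv', ← map_inv]
            change (n : G)⁻¹ * v * ((n : G)⁻¹)⁻¹ = _
            group
          rw [h2, (Local.mem_Om.1 hwO).2.1 a ha]; group
      exact e.gi.mem_UU_iff.1 h1
    · intro u hu
      have huD : ∀ u ∈ UE (P : Subgroup G) E, u ∈ D := fun u hu => e.Om_le (e.gi.UE_le_Om hu)
      refine ⟨⟨huD u hu, (n : G)⁻¹ * u * n, ?_, by simp [mul_assoc]⟩, e.gi.UE_le_VV hu⟩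
      have := e.gi.UE_conj (inv_mem hnN) hu
      rw [inv_inv] at this
      exact huD _ this
  have hFVi : FF.relIndex (VV (P : Subgroup G) E) = q * q := by
    rw [← inf_relIndex_right, hFV, e.gi.relIndex_UE]
  -- `E ≤ V ⊔ FF`
  have hsup : VV (P : Subgroup G) E ⊔ FF ≤ E := sup_le hVE (inf_le_left.trans inf_le_left)
  have h1 := relIndex_mul_relIndex FF (VV (P : Subgroup G) E ⊔ FF) E le_sup_right hsup
  have h2 : q * q ≤ FF.relIndex (VV (P : Subgroup G) E ⊔ FF) := by
    rw [← hFVi]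
    exact relIndex_le_of_le_right le_sup_left index_ne_zero_of_finite
  have h3 : (VV (P : Subgroup G) E ⊔ FF).relIndex E ≠ 0 := index_ne_zero_of_finite
  have h4 : (VV (P : Subgroup G) E ⊔ FF).relIndex E = 1 := by
    by_contra hcon
    have h5 : 2 ≤ (VV (P : Subgroup G) E ⊔ FF).relIndex E := by omega
    have h6 : q * q * 2 ≤ FF.relIndex E := by rw [← h1]; exact Nat.mul_le_mul h2 h5
    nlinarith
  have h5 : FF.relIndex E = q * q := by
    apply le_antisymm hFFE
    rw [← h1, h4, mul_one]; exact h2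
  have hEsup : E ≤ VV (P : Subgroup G) E ⊔ FF := relIndex_eq_one.1 h4
  -- `FF ≤ C_E(B)`
  have hFC : FF ≤ CE (P : Subgroup G) E := by
    intro f hf
    refine e.gi.mem_CE.2 ⟨hf.1.1, fun b hb hodd => ?_⟩
    -- `Y = ⟨V_j, V_j^n⟩`
    set Y : Subgroup G := VV (P : Subgroup G) F ⊔
      (VV (P : Subgroup G) F).map (MulAut.conj (n : G)).toMonoidHom with hY
    have hYX : Y ≤ XX (P : Subgroup G) E := by
      refine sup_le (e.symm.Vi_le_P.trans e.gi.P_le_XX) ?_
      rintro _ ⟨v, hv, rfl⟩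
      exact Setup.XX_conj hnN (e.gi.P_le_XX (e.symm.Vi_le_P hv))
    have hYN : Y ≤ normalizer (E : Set G) := hYX.trans e.gi.XX_le_N
    have hYO : OX (LL e.gi.toSetup) ≤ e.gi.img Y := by
      have hT : ((e.gi.Tb : Sylow 2 (LL e.gi.toSetup)) : Subgroup (LL e.gi.toSetup)) ≤
          e.gi.img (VV (P : Subgroup G) F) := by
        intro x hx
        obtain ⟨t, ht, rfl⟩ := e.gi.mem_Tb.1 hx
        obtain ⟨a, ha, v, hv, hav⟩ := exists_mul_of_mem_sup (P := E) (K := VV (P : Subgroup G) F)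
          (fun p hp k hk => e.gj.VV_conj (e.gj.P_le_N (e.gi.E_le hp)) hk) (e.supi ht)
        rw [e.gi.mem_img (e.symm.Vi_le_P.trans e.gi.P_le_N)]
        refine ⟨v, hv, ?_⟩
        rw [eq_comm, Setup.rr_eq_iff]
        change t * v⁻¹ ∈ _
        have : t * v⁻¹ = a := by rw [hav]; group
        rw [this, mem_centralizer_iff]
        intro w hw
        exact e.gi.VV_comm_E hw ha
      rw [e.gi.nd.OX_eq hne]
      refine sup_le (hT.trans (map_mono (comap_mono le_sup_left))) ?_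
      intro x hx
      rw [mem_smul_sylow] at hx
      obtain ⟨v, hv, hvx⟩ := (e.gi.mem_img (e.symm.Vi_le_P.trans e.gi.P_le_N)).1 (hT hx)
      rw [e.gi.mem_img hYN]
      refine ⟨n * v * (n : G)⁻¹, mem_sup_right ⟨v, hv, rfl⟩, ?_⟩
      have : rr e.gi.toSetup (n * ⟨v, (e.symm.Vi_le_P.trans e.gi.P_le_N) hv⟩ * n⁻¹) = x := by
        rw [map_mul, map_mul, map_inv, hvx]; group
      exact this
    have hbO : rr e.gi.toSetup ⟨b, e.gi.XX_le_N hb⟩ ∈ e.gi.img Y := by
      apply hYO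
      rw [← e.gi.img_XX, e.gi.mem_img e.gi.XX_le_N]
      exact ⟨b, hb, rfl⟩
    obtain ⟨y, hy, hyb⟩ := (e.gi.mem_img hYN).1 hbO
    -- `y⁻¹ b ∈ C_X(V)`
    have hk : y⁻¹ * b ∈ XX (P : Subgroup G) E ⊓ centralizer (VV (P : Subgroup G) E : Set G) := by
      refine mem_inf.2 ⟨mul_mem (inv_mem (hYX hy)) hb, ?_⟩
      have h6 : rr e.gi.toSetup ((⟨y, hYN hy⟩)⁻¹ * ⟨b, e.gi.XX_le_N hb⟩) = 1 := by
        rw [map_mul, map_inv, hyb, inv_mul_cancel]
      rw [Setup.rr_eq_one_iff] at h6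
      exact h6
    have hk' := e.gi.K_le_sup hk
    rw [sup_comm] at hk'
    obtain ⟨x, hx, c, hc, hxc⟩ := exists_mul_of_mem_sup (P := E)
      (K := XX (P : Subgroup G) E ⊓ centralizer (E : Set G)) (by
        rintro p hp k ⟨hk1, hk2⟩
        refine mem_inf.2 ⟨Setup.XX_conj (e.gi.P_le_N (e.gi.E_le hp)) hk1, ?_⟩
        have := mem_centralizer_iff.1 hk2 p hp
        rw [this]
        simpa using hk2) hk'
    -- `y` fixes `f`
    have hyf : y * f * y⁻¹ = f := by
      have h6 : Y ≤ centralizer ({f} : Set G) := by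
        refine sup_le ?_ ?_
        · intro v hv
          rw [mem_centralizer_singleton_iff]
          exact e.gj.VV_comm_E hv hf.1.2
        · rintro _ ⟨v, hv, rfl⟩
          obtain ⟨w, hw, hwf⟩ := hf.2
          rw [mem_centralizer_singleton_iff, ← hwf]
          have h7 := e.gj.VV_comm_E hv hw.2
          change n * v * (n : G)⁻¹ * (n * w * (n : G)⁻¹) = n * w * (n : G)⁻¹ * (n * v * (n : G)⁻¹)
          calc n * v * (n : G)⁻¹ * (n * w * (n : G)⁻¹) = n * (v * w) * (n : G)⁻¹ := by group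
            _ = n * w * (n : G)⁻¹ * (n * v * (n : G)⁻¹) := by rw [h7]; group
      have h8 := mem_centralizer_singleton_iff.1 (h6 hy)
      rw [h8]; group
    have hcf : c * f * c⁻¹ = f := by
      have := mem_centralizer_iff.1 hc.2 f hf.1.1
      rw [← this]; group
    have hb' : b = y * (x * c) := by rw [← hxc]; group
    set u := y * (x * f * x⁻¹ * f⁻¹) * y⁻¹ with hu
    have huE : u ∈ E := e.gi.E_conj (hYN hy) (mul_mem (mul_mem (mul_mem hx hf.1.1) (inv_mem hx))
      (inv_mem hf.1.1))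
    have h7 : b * f * b⁻¹ = u * f := by
      calc b * f * b⁻¹ = y * (x * (c * f * c⁻¹) * x⁻¹) * y⁻¹ := by rw [hb']; group
        _ = u * (y * f * y⁻¹) := by rw [hcf, hu]; group
        _ = u * f := by rw [hyf]
    have h8 : b * u * b⁻¹ = u := by
      have h9 := e.gi.comm_fixed hb hodd (e.gi.E_conj (hYN hy) hx) hf.1.1
      have h10 : u = (y * x * y⁻¹) * f * (y * x * y⁻¹)⁻¹ * f⁻¹ := by
        calc u = (y * x * y⁻¹) * (y * f * y⁻¹) * (y * x * y⁻¹)⁻¹ * (y * f * y⁻¹)⁻¹ := by rw [hu]; group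
          _ = _ := by rw [hyf]
      rw [h10]; exact h9
    have h11 := eq_of_odd_of_fixed e.gi.isPGroup_E huE hodd h7 h8
    rw [h7, h11, one_mul]
  -- equality by counting
  have h6 : q * q ≤ (CE (P : Subgroup G) E).relIndex E := by
    calc q * q = (UE (P : Subgroup G) E).relIndex (VV (P : Subgroup G) E) := e.gi.relIndex_UE.symm
      _ ≤ (CE (P : Subgroup G) E ⊓ VV (P : Subgroup G) E).relIndex (VV (P : Subgroup G) E) :=
          relIndex_le_of_le_left e.gi.CE_inf_le index_ne_zero_of_finite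
      _ = (CE (P : Subgroup G) E).relIndex (VV (P : Subgroup G) E) := inf_relIndex_right _ _
      _ ≤ _ := relIndex_le_of_le_right hVE index_ne_zero_of_finite
  have h7 := relIndex_mul_relIndex FF (CE (P : Subgroup G) E) E hFC inf_le_left
  rw [h5] at h7
  have h8 : FF.relIndex (CE (P : Subgroup G) E) = 1 := by
    have h9 : FF.relIndex (CE (P : Subgroup G) E) ≠ 0 := index_ne_zero_of_finite
    by_contra hcon
    have h10 : 2 ≤ FF.relIndex (CE (P : Subgroup G) E) := by omega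
    have h11 : 2 * (q * q) ≤ q * q := by rw [← h7]; exact Nat.mul_le_mul h10 (h7 ▸ h6)
    nlinarith
  have h9 : CE (P : Subgroup G) E ≤ FF := relIndex_eq_one.1 h8
  refine ⟨fun x hx => ?_, fun x hx => (h9 hx).1.2⟩
  obtain ⟨f, hf, v, hv, rfl⟩ := exists_mul_of_mem_sup (P := FF) (K := VV (P : Subgroup G) E)
    (fun p hp k hk => e.gi.VV_conj (e.gi.P_le_N (e.gi.E_le hp.1.1)) hk) (hEsup hx)
  exact ⟨f, hFC hf, v, hv, rfl⟩

/-- `E ∩ F = C_E(B) Ω`. -/
theorem exists_mul_inf {x : G} (hx : x ∈ E) (hxF : x ∈ F) :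
    ∃ c ∈ CE (P : Subgroup G) E, ∃ z ∈ Om (P : Subgroup G), x = c * z := by
  obtain ⟨c, hc, v, hv, rfl⟩ := e.CE_main.1 x hx
  refine ⟨c, hc, v, e.mem_Om hv ?_, rfl⟩
  have := mul_mem (inv_mem (e.CE_main.2 hc)) hxF
  simpa using this

theorem CE_mul_Om_mem {c z : G} (hc : c ∈ CE (P : Subgroup G) E) (hz : z ∈ Om (P : Subgroup G)) :
    c * z ∈ E ⊓ F :=
  mul_mem (mem_inf.2 ⟨hc.1, e.CE_main.2 hc⟩) (e.Om_le hz)

end Edge

/-- neighbours are unique -/
theorem Edge.unique_aux [Finite G] {P : Sylow 2 G} {E F F' : Subgroup G} (e : Edge P E F)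
    (e' : Edge P E F') : VV (P : Subgroup G) F' ≤ F := by
  -- `E ∩ F' ≤ E ∩ F`
  have hD : ∀ x ∈ E, x ∈ F' → x ∈ F := by
    intro x hx hx'
    obtain ⟨c, hc, z, hz, rfl⟩ := e'.exists_mul_inf hx hx'
    exact (e.CE_mul_Om_mem hc hz).2
  have key : ∀ w' ∈ VV (P : Subgroup G) F', w' ∈ E ∨ w' ∈ F := by
    intro w' hw'
    obtain ⟨x, hx, v, hv, w, hw, hxvw⟩ := e.exists_mul_P (e'.symm.Vi_le_P hw')
    by_cases hwE : w ∈ E
    · left
      rw [hxvw]
      exact mul_mem (mul_mem hx.1 (e.gi.VV_le_E hv)) hwE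
    · right
      obtain ⟨c, hc, z, hz, rfl⟩ := e.exists_mul_inf hx.1 hx.2
      have hxv : (c * z) * v = v * (c * z) := (e.gi.VV_comm_E hv hx.1).symm
      have hxw : (c * z) * w = w * (c * z) := (e.gj.VV_comm_E hw hx.2).symm
      have hcz : c * z = z * c := (Local.mem_Om.1 hz).2.1 c (e.gi.E_le hc.1)
      have hz2 := (Local.mem_Om.1 hz).2.2
      have hv2 := e.gi.VV_sq hv
      have hw2 := e.gj.VV_sq hw
      have hvi : v⁻¹ = v := inv_eq_of_mul_eq_one_right hv2
      have hwi : w⁻¹ = w := inv_eq_of_mul_eq_one_right hw2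
      have h1 : (c * z * v * w) * (c * z * v * w) = 1 := by
        rw [← hxvw]; exact e'.gj.VV_sq hw'
      have h2 : (c * z) * (c * z) = c * c := by
        calc (c * z) * (c * z) = c * (z * c) * z := by group
          _ = c * c * (z * z) := by rw [← hcz]; group
          _ = c * c := by rw [hz2, mul_one]
      have h3 : (c * z * v * w) * (c * z * v * w) = (c * c) * (v * w * v * w) := by
        have cx : Commute (c * z) (v * w) :=
          (show Commute (c * z) v from hxv).mul_right (show Commute (c * z) w from hxw)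
        calc (c * z * v * w) * (c * z * v * w) = (c * z) * ((v * w) * (c * z)) * (v * w) := by group
          _ = (c * z) * ((c * z) * (v * w)) * (v * w) := by rw [cx.eq]
          _ = ((c * z) * (c * z)) * (v * w * v * w) := by group
          _ = _ := by rw [h2]
      rw [h3] at h1
      have h4 : w * v * w⁻¹ * v⁻¹ = c * c := by
        have h5 : v * w * v * w = (c * c)⁻¹ := (inv_eq_of_mul_eq_one_right h1).symm
        calc w * v * w⁻¹ * v⁻¹ = (v * w * v⁻¹ * w⁻¹)⁻¹ := by group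
          _ = (v * w * v * w)⁻¹ := by rw [hvi, hwi]
          _ = c * c := by rw [h5, inv_inv]
      have h5 : w * v * w⁻¹ * v⁻¹ ∈ UE (P : Subgroup G) E := by
        refine e.gi.CE_inf_le (mem_inf.2 ⟨?_, ?_⟩)
        · rw [h4]; exact mul_mem hc hc
        · exact mul_mem (e.gi.VV_conj (e.gi.P_le_N (e.symm.Vi_le_P hw)) hv) (inv_mem hv)
      have h6 := e.gi.mem_Om_of_comm_mem_UE (e.symm.Vi_le_P hw) hwE hv h5
      rw [hxvw]
      exact mul_mem (mul_mem hx.2 (e.Om_le h6).2) (e.gj.VV_le_E hw)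
  obtain ⟨a, ha, haE⟩ := SetLike.not_le_iff_exists.1 e'.nji
  intro b hb
  by_contra hbF
  have hbE : b ∈ E := (key b hb).resolve_right hbF
  have haF : a ∈ F := (key a ha).resolve_left haE
  rcases key (a * b) (mul_mem ha hb) with h1 | h1
  · apply haE
    have := mul_mem h1 (inv_mem hbE)
    simpa using this
  · apply hbF
    have := mul_mem (inv_mem haF) h1
    simpa using this

theorem Edge.unique_le [Finite G] {P : Sylow 2 G} {E F F' : Subgroup G} (e : Edge P E F)
    (e' : Edge P E F') : F' ≤ F := by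
  intro x hx
  obtain ⟨a, ha, v, hv, rfl⟩ := e'.symm.exists_mul_E hx
  refine mul_mem ?_ (e.unique_aux e' hv)
  obtain ⟨c, hc, z, hz, rfl⟩ := e'.exists_mul_inf ha.2 ha.1
  exact (e.CE_mul_Om_mem hc hz).2

/-- **neighbours are unique** -/
theorem Edge.unique [Finite G] {P : Sylow 2 G} {E F F' : Subgroup G} (e : Edge P E F)
    (e' : Edge P E F') : F' = F := le_antisymm (e.unique_le e') (e'.unique_le e)

end Cfsg.Agent.ClassTwoFusion.Local
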