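import Cfsg.Agent.ClassTwoFusion.Assembly
import Cfsg.Agent.ClassTwoFusion.Dihedral8
import Cfsg.Agent.ClassTwo.EdgeMain
import Cfsg.Agent.TypeL3.Main
import Cfsg.Agent.TypeSpFour.Main

/-!
# The end of S1170: the Sylow 2-subgroup is one edge
-/

set_option autoImplicit false
set_option linter.style.haveILetI false

namespace Cfsg.Agent.ClassTwoFusion.EndGame

open Subgroup
open scoped commutatorElement
open Cfsg.Agent.TwoFusion.ClosedFam
open Cfsg.Agent.ClassTwoFusion.RelAlperin Cfsg.Agent.ClassTwoFusion.OneEdge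
open Cfsg.Agent.ClassTwoFusion.Assembly

universe u

/-- A simple group whose Sylow 2-subgroup is one edge is in the list of S1170. -/
theorem concl_of_edge (h1169 : TypeL3.H1169.{u}) (h1171 : TypeL3.H1171.{u}) (h1296 : TypeL3.H1296.{u})
    (hGW : Dihedral8.GW.{u}) {G : Type u} [Group G] [Finite G] [IsSimpleGroup G] (hG : ∃ a b : G, a * b ≠ b * a)
    (S : Sylow 2 G) {𝒜 : Set G} (h𝒜 : IsClosedFam 𝒜) {F : Type} [Field F] [Fintype F] [CharP F 2]
    {E₁ E₂ : Subgroup G} (h : FullEdge F 𝒜 (S : Subgroup G) E₁ E₂) : Concl G := by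
  obtain ⟨n, -, hn⟩ := FiniteField.card F 2
  have hn0 : 0 < (n : ℕ) := n.2
  rcases Nat.lt_or_ge (n : ℕ) 2 with h1 | h1
  · -- `q = 2`
    have hn1 : (n : ℕ) = 1 := by omega
    have hF : Nat.card F = 2 := by rw [Nat.card_eq_fintype_card, hn, hn1, pow_one]
    have hperf : Group.IsPerfect G := by
      obtain ⟨a, b, hab⟩ := hG
      constructor
      rcases (inferInstance : (commutator G).Normal).eq_bot_or_eq_top with h2 | h2
      · exfalso
        apply hab
        have h3 : ⁅a, b⁆ ∈ commutator G := by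
          rw [_root_.commutator_def]
          exact commutator_mem_commutator (mem_top a) (mem_top b)
        rw [h2, mem_bot, commutatorElement_eq_one_iff_mul_comm] at h3
        exact h3
      · exact h2
    have hd := Dihedral8.sylow_dihedral hperf S h𝒜 hF h.toOneEdge h.nor₁ h.nor₂
    rcases Dihedral8.of_dihedral hGW S hd with h2 | h2
    · exact Or.inl h2
    · exact Or.inr (Or.inr (Or.inr (Or.inr (Or.inr h2))))
  · have hq : 4 ≤ Nat.card F := by
      rw [Nat.card_eq_fintype_card, hn]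
      calc 4 = 2 ^ 2 := by norm_num
        _ ≤ 2 ^ (n : ℕ) := Nat.pow_le_pow_right (by norm_num) h1
    rcases (Cfsg.Agent.ClassTwo.EdgeMain.coord hq h𝒜 S h.toOneEdge h.nor₁ h.nor₂).2 with ⟨⟨e⟩⟩ | ⟨x, y, c, d, hc⟩
    · refine Or.inr (Or.inr (Or.inr (Or.inl ⟨F, inferInstance, inferInstance, inferInstance, ?_⟩)))
      obtain ⟨A, B, x, y, z, h2, hc⟩ := TypeL3.exists_isL3 e
      exact TypeL3.Back.nonempty_psl hc (h2.local_data h1169 h1171 h1296 (by rwa [Nat.card_eq_fintype_card] at hq))
        Nat.card_eq_fintype_card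
    · refine Or.inr (Or.inr (Or.inr (Or.inr (Or.inl ⟨F, inferInstance, inferInstance, inferInstance, ?_, ?_⟩))))
      · rwa [Nat.card_eq_fintype_card] at hq
      · exact TypeSpFour.Main.nonempty_psp_of_halfC2 h1169 h1171 h1296 hq hc

end Cfsg.Agent.ClassTwoFusion.EndGame
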