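import Cfsg.Agent.ClassTwoFusion.CentTorus

/-!
# `S = A`

`A = fam 𝒜 S` is a strongly closed subgroup with one edge, `S = A C_S(A)`.  If `G` is simple, then `S = A`.
-/

set_option autoImplicit false
set_option linter.style.haveILetI false

namespace Cfsg.Agent.ClassTwoFusion.PartTwo

universe u

open Subgroup
open scoped commutatorElement Pointwise
open Cfsg.Agent.Lib.GoldschmidtFusion
open Cfsg.Agent.TwoFusion.ClosedFam
open Cfsg.Agent.ClassTwoFusion.RelAlperin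
open Cfsg.Agent.ClassTwoFusion.OneEdge
open Cfsg.Agent.ClassTwoFusion.CentLocal
open Cfsg.Agent.ClassTwoFusion.CentSide
open Cfsg.Agent.ClassTwoFusion.CentStar
open Cfsg.Agent.ClassTwoFusion.CentA
open Cfsg.Agent.ClassTwo.Sp4Defs

section Simple

variable {G : Type u} [Group G] [Finite G] [IsSimpleGroup G] (hG : ∃ a b : G, a * b ≠ b * a) (S : Sylow 2 G)
include hG

/-- In a non-abelian simple group one of two disjoint strongly closed subgroups is trivial. -/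
theorem eq_bot_of_inf {A B : Subgroup G} (hAS : A ≤ S) (hA : A ≠ ⊥)
    (h1171 : ⁅normalClosure (A : Set G), normalClosure (B : Set G)⁆ ≤ Cfsg.oddCore G) : B = ⊥ := by
  by_contra hB
  have hN : ∀ K : Subgroup G, K ≠ ⊥ → normalClosure (K : Set G) = ⊤ := by
    intro K hK
    rcases (normalClosure_normal (s := (K : Set G))).eq_bot_or_eq_top with h1 | h1
    · exact absurd (le_bot_iff.1 (h1 ▸ le_normalClosure)) hK
    · exact h1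
  rw [hN A hA, hN B hB] at h1171
  have hOn : (Cfsg.oddCore G).Normal := by
    haveI := Cfsg.Agent.Lib.Cores.pPrimeCore_characteristic (G := G) 2
    unfold Cfsg.oddCore
    infer_instance
  rcases hOn.eq_bot_or_eq_top with h1 | h1
  · obtain ⟨a, b, hab⟩ := hG
    apply hab
    have h2 : ⁅a, b⁆ ∈ Cfsg.oddCore G := h1171 (commutator_mem_commutator (mem_top a) (mem_top b))
    rw [h1, mem_bot, commutatorElement_eq_one_iff_mul_comm] at h2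
    exact h2
  · have h2 : Odd (Nat.card G) := by
      have h3 : Nat.Coprime (Nat.card (Cfsg.pPrimeCore 2 G)) 2 := Cfsg.Agent.Lib.Cores.pPrimeCore_coprime 2
      have h4 : Cfsg.pPrimeCore 2 G = ⊤ := h1
      rw [h4, Nat.card_congr (Subgroup.topEquiv (G := G)).toEquiv] at h3
      rwa [← Nat.coprime_two_right]
    obtain ⟨x, hx⟩ := (A.nontrivial_iff_exists_ne_one.1 ((A.nontrivial_iff_ne_bot).2 hA))
    obtain ⟨k, hk⟩ := exists_pow_of_mem S.2 (hAS hx.1)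
    have h3 : orderOf x ∣ Nat.gcd (2 ^ k) (Nat.card G) :=
      Nat.dvd_gcd (orderOf_dvd_of_pow_eq_one hk) (orderOf_dvd_natCard x)
    have h4 : Nat.gcd (2 ^ k) (Nat.card G) = 1 := Nat.Coprime.pow_left k (Nat.coprime_two_left.2 h2)
    rw [h4, Nat.dvd_one, orderOf_eq_one_iff] at h3
    exact hx.2 h3

end Simple

section Facts

variable {G : Type u} [Group G] [Finite G] {F : Type*} [Field F] {𝒜 : Set G} (h : IsClosedFam 𝒜) (S : Sylow 2 G)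
  {E₁ E₂ : Subgroup G} (D : OneEdge F 𝒜 (fam 𝒜 (S : Subgroup G)) E₁ E₂)
  (norm₁ : fam 𝒜 (S : Subgroup G) ≤ normalizer (E₁ : Set G))
  (norm₂ : fam 𝒜 (S : Subgroup G) ≤ normalizer (E₂ : Set G))
  (hN₁ : normalizer (fam 𝒜 (S : Subgroup G) : Set G) ≤ normalizer (E₁ : Set G))
  (hN₂ : normalizer (fam 𝒜 (S : Subgroup G) : Set G) ≤ normalizer (E₂ : Set G))
  (hS : ∀ s ∈ (S : Subgroup G), ∃ a ∈ fam 𝒜 (S : Subgroup G), ∃ c ∈ centralizer (fam 𝒜 (S : Subgroup G) : Set G),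
    s = a * c)

/-- `T = S ∩ J`. -/
abbrev T (𝒜 : Set G) (S : Sylow 2 G) (E : Subgroup G) : Subgroup G := (S : Subgroup G) ⊓ J 𝒜 E

/-- `C = C_S(A)`. -/
abbrev C (𝒜 : Set G) (S : Sylow 2 G) : Subgroup G :=
  (S : Subgroup G) ⊓ centralizer (fam 𝒜 (S : Subgroup G) : Set G)

include h D norm₁ norm₂ in
theorem T_le_C : T 𝒜 S E₁ ≤ C 𝒜 S := fun _ ht =>
  ⟨ht.1, mem_centralizer_of_mem_J h S (CentAMain.side₁ D norm₁ norm₂) ht.1 ht.2⟩

include D in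
theorem Z_le_C : E₁ ⊓ E₂ ≤ C 𝒜 S := fun _ hz =>
  ⟨fam_le 𝒜 _ (CentAMain.le₁ D hz.1), CentAMain.inf_le_centralizer D hz⟩

include h D norm₁ norm₂ hN₁ hS in
theorem exists_mul_T {c : G} (hc : c ∈ C 𝒜 S) : ∃ z ∈ E₁ ⊓ E₂, ∃ t ∈ T 𝒜 S E₁, c = z * t := by
  obtain ⟨z, hz, hzA, t, ht, htJ, rfl⟩ := exists_mul_cent h S (CentAMain.side₁ D norm₁ norm₂)
    ((h.le_normalizer_fam _).trans hN₁) hS hc.1 hc.2
  refine ⟨z, ?_, t, ⟨ht, htJ⟩, rfl⟩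
  have : z ∈ E₁ ⊓ centralizer (fam 𝒜 (S : Subgroup G) : Set G) := ⟨hz, hzA⟩
  rwa [CentAMain.inf_centralizer D] at this

include h D norm₁ norm₂ in
theorem mem_centralizer_XG {z : G} (hz : z ∈ E₁) (hzJ : z ∈ J 𝒜 E₁) : z ∈ centralizer (XG 𝒜 E₁ : Set G) := by
  rw [mem_centralizer_iff]
  intro x hx
  have h1 := hzJ.2 x hx
  have h2 : ⁅z, x⁆ = 1 := by
    refine eq_one_of_mem_core (S := E₁) (D.syl.two.to_le (CentAMain.le₁ D)) ?_ h1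
    have h3 := (mem_normalizer_iff.1 (fam_le 𝒜 _ hx : x ∈ normalizer (E₁ : Set G)) z⁻¹).1 (inv_mem hz)
    have e : ⁅z, x⁆ = z * (x * z⁻¹ * x⁻¹) := by rw [commutatorElement_def]; group
    rw [e]
    exact E₁.mul_mem hz h3
  exact (commutatorElement_eq_one_iff_mul_comm.1 h2).symm

include D in
theorem mem_T_of_centralizer {z : G} (hz : z ∈ E₁) (hzX : z ∈ centralizer (XG 𝒜 E₁ : Set G)) : z ∈ T 𝒜 S E₁ := by
  refine ⟨fam_le 𝒜 _ (CentAMain.le₁ D hz), ?_, fun x hx => ?_⟩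
  · rw [mem_centralizer_iff]
    intro y hy
    exact CentAMain.comm_of_sq D.sq₁ hy hz
  · have h1 : ⁅z, x⁆ = 1 :=
      commutatorElement_eq_one_iff_mul_comm.2 ((mem_centralizer_iff.1 hzX) x hx).symm
    rw [h1]
    exact one_mem _

include h D norm₁ norm₂ in
/-- A torus element fixes no element of `Z / C₁`. -/
theorem mem_T_of_torus [Finite F] [CharP F 2] (hq : 4 ≤ Nat.card F)
    (φ : ↥(XG 𝒜 E₁) →* Matrix.SpecialLinearGroup (Fin 2) F) (hsurj : Function.Surjective φ)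
    (hker : ∀ x, φ x = 1 ↔ (x : G) ∈ centralizer (E₁ : Set G))
    (hup : ∀ x : ↥(XG 𝒜 E₁), (x : G) ∈ fam 𝒜 (S : Subgroup G) → ∃ a : F, φ x = u a) {l : Fˣ} (hl : l ≠ 1)
    {g : G} (hg : g ∈ XG 𝒜 E₁) {t : F} (hφ : φ ⟨g, hg⟩ = u t * d l) {z : G} (hz : z ∈ E₁ ⊓ E₂)
    (hgz : g * z * g⁻¹ = z) : z ∈ T 𝒜 S E₁ := by
  let W : Cfsg.Agent.ClassTwo.EdgeSide.Side F G :=
    { V := E₁
      V' := E₂
      X := XG 𝒜 E₁
      φ := φ
      surj := hsurj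
      ker := hker
      V_le := (CentAMain.le₁ D).trans (CentAMain.side₁ D norm₁ norm₂).le_XG
      V'_le := (CentAMain.le₂ D).trans (CentAMain.side₁ D norm₁ norm₂).le_XG
      X_le := fam_le 𝒜 _
      sq := D.sq₁
      sq' := D.sq₂
      card := D.card₁
      card' := D.card₂
      cardZ := D.cardC₁
      cent := fun x hx hc => D.cent₁ ⟨hc, CentAMain.le₂ D hx⟩
      cent' := fun x hx hc => D.cent₂ ⟨hc, CentAMain.le₁ D hx⟩
      hU := fun x hx => hup _ (CentAMain.le₂ D hx)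
      nrm' := fun v hv x hx => (mem_normalizer_iff.1 (norm₂ (CentAMain.le₁ D hv)) x).1 hx }
  obtain ⟨c⟩ := W.nonempty_crd hq
  have hzV : z ∈ W.V := hz.1
  have h1 : c.e ⟨z, hzV⟩ 1 = 0 := c.snd_eq_zero hzV hz.2
  have h2 := c.conj (x := g) (v := z) hg hzV (by rw [hgz]; exact hzV)
  have h3 : W.φ ⟨g, hg⟩ = u t * d l := hφ
  rw [h3, Matrix.SpecialLinearGroup.coe_mul, ← Matrix.mulVec_mulVec,
    Cfsg.Agent.ClassTwo.EdgeSide.Side.d_mulVec, Cfsg.Agent.ClassTwo.EdgeSide.Side.u_mulVec] at h2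
  simp only [hgz] at h2
  have h4 := congrFun h2 0
  simp only [Matrix.cons_val_zero, Matrix.cons_val_one, h1, mul_zero, add_zero] at h4
  have h5 : c.e ⟨z, hzV⟩ 0 = 0 := by
    by_contra hne
    apply hl
    have h6 : (l : F) * c.e ⟨z, hzV⟩ 0 = 1 * c.e ⟨z, hzV⟩ 0 := by rw [← h4, one_mul]
    exact Units.ext (mul_right_cancel₀ hne h6)
  have h6 : c.e ⟨z, hzV⟩ = 0 := by
    ext i
    fin_cases i
    · exact h5
    · exact h1
  have h7 : z ∈ W.Z := (c.eq_zero _).1 h6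
  exact mem_T_of_centralizer S D hz.1 h7.2

include D in
theorem Z_comm {z c : G} (hz : z ∈ E₁ ⊓ E₂) (hc : c ∈ C 𝒜 S) : z * c = c * z :=
  (mem_centralizer_iff.1 hc.2) z (CentAMain.le₁ D hz.1)

include h D norm₁ norm₂ hN₁ hS in
theorem comm_mem_T {c c' : G} (hc : c ∈ C 𝒜 S) (hc' : c' ∈ C 𝒜 S) : ⁅c, c'⁆ ∈ T 𝒜 S E₁ := by
  obtain ⟨z, hz, t, ht, rfl⟩ := exists_mul_T h S D norm₁ norm₂ hN₁ hS hc
  obtain ⟨z', hz', t', ht', rfl⟩ := exists_mul_T h S D norm₁ norm₂ hN₁ hS hc'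
  have htC := T_le_C h S D norm₁ norm₂ ht
  have htC' := T_le_C h S D norm₁ norm₂ ht'
  have c1 : Commute z t := Z_comm S D hz htC
  have c2 : Commute z t' := Z_comm S D hz htC'
  have c3 : Commute z' t := Z_comm S D hz' htC
  have c4 : Commute z' t' := Z_comm S D hz' htC'
  have c5 : Commute z z' := Z_comm S D hz (Z_le_C S D hz')
  have e : ⁅z * t, z' * t'⁆ = ⁅t, t'⁆ := by
    have e1 : ⁅z * t, z' * t'⁆ = z * (t * z' * t' * t⁻¹) * z⁻¹ * t'⁻¹ * z'⁻¹ := by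
      rw [commutatorElement_def]; group
    have c6 : Commute z (t * z' * t' * t⁻¹) := ((c1.mul_right c5).mul_right c2).mul_right c1.inv_right
    have c7 : Commute z' (t * t' * t⁻¹ * t'⁻¹) := ((c3.mul_right c4).mul_right c3.inv_right).mul_right c4.inv_right
    rw [e1, c6.eq]
    have e2 : t * z' = z' * t := c3.eq.symm
    calc t * z' * t' * t⁻¹ * z * z⁻¹ * t'⁻¹ * z'⁻¹ = (t * z') * t' * t⁻¹ * t'⁻¹ * z'⁻¹ := by group
      _ = z' * (t * t' * t⁻¹ * t'⁻¹) * z'⁻¹ := by rw [e2]; group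
      _ = ⁅t, t'⁆ := by rw [c7.eq, commutatorElement_def]; group
  rw [e, commutatorElement_def]
  exact mul_mem (mul_mem (mul_mem ht ht') (inv_mem ht)) (inv_mem ht')

include h D norm₁ norm₂ hN₁ hS in
theorem le_of_T_le (hT : T 𝒜 S E₁ ≤ E₁ ⊓ E₂) : fam 𝒜 (S : Subgroup G) = S := by
  refine le_antisymm (fam_le 𝒜 _) ?_
  intro s hs
  obtain ⟨a, ha, c, hc, rfl⟩ := hS s hs
  have hcS : c ∈ (S : Subgroup G) := by
    have e : c = a⁻¹ * (a * c) := by group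
    rw [e]
    exact mul_mem (inv_mem (fam_le 𝒜 _ ha)) hs
  obtain ⟨z, hz, t, ht, rfl⟩ := exists_mul_T h S D norm₁ norm₂ hN₁ hS ⟨hcS, hc⟩
  exact mul_mem ha (mul_mem (CentAMain.le₁ D hz.1) (CentAMain.le₁ D (hT ht).1))

include h D norm₁ norm₂ hN₁ hN₂ hS in
/-- The case `|F| ≥ 4`. -/
theorem T_le_of_torus [Finite F] [CharP F 2] (hq : 4 ≤ Nat.card F) (hdisj : T 𝒜 S E₁ ⊓ T 𝒜 S E₂ = ⊥) :
    T 𝒜 S E₂ ≤ E₁ ⊓ E₂ := by
  have D₁ := CentAMain.side₁ D norm₁ norm₂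
  have hSE : (S : Subgroup G) ≤ normalizer (E₁ : Set G) := (h.le_normalizer_fam _).trans hN₁
  obtain ⟨φ, hsurj, hker, hup, -⟩ := D₁.exists_hom
  obtain ⟨l, hl⟩ : ∃ l : Fˣ, l ≠ 1 := by
    have h1 : 1 < Nat.card Fˣ := by
      rw [Nat.card_units]; omega
    haveI : Nontrivial Fˣ := Finite.one_lt_card_iff_nontrivial.1 h1
    exact exists_ne 1
  obtain ⟨g, hg, hgA, hgC, t, hφ⟩ := CentTorus.exists_torus h S D₁ hSE φ hsurj hker hup l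
  have hCg : ∀ c ∈ C 𝒜 S, g * c * g⁻¹ ∈ C 𝒜 S := fun c hc => (mem_normalizer_iff.1 hgC c).1 hc
  -- `g` centralizes `T₁`
  have hT₁ : ∀ t ∈ T 𝒜 S E₁, g * t * g⁻¹ = t := by
    intro t ht
    have htC := T_le_C h S D norm₁ norm₂ ht
    have h1 := ht.2.2 g hg
    have h2 : ⁅t, g⁆ = 1 := by
      refine eq_one_of_mem_core S.2 ?_ h1
      have e : ⁅t, g⁆ = t * (g * t⁻¹ * g⁻¹) := by rw [commutatorElement_def]; group
      rw [e]
      exact mul_mem ht.1 (hCg _ (inv_mem htC)).1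
    have h3 := commutatorElement_eq_one_iff_mul_comm.1 h2
    rw [← h3]; group
  -- fixed points on `T₂`
  have hfix : ∀ c ∈ T 𝒜 S E₂, g * c * g⁻¹ = c → c = 1 := by
    intro c hc hgc
    have hcC := T_le_C h S (CentAMain.symm D) norm₂ norm₁ hc
    obtain ⟨z, hz, t₁, ht₁, rfl⟩ := exists_mul_T h S D norm₁ norm₂ hN₁ hS hcC
    have h1 : g * z * g⁻¹ = z := by
      have h2 : g * (z * t₁) * g⁻¹ = (g * z * g⁻¹) * (g * t₁ * g⁻¹) := by group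
      rw [h2, hT₁ t₁ ht₁] at hgc
      exact mul_right_cancel hgc
    have h2 := mem_T_of_torus h S D norm₁ norm₂ hq φ hsurj hker hup hl hg hφ hz h1
    have h3 : z * t₁ ∈ T 𝒜 S E₁ ⊓ T 𝒜 S E₂ := mem_inf.2 ⟨mul_mem h2 ht₁, hc⟩
    rw [hdisj, mem_bot] at h3
    exact h3
  -- the map `c ↦ g c g⁻¹ c⁻¹`
  have hgE₁ : g ∈ normalizer (E₁ : Set G) := hN₁ hgA
  have hgE₂ : g ∈ normalizer (E₂ : Set G) := hN₂ hgA
  have himg : ∀ c ∈ T 𝒜 S E₂, g * c * g⁻¹ * c⁻¹ ∈ T 𝒜 S E₂ ⊓ (E₁ ⊓ E₂) := by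
    intro c hc
    have hcC := T_le_C h S (CentAMain.symm D) norm₂ norm₁ hc
    refine mem_inf.2 ⟨mul_mem ⟨(hCg c hcC).1, ?_⟩ (inv_mem hc), ?_⟩
    · exact (mem_normalizer_iff.1 (normalizer_le_J h E₂ hgE₂) c).1 hc.2
    · obtain ⟨z, hz, t₁, ht₁, rfl⟩ := exists_mul_T h S D norm₁ norm₂ hN₁ hS hcC
      have e : g * (z * t₁) * g⁻¹ * (z * t₁)⁻¹ = (g * z * g⁻¹) * (g * t₁ * g⁻¹) * t₁⁻¹ * z⁻¹ := by group
      rw [e, hT₁ t₁ ht₁]
      have e2 : g * z * g⁻¹ * t₁ * t₁⁻¹ * z⁻¹ = g * z * g⁻¹ * z⁻¹ := by group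
      rw [e2]
      exact mul_mem ⟨(mem_normalizer_iff.1 hgE₁ z).1 hz.1, (mem_normalizer_iff.1 hgE₂ z).1 hz.2⟩ (inv_mem hz)
  let f : ↥(T 𝒜 S E₂) → ↥(T 𝒜 S E₂ ⊓ (E₁ ⊓ E₂)) := fun c => ⟨g * c * g⁻¹ * (c : G)⁻¹, himg c c.2⟩
  have hinj : Function.Injective f := by
    intro c c' hcc
    have h1 : g * c * g⁻¹ * (c : G)⁻¹ = g * c' * g⁻¹ * (c' : G)⁻¹ := congrArg Subtype.val hcc
    have hcC := T_le_C h S (CentAMain.symm D) norm₂ norm₁ c.2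
    have hcC' := T_le_C h S (CentAMain.symm D) norm₂ norm₁ c'.2
    have h2 : g * ((c : G)⁻¹ * c') * g⁻¹ = (c : G)⁻¹ * c' := by
      have e1 : g * (c : G) * g⁻¹ = (g * c' * g⁻¹ * (c' : G)⁻¹) * c := by rw [← h1]; group
      have e2 : g * ((c : G)⁻¹ * c') * g⁻¹ = (g * (c : G) * g⁻¹)⁻¹ * (g * c' * g⁻¹) := by group
      rw [e2, e1]
      group
    have h3 := hfix _ (mul_mem (inv_mem c.2) c'.2) h2
    exact Subtype.ext (inv_mul_eq_one.1 h3)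
  have hcard := Nat.card_le_card_of_injective f hinj
  have heq : T 𝒜 S E₂ ⊓ (E₁ ⊓ E₂) = T 𝒜 S E₂ := Subgroup.eq_of_le_of_card_ge inf_le_left hcard
  rw [← heq]
  exact inf_le_right

include h D norm₁ norm₂ hN₁ hN₂ hS in
/-- The case `|F| = 2`: `|T₁| ≤ 2`. -/
theorem eq_of_mem_T (hq : Nat.card F = 2) (hdisj : T 𝒜 S E₁ ⊓ T 𝒜 S E₂ = ⊥) {t t' : G} (ht : t ∈ T 𝒜 S E₁)
    (ht' : t' ∈ T 𝒜 S E₁) (h1 : t ≠ 1) (h1' : t' ≠ 1) : t = t' := by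
  have htC := T_le_C h S D norm₁ norm₂ ht
  have htC' := T_le_C h S D norm₁ norm₂ ht'
  obtain ⟨z, hz, s, hs, rfl⟩ := exists_mul_T h S (CentAMain.symm D) norm₂ norm₁ hN₂ hS htC
  obtain ⟨z', hz', s', hs', rfl⟩ := exists_mul_T h S (CentAMain.symm D) norm₂ norm₁ hN₂ hS htC'
  have key : ∀ z ∈ E₂ ⊓ E₁, ∀ s ∈ T 𝒜 S E₂, z * s ∈ T 𝒜 S E₁ → z * s ≠ 1 →
      z ∉ E₂ ⊓ centralizer (XG 𝒜 E₂ : Set G) := by
    intro z hz s hs hzs hne hzc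
    apply hne
    have h2 : z ∈ T 𝒜 S E₂ := mem_T_of_centralizer S (CentAMain.symm D) hzc.1 hzc.2
    have h3 : z * s ∈ T 𝒜 S E₁ ⊓ T 𝒜 S E₂ := mem_inf.2 ⟨hzs, mul_mem h2 hs⟩
    rwa [hdisj, mem_bot] at h3
  have hz1 := key z hz s hs ht h1
  have hz2 := key z' hz' s' hs' ht' h1'
  set Z := E₂ ⊓ E₁ with hZ
  set C₂ := E₂ ⊓ centralizer (XG 𝒜 E₂ : Set G) with hC₂
  have hC₂Z : C₂ ≤ Z := by
    intro x hx
    refine ⟨hx.1, ?_⟩
    have h2 : x ∈ centralizer (fam 𝒜 (S : Subgroup G) : Set G) :=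
      centralizer_le (CentAMain.side₁ (CentAMain.symm D) norm₂ norm₁).le_XG hx.2
    exact D.cent₁ ⟨centralizer_le (CentAMain.le₁ D) h2, CentAMain.le₂ D hx.1⟩
  have hidx : (C₂.subgroupOf Z).index = 2 := by
    have h2 := Subgroup.card_mul_index (C₂.subgroupOf Z)
    have h3 : Nat.card ↥Z = Nat.card ↥C₂ * 2 := by
      rw [hZ, inf_comm, ← D.cardC₂, hq, hC₂, mul_comm]
    rw [Nat.card_congr (subgroupOfEquivOfLe hC₂Z).toEquiv, h3] at h2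
    exact Nat.eq_of_mul_eq_mul_left Nat.card_pos h2
  have h2 : (⟨z, hz⟩ : ↥Z)⁻¹ * ⟨z', hz'⟩ ∈ C₂.subgroupOf Z := by
    rw [Subgroup.mul_mem_iff_of_index_two hidx, Subgroup.inv_mem_iff, mem_subgroupOf, mem_subgroupOf]
    exact iff_of_false hz1 hz2
  have h3 : z⁻¹ * z' ∈ C₂ := h2
  have h4 : z⁻¹ * z' ∈ T 𝒜 S E₂ := mem_T_of_centralizer S (CentAMain.symm D) h3.1 h3.2
  have h5 : (z * s)⁻¹ * (z' * s') ∈ T 𝒜 S E₁ ⊓ T 𝒜 S E₂ := by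
    refine mem_inf.2 ⟨mul_mem (inv_mem ht) ht', ?_⟩
    have e : (z * s)⁻¹ * (z' * s') = s⁻¹ * (z⁻¹ * z') * s' := by group
    rw [e]
    exact mul_mem (mul_mem (inv_mem hs) h4) hs'
  rw [hdisj, mem_bot] at h5
  exact inv_mul_eq_one.1 h5

include h D norm₁ norm₂ hN₁ hN₂ hS in
/-- The case `|F| = 2`. -/
theorem eq_of_card_two [IsSimpleGroup G] (hG : ∃ a b : G, a * b ≠ b * a) (hq : Nat.card F = 2)
    (hdisj : T 𝒜 S E₁ ⊓ T 𝒜 S E₂ = ⊥) : fam 𝒜 (S : Subgroup G) = S := by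
  refine ModA.eq_of_focal h S hG _ le_rfl (fam_le 𝒜 _) ?_
  intro s hs n hn hns
  have hZA : E₁ ⊓ E₂ ≤ fam 𝒜 (S : Subgroup G) := inf_le_left.trans (CentAMain.le₁ D)
  by_cases hsA : s ∈ fam 𝒜 (S : Subgroup G)
  · exact mul_mem (inv_mem hsA) ((mem_normalizer_iff.1 hn s).1 hsA)
  have hnsA : n * s * n⁻¹ ∉ fam 𝒜 (S : Subgroup G) := fun h1 => hsA ((mem_normalizer_iff.1 hn s).2 h1)
  have key : ∀ s ∈ (S : Subgroup G), s ∉ fam 𝒜 (S : Subgroup G) → ∃ a ∈ fam 𝒜 (S : Subgroup G), ∃ z ∈ E₁ ⊓ E₂,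
      ∃ t ∈ T 𝒜 S E₁, t ≠ 1 ∧ s = a * (z * t) := by
    intro s hs hsA
    obtain ⟨a, ha, c, hc, rfl⟩ := hS s hs
    have hcS : c ∈ (S : Subgroup G) := by
      have e : c = a⁻¹ * (a * c) := by group
      rw [e]
      exact mul_mem (inv_mem (fam_le 𝒜 _ ha)) hs
    obtain ⟨z, hz, t, ht, rfl⟩ := exists_mul_T h S D norm₁ norm₂ hN₁ hS ⟨hcS, hc⟩
    refine ⟨a, ha, z, hz, t, ht, ?_, rfl⟩
    rintro rfl
    apply hsA
    rw [mul_one]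
    exact mul_mem ha (hZA hz)
  obtain ⟨a, ha, z, hz, t, ht, ht1, hst⟩ := key s hs hsA
  obtain ⟨a', ha', z', hz', t', ht', ht1', hst'⟩ := key _ hns hnsA
  obtain rfl := eq_of_mem_T h S D norm₁ norm₂ hN₁ hN₂ hS hq hdisj ht ht' ht1 ht1'
  rw [hst', hst]
  have hb : z⁻¹ * a⁻¹ * a' * z' ∈ fam 𝒜 (S : Subgroup G) :=
    mul_mem (mul_mem (mul_mem (inv_mem (hZA hz)) (inv_mem ha)) ha') (hZA hz')
  have htA := (mem_centralizer_iff.1 (T_le_C h S D norm₁ norm₂ ht).2) _ hb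
  have e : (a * (z * t))⁻¹ * (a' * (z' * t)) = t⁻¹ * ((z⁻¹ * a⁻¹ * a' * z') * t) := by group
  rw [e, htA, inv_mul_cancel_left]
  exact hb

end Facts

/-- **`S = A`.** -/
theorem eq_sylow {G : Type u} [Group G] [Finite G] [IsSimpleGroup G] (hG : ∃ a b : G, a * b ≠ b * a)
    {F : Type*} [Field F] {𝒜 : Set G} (h : IsClosedFam 𝒜) (S : Sylow 2 G) {E₁ E₂ : Subgroup G}
    (D : FullEdge F 𝒜 (fam 𝒜 (S : Subgroup G)) E₁ E₂)
    (h1171 : ∀ B : Subgroup G, Cfsg.IsStronglyClosed B (S : Subgroup G) → fam 𝒜 (S : Subgroup G) ⊓ B = ⊥ →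
      ⁅normalClosure (fam 𝒜 (S : Subgroup G) : Set G), normalClosure (B : Set G)⁆ ≤ Cfsg.oddCore G) :
    fam 𝒜 (S : Subgroup G) = S := by
  have D₀ := D.toOneEdge
  have norm₁ := D.nor₁
  have norm₂ := D.nor₂
  have hN₁ := CentAMain.normalizer_le h S hG D₀ norm₁ D.ess₁ D.ess₂
  have hN₂ := CentAMain.normalizer_le h S hG (CentAMain.symm D₀) norm₂ D.ess₂ D.ess₁
  have hS : ∀ s ∈ (S : Subgroup G), ∃ a ∈ fam 𝒜 (S : Subgroup G),
      ∃ c ∈ centralizer (fam 𝒜 (S : Subgroup G) : Set G), s = a * c :=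
    fun s hs => CentAMain.exists_mul h S hG D₀ norm₁ norm₂ D.ess₁ D.ess₂ hs
  have D₁ := CentAMain.side₁ D₀ norm₁ norm₂
  haveI := D₁.charP
  haveI := D₁.finite
  obtain ⟨n, hn⟩ := D₁.exists_card
  obtain ⟨m, -, hm⟩ := (Nat.dvd_prime_pow Nat.prime_two).1 (Dvd.intro _ hn : Nat.card F ∣ 2 ^ n)
  have hF1 : 1 < Nat.card F := Finite.one_lt_card
  have hm1 : m ≠ 0 := by
    rintro rfl
    rw [hm, pow_zero] at hF1
    exact lt_irrefl _ hF1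
  -- `A ≠ 1`
  have hAne : fam 𝒜 (S : Subgroup G) ≠ ⊥ := by
    intro h1
    have h2 := CentAMain.le₁ D₀
    rw [h1, le_bot_iff] at h2
    have h3 := D₀.card₁
    rw [h2, card_bot] at h3
    have h4 : Nat.card F = 1 := Nat.dvd_one.1 (Dvd.intro _ h3.symm)
    rw [h4] at hF1
    exact lt_irrefl _ hF1
  have hstr := CentStar.isStronglyClosed h S D₀ norm₁ norm₂ hN₁ hN₂ hS
  have hAB : fam 𝒜 (S : Subgroup G) ⊓ ((S : Subgroup G) ⊓ J 𝒜 E₁ ⊓ J 𝒜 E₂) = ⊥ := by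
    rw [eq_bot_iff]
    intro x hx
    obtain ⟨hxA, hx2⟩ := mem_inf.1 hx
    obtain ⟨hx3, hxJ₂⟩ := mem_inf.1 hx2
    obtain ⟨hxS, hxJ₁⟩ := mem_inf.1 hx3
    have hxc := mem_centralizer_of_mem_J h S D₁ hxS hxJ₁
    have hx₁ : x ∈ E₁ := D₀.cent₁ ⟨centralizer_le (CentAMain.le₁ D₀) hxc, hxA⟩
    have hx₂ : x ∈ E₂ := D₀.cent₂ ⟨centralizer_le (CentAMain.le₂ D₀) hxc, hxA⟩
    rw [← D₀.disj]
    exact mem_inf.2 ⟨mem_inf.2 ⟨hx₁, mem_centralizer_XG h S D₀ norm₁ norm₂ hx₁ hxJ₁⟩,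
      mem_inf.2 ⟨hx₂, mem_centralizer_XG h S (CentAMain.symm D₀) norm₂ norm₁ hx₂ hxJ₂⟩⟩
  have hbot := eq_bot_of_inf hG S (fam_le 𝒜 _) hAne (h1171 _ hstr hAB)
  have hdisj : T 𝒜 S E₁ ⊓ T 𝒜 S E₂ = ⊥ := by
    rw [eq_bot_iff, ← hbot]
    intro x hx
    obtain ⟨hx1, hx2⟩ := mem_inf.1 hx
    exact mem_inf.2 ⟨hx1, hx2.2⟩
  rcases Nat.lt_or_ge m 2 with h1 | h1
  · have hq : Nat.card F = 2 := by
      have : m = 1 := by omega
      rw [hm, this, pow_one]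
    exact eq_of_card_two h S D₀ norm₁ norm₂ hN₁ hN₂ hS hG hq hdisj
  · have hq : 4 ≤ Nat.card F := by
      rw [hm]
      calc 4 = 2 ^ 2 := by norm_num
        _ ≤ 2 ^ m := Nat.pow_le_pow_right (by norm_num) h1
    have h2 := T_le_of_torus h S D₀ norm₁ norm₂ hN₁ hN₂ hS hq hdisj
    exact le_of_T_le h S (CentAMain.symm D₀) norm₂ norm₁ hN₂ hS (by rw [inf_comm]; exact h2)

end Cfsg.Agent.ClassTwoFusion.PartTwo
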