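import Cfsg.Agent.ClassTwoFusion.EndGame
import Cfsg.Agent.ClassTwoFusion.PartTwo

/-!
# S1170: the final assembly
-/

set_option autoImplicit false
set_option linter.style.haveILetI false

namespace Cfsg.Agent.ClassTwoFusion.Final

open Subgroup
open scoped commutatorElement
open Cfsg.Agent.TwoFusion.ClosedFam
open Cfsg.Agent.ClassTwoFusion.RelAlperin Cfsg.Agent.ClassTwoFusion.OneEdge
open Cfsg.Agent.ClassTwoFusion.Assembly

universe u

/-- The fusion theorem: a minimal strongly closed subgroup of class two in a simple group is one edge. -/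
def FusionThm : Prop := ∀ (G : Type u) [Group G] [Finite G] [IsSimpleGroup G], (∃ a b : G, a * b ≠ b * a) →
  ∀ (S : Sylow 2 G) (𝒜 : Set G), IsClosedFam 𝒜 →
    (∀ x ∈ fam 𝒜 (S : Subgroup G), ∀ y ∈ fam 𝒜 (S : Subgroup G), ∀ z ∈ fam 𝒜 (S : Subgroup G), Commute ⁅x, y⁆ z) →
    (∃ x ∈ fam 𝒜 (S : Subgroup G), ∃ y ∈ fam 𝒜 (S : Subgroup G), x * y ≠ y * x) →
    (∀ B ≤ fam 𝒜 (S : Subgroup G), Cfsg.IsStronglyClosed B (S : Subgroup G) → B = ⊥ ∨ B = fam 𝒜 (S : Subgroup G)) →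
    ∃ (F : Type) (_ : Field F) (_ : Fintype F) (_ : CharP F 2) (E₁ E₂ : Subgroup G),
      Nonempty (FullEdge F 𝒜 (fam 𝒜 (S : Subgroup G)) E₁ E₂)

/-- S1170 from its inputs. -/
theorem concl (h1169 : TypeL3.H1169.{u}) (h1171 : TypeL3.H1171.{u}) (h1296 : TypeL3.H1296.{u})
    (hGW : Dihedral8.GW.{u}) (hbend : ∀ (G : Type u) [Group G] [Finite G] [IsSimpleGroup G], Bend G)
    (hfus : FusionThm.{u}) {G : Type u} [Group G] [Finite G] [IsSimpleGroup G] (S : Sylow 2 G) (A : Subgroup G)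
    (hAS : Cfsg.IsStronglyClosed A (S : Subgroup G)) (hA1 : ¬ IsMulCommutative A)
    (hA2 : ⁅(⊤ : Subgroup A), ⊤⁆ ≤ Subgroup.center A) : Concl G := by
  refine concl_of (fun S A hA hc hs => h1169 G S A hA hc hs) (hbend G) S A hAS hA1 hA2 ?_
  intro 𝒜 h𝒜 hcl hna hmin
  have hG : ∃ a b : G, a * b ≠ b * a := by
    obtain ⟨x, -, y, -, hxy⟩ := hna
    exact ⟨x, y, hxy⟩
  obtain ⟨F, _, _, _, E₁, E₂, ⟨D⟩⟩ := hfus G hG S 𝒜 h𝒜 hcl hna hmin
  have hSA := PartTwo.eq_sylow hG h𝒜 S D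
    (fun B hB hAB => h1171 G S _ B hAB (h𝒜.isStronglyClosed S) hB)
  rw [hSA] at D
  exact EndGame.concl_of_edge h1169 h1171 h1296 hGW hG S h𝒜 D

end Cfsg.Agent.ClassTwoFusion.Final
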