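import Cfsg.Agent.Lib.GoldschmidtFusion
import Cfsg.Agent.TwoFusion.ClosedFam

/-!
# The fusion theorem relative to a closed family

`𝒜` is a closed family (`IsClosedFam`).  An `𝒜`-subgroup is a 2-subgroup contained in `𝒜`.  In every subgroup `H` the
maximal `𝒜`-subgroups are conjugate (`IsSyl 𝒜 H R`).  For `A = fam 𝒜 S`, `S` a Sylow 2-subgroup, the fusion between
subgroups of `A` is generated by `N_G(A)` and the `N_G(X)`, where `X < A` is "essential": `N_A(X)` is an
`𝒜`-Sylow subgroup of `N_G(X)`, `C_A(X) ≤ X`, and `N_G(X)` is not generated by `C_G(X)` and the elements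
`y ∈ N_G(X)` mapping some `Q`, `X < Q ≤ A`, into `A`.
-/

set_option autoImplicit false
set_option linter.style.haveILetI false

namespace Cfsg.Agent.ClassTwoFusion.RelAlperin

open Subgroup
open Cfsg.Agent.TwoFusion.ClosedFam
open Cfsg.Agent.Lib.GoldschmidtFusion

variable {G : Type*} [Group G]

/-- `R` is an `𝒜`-Sylow subgroup of `H`: an `𝒜`-subgroup into which every `𝒜`-subgroup of `H` can be conjugated. -/
structure IsSyl (𝒜 : Set G) (H R : Subgroup G) : Prop where
  le : R ≤ H
  two : IsPGroup 2 R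
  sub : ∀ x ∈ R, x ∈ 𝒜
  conj : ∀ Q : Subgroup G, Q ≤ H → IsPGroup 2 Q → (∀ x ∈ Q, x ∈ 𝒜) → ∃ h ∈ H, Q.map (MulAut.conj h).toMonoidHom ≤ R

theorem exists_isSyl [Finite G] {𝒜 : Set G} (h : IsClosedFam 𝒜) {H D : Subgroup G} (hDH : D ≤ H) (hD : IsPGroup 2 D)
    (hDA : ∀ x ∈ D, x ∈ 𝒜) : ∃ R : Subgroup G, D ≤ R ∧ IsSyl 𝒜 H R := by
  haveI : Fact (Nat.Prime 2) := ⟨Nat.prime_two⟩
  obtain ⟨T, hDT, hTH, hT, hTi⟩ := exists_sylow_in (p := 2) hDH hD
  refine ⟨fam 𝒜 T, fun x hx => mem_fam (hDA x hx) (hDT hx), (fam_le 𝒜 T).trans hTH, isPGroup_fam 𝒜 hT,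
    fun x hx => ((h.mem_fam_iff hT).1 hx).1, ?_⟩
  intro Q hQH hQ hQA
  obtain ⟨n, hn, hnQ⟩ := exists_conj_le_in (p := 2) hT hTi hQH hQ
  refine ⟨n, hn, ?_⟩
  rintro _ ⟨x, hx, rfl⟩
  refine mem_fam ?_ (hnQ ⟨x, hx, rfl⟩)
  have := h.conj_mem x (hQA x hx) n
  simpa using this

theorem isSyl_fam [Finite G] {𝒜 : Set G} (h : IsClosedFam 𝒜) (S : Sylow 2 G) : IsSyl 𝒜 ⊤ (fam 𝒜 (S : Subgroup G)) := by
  haveI : Fact (Nat.Prime 2) := ⟨Nat.prime_two⟩
  refine ⟨le_top, isPGroup_fam 𝒜 S.2, fun x hx => ((h.mem_fam_iff S.2).1 hx).1, ?_⟩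
  intro Q _ hQ hQA
  obtain ⟨n, -, hnQ⟩ := exists_conj_le_in (p := 2) (N := ⊤) S.2 (by rw [relIndex_top_right]; exact S.not_dvd_index) le_top hQ
  refine ⟨n, mem_top _, ?_⟩
  rintro _ ⟨x, hx, rfl⟩
  refine mem_fam ?_ (hnQ ⟨x, hx, rfl⟩)
  have := h.conj_mem x (hQA x hx) n
  simpa using this

namespace IsSyl

variable {𝒜 : Set G} {H R : Subgroup G}

theorem of_le (hR : IsSyl 𝒜 H R) {R' : Subgroup G} (hRR : R ≤ R') (hH : R' ≤ H) (h2 : IsPGroup 2 R')
    (hA : ∀ x ∈ R', x ∈ 𝒜) : IsSyl 𝒜 H R' :=
  ⟨hH, h2, hA, fun Q hQH hQ hQA => (hR.conj Q hQH hQ hQA).imp fun _ hh => ⟨hh.1, hh.2.trans hRR⟩⟩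

theorem card_le [Finite G] (hR : IsSyl 𝒜 H R) {Q : Subgroup G} (hQH : Q ≤ H) (hQ : IsPGroup 2 Q)
    (hQA : ∀ x ∈ Q, x ∈ 𝒜) : Nat.card Q ≤ Nat.card R := by
  obtain ⟨h, -, hle⟩ := hR.conj Q hQH hQ hQA
  rw [← card_map_conj Q h]
  exact Subgroup.card_le_of_le hle

theorem map_conj (hR : IsSyl 𝒜 H R) (h : IsClosedFam 𝒜) (g : G) :
    IsSyl 𝒜 (H.map (MulAut.conj g).toMonoidHom) (R.map (MulAut.conj g).toMonoidHom) := by
  refine ⟨map_conj_mono hR.le g, hR.two.map _, ?_, ?_⟩
  · intro x hx
    rw [mem_map_conj] at hx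
    have := h.conj_mem _ (hR.sub _ hx) g
    simpa [mul_assoc] using this
  · intro Q hQH hQ hQA
    obtain ⟨k, hk, hkQ⟩ := hR.conj (Q.map (MulAut.conj g⁻¹).toMonoidHom) (by
        rintro _ ⟨x, hx, rfl⟩
        have := hQH hx
        rw [mem_map_conj] at this
        simpa using this) (hQ.map _) (by
        rintro _ ⟨x, hx, rfl⟩
        have := h.conj_mem _ (hQA x hx) g⁻¹
        simpa using this)
    refine ⟨g * k * g⁻¹, ?_, ?_⟩
    · rw [mem_map_conj]; simpa [mul_assoc] using hk
    · have := map_conj_mono hkQ g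
      rw [map_conj_map_conj, map_conj_map_conj] at this
      exact this

/-- An `𝒜`-subgroup of maximal order is an `𝒜`-Sylow subgroup. -/
theorem of_card [Finite G] (hR : IsSyl 𝒜 H R) {Q : Subgroup G} (hQH : Q ≤ H) (hQ : IsPGroup 2 Q)
    (hQA : ∀ x ∈ Q, x ∈ 𝒜) (hc : Nat.card R ≤ Nat.card Q) : IsSyl 𝒜 H Q := by
  obtain ⟨k, hk, hle⟩ := hR.conj Q hQH hQ hQA
  have heq : Q.map (MulAut.conj k).toMonoidHom = R :=
    Subgroup.eq_of_le_of_card_ge hle (by rw [card_map_conj]; exact hc)
  refine ⟨hQH, hQ, hQA, fun Q' h1 h2 h3 => ?_⟩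
  obtain ⟨m, hm, hmle⟩ := hR.conj Q' h1 h2 h3
  refine ⟨k⁻¹ * m, mul_mem (inv_mem hk) hm, ?_⟩
  rw [← map_conj_map_conj]
  have := map_conj_mono hmle k⁻¹
  refine this.trans ?_
  rw [← heq, map_conj_map_conj, inv_mul_cancel, map_conj_one]

/-- `𝒜`-Sylow subgroups of normal subgroups. -/
theorem inf_normal [Finite G] (hR : IsSyl 𝒜 H R) (h : IsClosedFam 𝒜) {K : Subgroup G} (hKH : K ≤ H)
    (hn : H ≤ normalizer (K : Set G)) : IsSyl 𝒜 K (R ⊓ K) := by
  obtain ⟨R₁, -, hR₁⟩ := exists_isSyl h (H := K) (D := ⊥) bot_le (IsPGroup.of_bot) (by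
    intro x hx; rw [mem_bot] at hx; rw [hx]; exact h.one_mem)
  obtain ⟨n, hnH, hle⟩ := hR.conj R₁ (hR₁.le.trans hKH) hR₁.two hR₁.sub
  refine hR₁.of_card inf_le_right (hR.two.to_le inf_le_left) (fun x hx => hR.sub x hx.1) ?_
  rw [← card_map_conj R₁ n]
  refine Subgroup.card_le_of_le (le_inf hle ?_)
  have := map_conj_mono hR₁.le n
  rwa [mem_normalizer_iff_map_conj.1 (hn hnH)] at this

/-- Frattini argument. -/
theorem frattini [Finite G] {K T : Subgroup G} (hT : IsSyl 𝒜 K T) (h : IsClosedFam 𝒜) {n : G}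
    (hn : n ∈ normalizer (K : Set G)) : ∃ c ∈ K, c * n ∈ normalizer (T : Set G) := by
  have h1 : T.map (MulAut.conj n).toMonoidHom ≤ K := by
    have := map_conj_mono hT.le n
    rwa [mem_normalizer_iff_map_conj.1 hn] at this
  obtain ⟨c, hc, hcle⟩ := hT.conj _ h1 (hT.two.map _) (by
    rintro _ ⟨x, hx, rfl⟩
    have := h.conj_mem _ (hT.sub x hx) n
    simpa using this)
  rw [map_conj_map_conj] at hcle
  exact ⟨c, hc, mem_normalizer_iff_map_conj.2 (map_conj_le_of_le_normalizer hcle)⟩

end IsSyl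

/-- The subgroup of `N_G(X)` generated by `C_G(X)` and the elements mapping some `Q`, `X < Q ≤ A`, into `A`. -/
def star (A X : Subgroup G) : Subgroup G :=
  closure ({c | c ∈ centralizer (X : Set G)} ∪
    {y | y ∈ normalizer (X : Set G) ∧ ∃ Q : Subgroup G, X < Q ∧ Q ≤ A ∧ Q.map (MulAut.conj y).toMonoidHom ≤ A})

theorem star_le_normalizer (A X : Subgroup G) : star A X ≤ normalizer (X : Set G) := by
  unfold star
  rw [closure_le]
  rintro x (hx | hx)
  · exact centralizer_le_normalizer _ hx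
  · exact hx.1

theorem centralizer_le_star (A X : Subgroup G) : centralizer (X : Set G) ≤ star A X :=
  fun _ hx => subset_closure (Or.inl hx)

theorem mem_star {A X Q : Subgroup G} {y : G} (hy : y ∈ normalizer (X : Set G)) (hXQ : X < Q) (hQ : Q ≤ A)
    (hQy : Q.map (MulAut.conj y).toMonoidHom ≤ A) : y ∈ star A X :=
  subset_closure (Or.inr ⟨hy, Q, hXQ, hQ, hQy⟩)

/-- Essential subgroups of `A` (relative to the closed family `𝒜`). -/
structure IsEss (𝒜 : Set G) (A X : Subgroup G) : Prop where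
  lt : X < A
  syl : IsSyl 𝒜 (normalizer (X : Set G)) (A ⊓ normalizer (X : Set G))
  cent : centralizer (X : Set G) ⊓ A ≤ X
  star : ¬ normalizer (X : Set G) ≤ star A X

variable [Finite G]

/-- Every subgroup of `A` has a conjugate `B ≤ A` such that `N_A(B)` is an `𝒜`-Sylow subgroup of `N_G(B)`. -/
theorem exists_fullyNormalized {𝒜 : Set G} (h : IsClosedFam 𝒜) {A X : Subgroup G} (hA : IsSyl 𝒜 ⊤ A) (hX : X ≤ A) :
    ∃ k : G, X.map (MulAut.conj k).toMonoidHom ≤ A ∧
      IsSyl 𝒜 (normalizer ((X.map (MulAut.conj k).toMonoidHom : Subgroup G) : Set G))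
        (A ⊓ normalizer ((X.map (MulAut.conj k).toMonoidHom : Subgroup G) : Set G)) := by
  obtain ⟨R, hXR, hR⟩ := exists_isSyl h (H := normalizer (X : Set G)) (D := A ⊓ normalizer (X : Set G)) inf_le_right
    (hA.two.to_le inf_le_left) (fun x hx => hA.sub x hx.1)
  obtain ⟨k, -, hk⟩ := hA.conj R le_top hR.two hR.sub
  have hXk : X.map (MulAut.conj k).toMonoidHom ≤ A :=
    (map_conj_mono ((le_inf hX le_normalizer).trans hXR) k).trans hk
  refine ⟨k, hXk, ?_⟩
  have h1 := hR.map_conj h k
  rw [map_conj_normalizer] at h1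
  exact h1.of_le (le_inf hk h1.le) inf_le_right (hA.two.to_le inf_le_left) (fun x hx => hA.sub x hx.1)

theorem exists_extension {𝒜 : Set G} (h : IsClosedFam 𝒜) {A X B : Subgroup G} (hA : IsSyl 𝒜 ⊤ A) {k : G}
    (hk : X.map (MulAut.conj k).toMonoidHom = B)
    (hB : IsSyl 𝒜 (normalizer (B : Set G)) (A ⊓ normalizer (B : Set G))) :
    ∃ g : G, X.map (MulAut.conj g).toMonoidHom = B ∧
      (A ⊓ normalizer (X : Set G)).map (MulAut.conj g).toMonoidHom ≤ A ⊓ normalizer (B : Set G) := by
  have hDN : (A ⊓ normalizer (X : Set G)).map (MulAut.conj k).toMonoidHom ≤ normalizer (B : Set G) := by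
    rw [← hk, ← map_conj_normalizer]
    exact map_conj_mono inf_le_right k
  obtain ⟨n, hn, hnle⟩ := hB.conj _ hDN ((hA.two.to_le inf_le_left).map _) (by
    rintro _ ⟨x, hx, rfl⟩
    have := h.conj_mem _ (hA.sub x hx.1) k
    simpa using this)
  refine ⟨n * k, ?_, ?_⟩
  · rw [← map_conj_map_conj, hk]
    exact mem_normalizer_iff_map_conj.1 hn
  · rw [← map_conj_map_conj]; exact hnle

/-- **The fusion theorem relative to a closed family.** -/
theorem gen_of_conj {𝒜 : Set G} (h : IsClosedFam 𝒜) {A : Subgroup G} (hA : IsSyl 𝒜 ⊤ A) (F : Subgroup G → Prop)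
    (hFA : F A) (hF : ∀ X : Subgroup G, IsEss 𝒜 A X → F X) {X : Subgroup G} (hX : X ≤ A) {g : G}
    (hg : X.map (MulAut.conj g).toMonoidHom ≤ A) : Gen A F X g := by
  have key : ∀ k : ℕ, ∀ X : Subgroup G, X ≤ A → Nat.card A ≤ Nat.card X + k → ∀ g : G,
      X.map (MulAut.conj g).toMonoidHom ≤ A → Gen A F X g := by
    intro k
    induction k with
    | zero =>
      intro X hX hk g hg
      have hXA : X = A := Subgroup.eq_of_le_of_card_ge hX (by simpa using hk)
      rw [hXA] at hg
      have hgN : g ∈ normalizer (A : Set G) :=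
        mem_normalizer_iff_map_conj.2 (map_conj_le_of_le_normalizer hg)
      exact Gen.base le_rfl hFA hX hgN
    | succ k ih =>
      intro X hX hk g hg
      by_cases hXA : X = A
      · rw [hXA] at hg
        have hgN : g ∈ normalizer (A : Set G) :=
          mem_normalizer_iff_map_conj.2 (map_conj_le_of_le_normalizer hg)
        exact Gen.base le_rfl hFA hX hgN
      have hlt : X < A := lt_of_le_of_ne hX hXA
      have big : ∀ D : Subgroup G, D ≤ A → Nat.card X < Nat.card D → ∀ g : G,
          D.map (MulAut.conj g).toMonoidHom ≤ A → Gen A F D g := by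
        intro D hD hc g hg
        exact ih D hD (by omega) g hg
      have ext : ∀ X' : Subgroup G, X' ≤ A → Nat.card X' = Nat.card X → ∀ (B : Subgroup G) (k : G),
          X'.map (MulAut.conj k).toMonoidHom = B →
          IsSyl 𝒜 (normalizer (B : Set G)) (A ⊓ normalizer (B : Set G)) →
          ∃ g : G, X'.map (MulAut.conj g).toMonoidHom = B ∧ Gen A F X' g := by
        intro X' hX' hcard B k hk hB
        obtain ⟨g, hh, hle⟩ := exists_extension h hA hk hB
        refine ⟨g, hh, ?_⟩
        have hlt' : X' < A := by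
          refine lt_of_le_of_ne hX' ?_
          rintro rfl
          exact hXA (Subgroup.eq_of_le_of_card_ge hX hcard.le)
        have h1 : X' < A ⊓ normalizer (X' : Set G) := by
          haveI : Fact (Nat.Prime 2) := ⟨Nat.prime_two⟩
          exact lt_inf_normalizer (p := 2) hA.two hlt'
        have h2 : Nat.card X < Nat.card (A ⊓ normalizer (X' : Set G) : Subgroup G) := by
          rw [← hcard]
          exact Set.Finite.card_lt_card (Set.toFinite _) h1
        exact (big _ inf_le_left h2 g (hle.trans inf_le_left)).mono h1.le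
      obtain ⟨k₁, hB, hBi⟩ := exists_fullyNormalized h hA hX
      set B := X.map (MulAut.conj k₁).toMonoidHom with hBdef
      obtain ⟨h₁, hh₁, hgen₁⟩ := ext X hX rfl B k₁ rfl hBi
      obtain ⟨h₂, hh₂, hgen₂⟩ := ext (X.map (MulAut.conj g).toMonoidHom) hg (card_map_conj X g) B
        (k₁ * g⁻¹) (by rw [map_conj_map_conj]; simp [hBdef]) hBi
      set n := h₂ * g * h₁⁻¹ with hn
      have hnN : n ∈ normalizer (B : Set G) := by
        rw [mem_normalizer_iff_map_conj]
        nth_rewrite 1 [← hh₁]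
        rw [map_conj_map_conj, hn]
        have : h₂ * g * h₁⁻¹ * h₁ = h₂ * g := by group
        rw [this, ← map_conj_map_conj, hh₂]
      have hcardB : Nat.card B = Nat.card X := card_map_conj X k₁
      have main : ∀ n ∈ normalizer (B : Set G), Gen A F B n := by
        by_cases hcent : centralizer (B : Set G) ⊓ A ≤ B
        · by_cases hst : normalizer (B : Set G) ≤ star A B
          · intro n hn
            have h1 : ∀ n ∈ star A B, B.map (MulAut.conj n).toMonoidHom = B ∧ Gen A F B n := by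
              intro n hn
              refine closure_induction (p := fun n _ => B.map (MulAut.conj n).toMonoidHom = B ∧ Gen A F B n)
                ?_ ?_ ?_ ?_ hn
              · rintro x (hx | ⟨hx, Q, hBQ, hQA, hQx⟩)
                · exact ⟨map_conj_of_mem_centralizer hx, Gen.cent hB hx⟩
                · refine ⟨mem_normalizer_iff_map_conj.1 hx, (big Q hQA ?_ x hQx).mono hBQ.le⟩
                  rw [← hcardB]
                  exact Set.Finite.card_lt_card (Set.toFinite _) hBQ
              · exact ⟨map_conj_one _, Gen.cent hB (one_mem _)⟩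
              · intro x y _ _ hx hy
                refine ⟨by rw [← map_conj_map_conj, hy.1, hx.1], Gen.mul hy.2 (by rw [hy.1]; exact hx.2)⟩
              · intro x _ hx
                refine ⟨?_, ?_⟩
                · nth_rewrite 1 [← hx.1]
                  rw [map_conj_map_conj, inv_mul_cancel, map_conj_one]
                · have := hx.2.symm
                  rwa [hx.1] at this
            exact (h1 n (hst hn)).2
          · intro n hn
            have hBlt : B < A := by
              refine lt_of_le_of_ne hB ?_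
              intro h
              apply hXA
              apply Subgroup.eq_of_le_of_card_ge hX
              rw [← hcardB, h]
            exact Gen.base hB (hF B ⟨hBlt, hBi, hcent, hst⟩) le_rfl hn
        · intro n hnN
          -- `B` is not centric
          have hCN : centralizer (B : Set G) ≤ normalizer (B : Set G) := centralizer_le_normalizer _
          have hNC : normalizer (B : Set G) ≤ normalizer (centralizer (B : Set G) : Set G) := by
            intro g hg
            rw [mem_normalizer_iff_map_conj]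
            ext x
            rw [mem_map_conj, ← mem_centralizer_map_conj, mem_normalizer_iff_map_conj.1 hg]
          have hT : IsSyl 𝒜 (centralizer (B : Set G)) (A ⊓ normalizer (B : Set G) ⊓ centralizer (B : Set G)) :=
            hBi.inf_normal h hCN hNC
          obtain ⟨c, hc, hcT⟩ := hT.frattini h (hNC hnN)
          set T := A ⊓ normalizer (B : Set G) ⊓ centralizer (B : Set G) with hTdef
          have hcn : c * n ∈ normalizer (B : Set G) := mul_mem (hCN hc) hnN
          have hD : (B ⊔ T).map (MulAut.conj (c * n)).toMonoidHom ≤ A := by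
            rw [Subgroup.map_sup, mem_normalizer_iff_map_conj.1 hcn, mem_normalizer_iff_map_conj.1 hcT]
            exact sup_le hB (inf_le_left.trans inf_le_left)
          have hTB : ¬ T ≤ B := by
            intro hle
            apply hcent
            intro x hx
            exact hle ⟨⟨hx.2, hCN hx.1⟩, hx.1⟩
          have hDcard : Nat.card X < Nat.card (B ⊔ T : Subgroup G) := by
            rw [← hcardB]
            refine Set.Finite.card_lt_card (Set.toFinite _) ?_
            have : B < B ⊔ T := left_lt_sup.2 hTB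
            exact this
          have h1 := (big (B ⊔ T) (sup_le hB (inf_le_left.trans inf_le_left)) hDcard (c * n) hD).mono
            (le_sup_left : B ≤ B ⊔ T)
          have h2 : n = c⁻¹ * (c * n) := by group
          rw [h2]
          refine Gen.mul h1 ?_
          rw [mem_normalizer_iff_map_conj.1 hcn]
          exact Gen.cent hB (inv_mem hc)
      have hfin : g = h₂⁻¹ * (n * h₁) := by rw [hn]; group
      rw [hfin]
      refine Gen.mul (Gen.mul hgen₁ (by rw [hh₁]; exact main n hnN)) ?_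
      have h3 : X.map (MulAut.conj (n * h₁)).toMonoidHom = B := by
        rw [← map_conj_map_conj, hh₁]
        exact mem_normalizer_iff_map_conj.1 hnN
      rw [h3, ← hh₂]
      exact hgen₂.symm
  exact key (Nat.card A) X hX (Nat.le_add_left _ _) g hg

end Cfsg.Agent.ClassTwoFusion.RelAlperin
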