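import Mathlib
import Cfsg.Agent.ClassTwoFusion.RelAlperin
import Cfsg.Agent.TwoFusion.StronglyEmbeddedBasic

/-!
# Maximal subgroups inside a closed family

`Syl 𝒟`: the type of maximal 2-subgroups contained in the closed family `𝒟`, with the action of the group.
It replaces `Sylow 2 L` in the relative version of the analysis of strongly closed 2-subgroups of class two.
-/

set_option autoImplicit false

namespace Cfsg.Agent.ClassTwoFusion.RelSyl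

open Subgroup Cfsg.Agent.TwoFusion.StronglyEmbeddedBasic
open Cfsg.Agent.TwoFusion.ClosedFam Cfsg.Agent.ClassTwoFusion.RelAlperin
open Cfsg.Agent.Lib.GoldschmidtFusion

variable {L : Type*} [Group L]

/-- 2-subgroups contained in `𝒟` -/
def DS (𝒟 : Set L) (Q : Subgroup L) : Prop := IsPGroup 2 Q ∧ ∀ x ∈ Q, x ∈ 𝒟

theorem DS.to_le {𝒟 : Set L} {Q R : Subgroup L} (h : DS 𝒟 R) (hQ : Q ≤ R) : DS 𝒟 Q :=
  ⟨h.1.to_le hQ, fun x hx => h.2 x (hQ hx)⟩

/-- maximal 2-subgroups contained in `𝒟` -/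
structure Syl (𝒟 : Set L) where
  toSubgroup : Subgroup L
  isSyl : IsSyl 𝒟 ⊤ toSubgroup

namespace Syl

variable {𝒟 : Set L}

instance : CoeOut (Syl 𝒟) (Subgroup L) := ⟨Syl.toSubgroup⟩

@[ext]
theorem ext {S T : Syl 𝒟} (h : (S : Subgroup L) = T) : S = T := by
  cases S; cases T; cases h; rfl

theorem ds (T : Syl 𝒟) : DS 𝒟 (T : Subgroup L) := ⟨T.isSyl.two, T.isSyl.sub⟩

theorem mem (T : Syl 𝒟) {x : L} (hx : x ∈ (T : Subgroup L)) : x ∈ 𝒟 := T.isSyl.sub x hx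

end Syl

theorem isSyl_top_conj {𝒟 : Set L} (h : IsClosedFam 𝒟) {T : Subgroup L} (hT : IsSyl 𝒟 ⊤ T) (g : L) :
    IsSyl 𝒟 ⊤ (T.map (MulAut.conj g).toMonoidHom) := by
  have := hT.map_conj h g
  rwa [Subgroup.map_top_of_surjective _ (MulAut.conj g).surjective] at this

section Fact

variable {𝒟 : Set L} [h𝒟 : Fact (IsClosedFam 𝒟)]

instance : MulAction L (Syl 𝒟) where
  smul g T := ⟨(T : Subgroup L).map (MulAut.conj g).toMonoidHom, isSyl_top_conj h𝒟.out T.isSyl g⟩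
  one_smul T := Syl.ext (map_conj_one _)
  mul_smul g k T := Syl.ext (map_conj_map_conj _ k g).symm

theorem coe_smul_syl (T : Syl 𝒟) (g : L) :
    ((g • T : Syl 𝒟) : Subgroup L) = (T : Subgroup L).map (MulAut.conj g).toMonoidHom := rfl

theorem mem_smul_syl {T : Syl 𝒟} {g x : L} :
    x ∈ ((g • T : Syl 𝒟) : Subgroup L) ↔ g⁻¹ * x * g ∈ (T : Subgroup L) := by
  rw [coe_smul_syl, mem_map_conj]

theorem smul_eq_iff_mem_normalizer {T : Syl 𝒟} {g : L} :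
    g • T = T ↔ g ∈ normalizer ((T : Subgroup L) : Set L) := by
  rw [mem_normalizer_iff_map_conj, ← coe_smul_syl]
  exact ⟨fun h => by rw [h], fun h => Syl.ext h⟩

theorem card_smul (T : Syl 𝒟) (g : L) :
    Nat.card ((g • T : Syl 𝒟) : Subgroup L) = Nat.card (T : Subgroup L) := by
  rw [coe_smul_syl, card_map_conj]

variable [Finite L]

theorem DS.exists_le_syl {Q : Subgroup L} (hQ : DS 𝒟 Q) : ∃ T : Syl 𝒟, Q ≤ (T : Subgroup L) := by
  obtain ⟨R, hR, hR'⟩ := exists_isSyl h𝒟.out (H := ⊤) le_top hQ.1 hQ.2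
  exact ⟨⟨R, hR'⟩, hR⟩

theorem is_maximal (T : Syl 𝒟) {Q : Subgroup L} (hQ : DS 𝒟 Q) (hTQ : (T : Subgroup L) ≤ Q) :
    Q = (T : Subgroup L) :=
  (Subgroup.eq_of_le_of_card_ge hTQ (T.isSyl.card_le le_top hQ.1 hQ.2)).symm

theorem exists_smul_le (T : Syl 𝒟) {Q : Subgroup L} (hQ : DS 𝒟 Q) :
    ∃ g : L, Q.map (MulAut.conj g).toMonoidHom ≤ (T : Subgroup L) := by
  obtain ⟨g, -, hg⟩ := T.isSyl.conj Q le_top hQ.1 hQ.2
  exact ⟨g, hg⟩

theorem exists_smul_eq (T T' : Syl 𝒟) : ∃ g : L, g • T = T' := by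
  obtain ⟨g, hg⟩ := exists_smul_le T' T.ds
  refine ⟨g, Syl.ext ?_⟩
  exact (is_maximal (g • T) T'.ds hg).symm

theorem card_eq_card (T T' : Syl 𝒟) : Nat.card (T : Subgroup L) = Nat.card (T' : Subgroup L) := by
  obtain ⟨g, rfl⟩ := exists_smul_eq T T'
  exact (card_smul T g).symm

/-- conjugacy inside a subgroup containing `T` -/
theorem isSyl_of_le (T : Syl 𝒟) {H : Subgroup L} (hT : (T : Subgroup L) ≤ H) : IsSyl 𝒟 H (T : Subgroup L) := by
  obtain ⟨R, hTR, hR⟩ := exists_isSyl h𝒟.out (H := H) hT T.ds.1 T.ds.2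
  have h1 := is_maximal T (Q := R) ⟨hR.two, hR.sub⟩ hTR
  rwa [h1] at hR

theorem exists_conj_le_of_le (T : Syl 𝒟) (H Q : Subgroup L) (hT : (T : Subgroup L) ≤ H) (hQ : DS 𝒟 Q)
    (hQH : Q ≤ H) : ∃ c ∈ H, ∀ v ∈ Q, c * v * c⁻¹ ∈ (T : Subgroup L) := by
  obtain ⟨c, hc, hcQ⟩ := (isSyl_of_le T hT).conj Q hQH hQ.1 hQ.2
  exact ⟨c, hc, fun v hv => hcQ ⟨v, hv, rfl⟩⟩

/-! ### commuting elements -/

omit h𝒟 [Finite L] in
theorem isPGroup_sup_of_comm {P Q : Subgroup L} (hP : IsPGroup 2 P) (hQ : IsPGroup 2 Q)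
    (hc : ∀ x ∈ P, ∀ y ∈ Q, x * y = y * x) : IsPGroup 2 (P ⊔ Q : Subgroup L) := by
  refine IsPGroup.to_sup_of_normal_right' hP hQ ?_
  intro x hx
  rw [mem_normalizer_iff]
  intro y
  constructor
  · intro hy
    rw [hc x hx y hy, mul_inv_cancel_right]; exact hy
  · intro hy
    have h1 := hc x hx _ hy
    have e : y = x * y * x⁻¹ := by
      have h5 : x * (x * y * x⁻¹) = x * y := by rw [h1]; group
      exact (mul_left_cancel h5).symm
    rw [e]; exact hy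

omit [Finite L] in
/-- commuting `𝒟`-subgroups generate a `𝒟`-subgroup -/
theorem DS.sup_of_comm {P Q : Subgroup L} (hP : DS 𝒟 P) (hQ : DS 𝒟 Q)
    (hc : ∀ x ∈ P, ∀ y ∈ Q, x * y = y * x) : DS 𝒟 (P ⊔ Q) := by
  have h1 := isPGroup_sup_of_comm hP.1 hQ.1 hc
  refine ⟨h1, ?_⟩
  have h2 : P ⊔ Q ≤ fam 𝒟 (P ⊔ Q) := sup_le (fun x hx => mem_fam (hP.2 x hx) (mem_sup_left hx))
    (fun x hx => mem_fam (hQ.2 x hx) (mem_sup_right hx))
  intro x hx
  exact ((h𝒟.out.mem_fam_iff h1).1 (h2 hx)).1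

omit [Finite L] in
theorem ds_zpowers {x : L} (hx : x ∈ 𝒟) : DS 𝒟 (zpowers x) :=
  ⟨h𝒟.out.isPGroup_zpowers hx, fun _ hy => h𝒟.out.zpowers_subset hx hy⟩

/-- elements of `𝒟` normalising `T` lie in `T` -/
theorem mem_of_mem_normalizer (T : Syl 𝒟) {x : L} (hx : x ∈ 𝒟)
    (hn : x ∈ normalizer ((T : Subgroup L) : Set L)) : x ∈ (T : Subgroup L) := by
  have h1 : IsPGroup 2 (zpowers x ⊔ (T : Subgroup L) : Subgroup L) :=
    IsPGroup.to_sup_of_normal_right' (ds_zpowers hx).1 T.ds.1 (by rw [zpowers_le]; exact hn)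
  have h2 : zpowers x ⊔ (T : Subgroup L) ≤ fam 𝒟 (zpowers x ⊔ (T : Subgroup L)) :=
    sup_le (fun y hy => mem_fam ((ds_zpowers hx).2 y hy) (mem_sup_left hy))
    (fun y hy => mem_fam (T.mem hy) (mem_sup_right hy))
  have h3 : DS 𝒟 (zpowers x ⊔ (T : Subgroup L)) :=
    ⟨h1, fun y hy => ((h𝒟.out.mem_fam_iff h1).1 (h2 hy)).1⟩
  have h4 := is_maximal T h3 le_sup_right
  rw [← h4]
  exact mem_sup_left (mem_zpowers x)

omit [Finite L] in
theorem mul_mem_of_commute {x y : L} (hx : x ∈ 𝒟) (hy : y ∈ 𝒟) (hc : Commute x y) : x * y ∈ 𝒟 := by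
  have h1 : DS 𝒟 (zpowers x ⊔ zpowers y) := by
    refine (ds_zpowers hx).sup_of_comm (ds_zpowers hy) ?_
    intro a ha b hb
    obtain ⟨m, rfl⟩ := mem_zpowers_iff.1 ha
    obtain ⟨n, rfl⟩ := mem_zpowers_iff.1 hb
    exact (hc.zpow_zpow m n).eq
  exact h1.2 _ (mul_mem (mem_sup_left (mem_zpowers x)) (mem_sup_right (mem_zpowers y)))

omit [Finite L] in
theorem smul_mem_fam {x : L} (hx : x ∈ 𝒟) (g : L) : g * x * g⁻¹ ∈ 𝒟 := h𝒟.out.conj_mem x hx g

/-- two involutions of `𝒟` with product of even order commute with a common involution of `𝒟`. -/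
theorem exists_commuting_involution_mem (a b : L) (ha : orderOf a = 2) (hb : orderOf b = 2)
    (haD : a ∈ 𝒟) (hbD : b ∈ 𝒟) (hab : ¬ Odd (orderOf (a * b))) :
    ∃ z ∈ 𝒟, orderOf z = 2 ∧ Commute z a ∧ Commute z b := by
  have ha' : a * a = 1 := mul_self_of_orderOf ha
  have hb' : b * b = 1 := mul_self_of_orderOf hb
  have hai : a⁻¹ = a := inv_eq_self_of_orderOf ha
  have hbi : b⁻¹ = b := inv_eq_self_of_orderOf hb
  obtain ⟨m, hm⟩ : Even (orderOf (a * b)) := Nat.not_odd_iff_even.1 hab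
  have hpos : 0 < orderOf (a * b) := orderOf_pos _
  have hm0 : 0 < m := by omega
  set z := (a * b) ^ m with hz
  have hz2 : z * z = 1 := by
    rw [hz, ← pow_add, ← hm, pow_orderOf_eq_one]
  have hz1 : z ≠ 1 := by
    intro e
    have h1 : orderOf (a * b) ∣ m := orderOf_dvd_of_pow_eq_one e
    have := Nat.le_of_dvd hm0 h1
    omega
  have hzo : orderOf z = 2 := orderOf_eq_two_of_mul_self hz2 hz1
  have hzi : z⁻¹ = z := inv_eq_self_of_orderOf hzo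
  -- conjugation by `a` inverts `a b`
  have hinv : ∀ k : ℕ, a * (a * b) ^ k * a⁻¹ = ((a * b) ^ k)⁻¹ := by
    intro k
    rw [← conj_pow, ← inv_pow]
    congr 1
    rw [mul_inv_rev, hai, hbi, ← mul_assoc, ha', one_mul]
  have hza : Commute z a := by
    have h1 := hinv m
    rw [← hz, hzi] at h1
    change z * a = a * z
    calc z * a = (a * z * a⁻¹) * a := by rw [h1]
      _ = a * z := by group
  have hzb : Commute z b := by
    have h1 : Commute z (a * b) := (Commute.refl (a * b)).pow_left m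
    have h2 : b = a⁻¹ * (a * b) := by group
    rw [h2]
    exact hza.inv_right.mul_right h1
  -- `a z` is a conjugate of `a` or `b`
  have hkey : ∀ k : ℕ, a * (a * b) ^ (2 * k) ∈ 𝒟 ∧ a * (a * b) ^ (2 * k + 1) ∈ 𝒟 := by
    intro k
    have e1 : a * (a * b) ^ k = ((a * b) ^ k)⁻¹ * a := by
      have := hinv k
      rw [← this]; group
    constructor
    · have h1 := smul_mem_fam haD ((a * b) ^ k)⁻¹
      have e2 : ((a * b) ^ k)⁻¹ * a * (((a * b) ^ k)⁻¹)⁻¹ = a * (a * b) ^ (2 * k) := by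
        rw [← e1, inv_inv, two_mul, pow_add, mul_assoc]
      rwa [e2] at h1
    · have h1 := smul_mem_fam hbD ((a * b) ^ k)⁻¹
      have e2 : ((a * b) ^ k)⁻¹ * b * (((a * b) ^ k)⁻¹)⁻¹ = a * (a * b) ^ (2 * k + 1) := by
        calc ((a * b) ^ k)⁻¹ * b * (((a * b) ^ k)⁻¹)⁻¹
            = ((a * b) ^ k)⁻¹ * (a * a) * b * (a * b) ^ k := by rw [ha', inv_inv, mul_one]
          _ = (((a * b) ^ k)⁻¹ * a) * (a * b) * (a * b) ^ k := by simp only [mul_assoc]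
          _ = a * ((a * b) ^ k * (a * b) * (a * b) ^ k) := by rw [← e1]; simp only [mul_assoc]
          _ = a * (a * b) ^ (2 * k + 1) := by
              rw [← pow_succ, ← pow_add]; congr 2; ring
      rwa [e2] at h1
  have haz : a * z ∈ 𝒟 := by
    rw [hz]
    obtain ⟨k, hk | hk⟩ := Nat.even_or_odd' m
    · rw [hk]; exact (hkey k).1
    · rw [hk]; exact (hkey k).2
  refine ⟨z, ?_, hzo, hza, hzb⟩
  have h1 : a * (a * z) = z := by rw [← mul_assoc, ha', one_mul]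
  rw [← h1]
  refine mul_mem_of_commute haD haz ?_
  exact (Commute.refl a).mul_right hza.symm

end Fact

/-! ### images and restrictions -/

theorem isSyl_image [Finite L] {K : Type*} [Group K] {𝒟 : Set L} (h : IsClosedFam 𝒟) {f : L →* K}
    (hf : Function.Surjective f) {T : Subgroup L} (hT : IsSyl 𝒟 ⊤ T) :
    IsSyl (f '' 𝒟) ⊤ (T.map f) := by
  refine ⟨le_top, hT.two.map f, ?_, ?_⟩
  · rintro _ ⟨x, hx, rfl⟩
    exact ⟨x, hT.sub x hx, rfl⟩
  · intro Q' _ hQ' hQ'D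
    obtain ⟨Q, hQ, hQQ, hlift⟩ := exists_lift hf Q' hQ'
    -- `Q'` is covered by `fam 𝒟 Q`
    obtain ⟨n, -, hn⟩ := hT.conj (fam 𝒟 Q) le_top (isPGroup_fam 𝒟 hQ)
      (fun x hx => ((h.mem_fam_iff hQ).1 hx).1)
    refine ⟨f n, mem_top _, ?_⟩
    rintro _ ⟨y, hy, rfl⟩
    obtain ⟨x, hx, rfl⟩ := hQ'D y hy
    obtain ⟨m, hm, hmx⟩ := hlift x (h.isPGroup_zpowers hx) hy
    rw [MonoidHom.mem_ker] at hm
    have h1 : m * x * m⁻¹ ∈ fam 𝒟 Q := mem_fam (h.conj_mem x hx m) hmx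
    refine ⟨n * (m * x * m⁻¹) * n⁻¹, hn ⟨_, h1, rfl⟩, ?_⟩
    simp [hm]

theorem isSyl_restrict {𝒟 : Set L} {H T : Subgroup L} (hT : IsSyl 𝒟 H T) :
    IsSyl {x : H | (x : L) ∈ 𝒟} ⊤ (T.subgroupOf H) := by
  refine ⟨le_top, hT.two.comap_of_injective H.subtype H.subtype_injective, fun x hx => hT.sub _ hx, ?_⟩
  intro Q _ hQ hQD
  obtain ⟨n, hn, hnQ⟩ := hT.conj (Q.map H.subtype) (by rintro _ ⟨x, -, rfl⟩; exact x.2) (hQ.map _) (by
    rintro _ ⟨x, hx, rfl⟩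
    exact hQD x hx)
  refine ⟨⟨n, hn⟩, mem_top _, ?_⟩
  rintro _ ⟨x, hx, rfl⟩
  rw [mem_subgroupOf]
  exact hnQ ⟨(x : L), ⟨x, hx, rfl⟩, rfl⟩

end Cfsg.Agent.ClassTwoFusion.RelSyl
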