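import Mathlib
import Cfsg.Agent.ClassTwoFusion.Local
import Cfsg.Agent.ClassTwoFusion.RelSyl

/-!
# The local subgroup of an essential subgroup, relative to a closed family

`𝒜` is a closed family, `P : Syl 𝒜` a maximal 2-subgroup contained in `𝒜`, of class two, and `E` an essential
subgroup of `P`.
-/

set_option autoImplicit false

namespace Cfsg.Agent.ClassTwoFusion.RelLocal

open Subgroup Cfsg.Agent.ClassTwoFusion.Gen Cfsg.Agent.ClassTwoFusion.RelAlperin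
open Cfsg.Agent.TwoFusion.ClosedFam Cfsg.Agent.ClassTwoFusion.RelSyl
open Cfsg.Agent.ClassTwoFusion.Local (ncl le_ncl conj_mem_ncl ncl_le ncl_le_of_le oddGen oddGen_le mem_oddGen
  conj_mem_oddGen actTriv conj_mem_actTriv Cl2 Zc Om mem_Zc mem_Om Om_le_Zc Zc_le VF VV XX BB)

variable {G : Type*} [Group G] {𝒜 : Set G}

section Fact

variable [h𝒜 : Fact (IsClosedFam 𝒜)] [Finite G]

theorem ds_map {R : Subgroup G} (hR : DS 𝒜 R) (x : G) : DS 𝒜 (R.map (MulAut.conj x).toMonoidHom) := by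
  refine ⟨hR.1.map _, ?_⟩
  rintro _ ⟨r, hr, rfl⟩
  exact smul_mem_fam (hR.2 r hr) x

omit h𝒜 in
theorem not_dvd_relIndex_in {p : ℕ} [Fact p.Prime] {M S K : Subgroup G} (hS : IsPGroup p S)
    (hSi : ¬ p ∣ S.relIndex M) (hKM : K ≤ M) (hn : ∀ m ∈ M, ∀ k ∈ K, m * k * m⁻¹ ∈ K) :
    ¬ p ∣ S.relIndex K := by
  obtain ⟨R, -, hRK, hR, hRi⟩ := Cfsg.Agent.Lib.GoldschmidtFusion.exists_sylow_in (p := p)
    (N := K) (D := ⊥) bot_le IsPGroup.of_bot
  obtain ⟨m, hm, hmR⟩ := Cfsg.Agent.Lib.GoldschmidtFusion.exists_conj_le_in (p := p) hS hSi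
    (hRK.trans hKM) hR
  have hmK : K.map (MulAut.conj m).toMonoidHom = K := by
    refine Cfsg.Agent.Lib.GoldschmidtFusion.map_conj_le_of_le_normalizer ?_
    rintro _ ⟨k, hk, rfl⟩
    exact hn m hm k hk
  have h1 : (R.map (MulAut.conj m).toMonoidHom).relIndex K = R.relIndex K := by
    nth_rewrite 1 [← hmK]
    exact relIndex_map_map_of_injective _ _ (MulAut.conj m).injective
  intro hdvd
  apply hRi
  rw [← h1]
  exact hdvd.trans (relIndex_dvd_of_le_left K hmR)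

/-- Frattini argument, elementwise. -/
theorem exists_mul_conj' (P : Syl 𝒜) {K R : Subgroup G}
    (hK : ∀ y ∈ (P : Subgroup G), ∀ k ∈ K, y * k * y⁻¹ ∈ K) (hR : DS 𝒜 R) {x : G}
    (hx : ∀ r ∈ R, x * r * x⁻¹ ∈ K ⊔ (P : Subgroup G)) :
    ∃ k ∈ K, ∀ r ∈ R, (k * x) * r * (k * x)⁻¹ ∈ (P : Subgroup G) := by
  obtain ⟨c, hc, hcR⟩ := exists_conj_le_of_le P
    (K ⊔ (P : Subgroup G)) (R.map (MulAut.conj x).toMonoidHom) le_sup_right (ds_map hR x) (by
      rintro _ ⟨r, hr, rfl⟩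
      exact hx r hr)
  obtain ⟨y, hy, k, hk, rfl⟩ := exists_mul_of_mem_sup hK hc
  refine ⟨k, hk, fun r hr => ?_⟩
  have h1 := hcR (x * r * x⁻¹) ⟨r, hr, rfl⟩
  have h2 := mul_mem (mul_mem (inv_mem hy) h1) hy
  have e : y⁻¹ * (y * k * (x * r * x⁻¹) * (y * k)⁻¹) * y = (k * x) * r * (k * x)⁻¹ := by group
  rwa [e] at h2

end Fact

structure Setup (P : Syl 𝒜) (E : Subgroup G) : Prop where
  cl : Cl2 (P : Subgroup G)
  ess : IsEss 𝒜 (P : Subgroup G) E

namespace Setup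

variable [h𝒜 : Fact (IsClosedFam 𝒜)] [Finite G] {P : Syl 𝒜} {E : Subgroup G} (h : Setup P E)
include h

omit h h𝒜 [Finite G] in
theorem comm_mem_Zc (hcl : Cl2 (P : Subgroup G)) {x y : G} (hx : x ∈ (P : Subgroup G))
    (hy : y ∈ (P : Subgroup G)) : x * y * x⁻¹ * y⁻¹ ∈ Zc (P : Subgroup G) :=
  mem_Zc.2 ⟨mul_mem (mul_mem (mul_mem hx hy) (inv_mem hx)) (inv_mem hy),
    fun z hz => (hcl x hx y hy z hz).symm⟩

theorem Zc_le_E : Zc (P : Subgroup G) ≤ E := by
  intro z hz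
  refine h.ess.cent ⟨centralizer_le (by exact_mod_cast h.ess.lt.le) hz.1, hz.2⟩

theorem E_le : E ≤ (P : Subgroup G) := h.ess.lt.le

theorem isPGroup_E : IsPGroup 2 E := P.ds.1.to_le h.E_le

theorem P_le_N : (P : Subgroup G) ≤ normalizer (E : Set G) := by
  have key : ∀ x ∈ (P : Subgroup G), ∀ e ∈ E, x * e * x⁻¹ ∈ E := by
    intro x hx e he
    have h1 := mul_mem (h.Zc_le_E (comm_mem_Zc h.cl hx (h.E_le he))) he
    have e1 : x * e * x⁻¹ * e⁻¹ * e = x * e * x⁻¹ := by group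
    rwa [e1] at h1
  intro x hx
  rw [mem_normalizer_iff]
  intro e
  refine ⟨key x hx e, fun he => ?_⟩
  have := key x⁻¹ (inv_mem hx) _ he
  have e1 : x⁻¹ * (x * e * x⁻¹) * x⁻¹⁻¹ = e := by group
  rwa [e1] at this

theorem E_conj {n e : G} (hn : n ∈ normalizer (E : Set G)) (he : e ∈ E) : n * e * n⁻¹ ∈ E :=
  (mem_normalizer_iff.1 hn e).1 he

theorem VF_le_E : VF (P : Subgroup G) E ≤ E := ncl_le fun _ hn _ ha => h.E_conj hn (h.Zc_le_E ha)

theorem VF_comm_E : ∀ v ∈ VF (P : Subgroup G) E, ∀ e ∈ E, v * e = e * v := by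
  have h1 : VF (P : Subgroup G) E ≤ centralizer (E : Set G) := by
    refine ncl_le fun n hn a ha => ?_
    rw [mem_centralizer_iff]
    intro e he
    have he' : n⁻¹ * e * n ∈ E := by simpa using h.E_conj (inv_mem hn) he
    have h2 := (mem_Zc.1 ha).2 _ (h.E_le he')
    calc e * (n * a * n⁻¹) = n * ((n⁻¹ * e * n) * a) * n⁻¹ := by group
      _ = n * a * n⁻¹ * e := by rw [h2]; group
  intro v hv e he
  exact (mem_centralizer_iff.1 (h1 hv) e he).symm

theorem VF_comm : ∀ v ∈ VF (P : Subgroup G) E, ∀ w ∈ VF (P : Subgroup G) E, v * w = w * v :=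
  fun v hv w hw => h.VF_comm_E v hv w (h.VF_le_E hw)

theorem mem_VV {v : G} : v ∈ VV (P : Subgroup G) E ↔ v ∈ VF (P : Subgroup G) E ∧ v * v = 1 := by
  constructor
  · intro hv
    let M : Subgroup G :=
      { carrier := {v | v ∈ VF (P : Subgroup G) E ∧ v * v = 1}
        one_mem' := ⟨one_mem _, by simp⟩
        mul_mem' := by
          rintro a b ⟨ha, ha'⟩ ⟨hb, hb'⟩
          refine ⟨mul_mem ha hb, ?_⟩
          calc a * b * (a * b) = a * (b * a) * b := by group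
            _ = (a * a) * (b * b) := by rw [h.VF_comm b hb a ha]; group
            _ = 1 := by rw [ha', hb', mul_one]
        inv_mem' := by
          rintro a ⟨ha, ha'⟩
          refine ⟨inv_mem ha, ?_⟩
          have : a⁻¹ = a := inv_eq_of_mul_eq_one_right ha'
          rw [this]; exact ha' }
    have h1 : VV (P : Subgroup G) E ≤ M := by
      unfold VV; rw [closure_le]; exact fun v hv => hv
    exact h1 hv
  · intro hv; exact subset_closure hv

theorem VV_le_VF : VV (P : Subgroup G) E ≤ VF (P : Subgroup G) E := fun _ hv => (h.mem_VV.1 hv).1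

theorem VV_le_E : VV (P : Subgroup G) E ≤ E := h.VV_le_VF.trans h.VF_le_E

theorem VV_sq {v : G} (hv : v ∈ VV (P : Subgroup G) E) : v * v = 1 := (h.mem_VV.1 hv).2

theorem VV_comm_E {v e : G} (hv : v ∈ VV (P : Subgroup G) E) (he : e ∈ E) : v * e = e * v :=
  h.VF_comm_E v (h.VV_le_VF hv) e he

omit h h𝒜 [Finite G] in
theorem VF_conj {P E : Subgroup G} {n v : G} (hn : n ∈ normalizer (E : Set G)) (hv : v ∈ VF P E) :
    n * v * n⁻¹ ∈ VF P E := conj_mem_ncl hn hv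

theorem VV_conj {n v : G} (hn : n ∈ normalizer (E : Set G)) (hv : v ∈ VV (P : Subgroup G) E) :
    n * v * n⁻¹ ∈ VV (P : Subgroup G) E := by
  rw [h.mem_VV] at hv ⊢
  refine ⟨VF_conj hn hv.1, ?_⟩
  have e1 : n * v * n⁻¹ * (n * v * n⁻¹) = n * (v * v) * n⁻¹ := by group
  rw [e1, hv.2]; simp

theorem Zc_le_VF : Zc (P : Subgroup G) ≤ VF (P : Subgroup G) E := le_ncl _ _

theorem Om_le_VV : Om (P : Subgroup G) ≤ VV (P : Subgroup G) E := fun _ hv =>
  h.mem_VV.2 ⟨h.Zc_le_VF hv.1, hv.2⟩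

theorem P_le_XX : (P : Subgroup G) ≤ XX (P : Subgroup G) E := le_ncl _ _

theorem XX_le_N : XX (P : Subgroup G) E ≤ normalizer (E : Set G) :=
  ncl_le fun _ hn _ ha => mul_mem (mul_mem hn (h.P_le_N ha)) (inv_mem hn)

omit h h𝒜 [Finite G] in
theorem XX_conj {P E : Subgroup G} {n x : G} (hn : n ∈ normalizer (E : Set G)) (hx : x ∈ XX P E) :
    n * x * n⁻¹ ∈ XX P E := conj_mem_ncl hn hx

/-- `[E, X] ≤ VF` -/
theorem comm_XX_mem {x e : G} (hx : x ∈ XX (P : Subgroup G) E) (he : e ∈ E) :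
    x * e * x⁻¹ * e⁻¹ ∈ VF (P : Subgroup G) E := by
  have h1 : XX (P : Subgroup G) E ≤ actTriv (normalizer (E : Set G)) E (VF (P : Subgroup G) E)
      (fun n hn e he => h.E_conj hn he) (fun n hn v hv => VF_conj hn hv) :=
    ncl_le_of_le (fun y hy => ⟨h.P_le_N hy, fun e he =>
      h.Zc_le_VF (comm_mem_Zc h.cl hy (h.E_le he))⟩)
      (fun n hn a ha => conj_mem_actTriv _ _ hn ha)
  exact (h1 hx).2 e he

/-- odd elements trivial on `VV` are trivial on `E` -/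
theorem odd_centralizes {y : G} (hy : y ∈ XX (P : Subgroup G) E) (hodd : Odd (orderOf y))
    (hyV : ∀ v ∈ VV (P : Subgroup G) E, y * v * y⁻¹ = v) : ∀ e ∈ E, y * e * y⁻¹ = e := by
  have hyN := h.XX_le_N hy
  have h1 := odd_omega (M := VF (P : Subgroup G) E) (h.isPGroup_E.to_le h.VF_le_E) h.VF_comm hodd
    (fun a ha => VF_conj hyN ha) (fun a ha ha' => hyV a (h.mem_VV.2 ⟨ha, ha'⟩))
  intro e he
  have h2 := h.comm_XX_mem hy he
  have e1 : y * e * y⁻¹ = (y * e * y⁻¹ * e⁻¹) * e := by group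
  have h3 := eq_of_odd_of_fixed h.isPGroup_E (h.VF_le_E h2) hodd e1 (h1 _ h2)
  rw [e1, h3, one_mul]

/-- `P` acts quadratically on `VV`. -/
theorem comm_VV_mem_Om {x v : G} (hx : x ∈ (P : Subgroup G)) (hv : v ∈ VV (P : Subgroup G) E) :
    x * v * x⁻¹ * v⁻¹ ∈ Om (P : Subgroup G) := by
  have h1 := comm_mem_Zc h.cl hx (h.E_le (h.VV_le_E hv))
  have h2 : x * v * x⁻¹ * v⁻¹ ∈ VV (P : Subgroup G) E :=
    mul_mem (h.VV_conj (h.P_le_N hx) hv) (inv_mem hv)
  exact ⟨h1, h.VV_sq h2⟩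

theorem sq_comm_VV {x v : G} (hx : x ∈ (P : Subgroup G)) (hv : v ∈ VV (P : Subgroup G) E) :
    (x * x) * v * (x * x)⁻¹ = v := by
  set c := x * v * x⁻¹ * v⁻¹ with hc
  have hcO := h.comm_VV_mem_Om hx hv
  have h1 : x * v * x⁻¹ = c * v := by rw [hc]; group
  have h2 : x * c = c * x := (mem_Om.1 hcO).2.1 x hx
  have h3 : c * c = 1 := (mem_Om.1 hcO).2.2
  calc (x * x) * v * (x * x)⁻¹ = x * (x * v * x⁻¹) * x⁻¹ := by group
    _ = (x * c) * v * x⁻¹ := by rw [h1]; group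
    _ = c * (x * v * x⁻¹) := by rw [h2]; group
    _ = (c * c) * v := by rw [h1]; group
    _ = v := by rw [h3, one_mul]

theorem conj_mem_cent {n x : G} (hn : n ∈ normalizer (E : Set G))
    (hx : x ∈ centralizer (VV (P : Subgroup G) E : Set G)) :
    n * x * n⁻¹ ∈ centralizer (VV (P : Subgroup G) E : Set G) := by
  rw [mem_centralizer_iff] at hx ⊢
  intro v hv
  have hv' : n⁻¹ * v * n ∈ VV (P : Subgroup G) E := by
    simpa using h.VV_conj (inv_mem hn) hv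
  have := hx _ hv'
  calc v * (n * x * n⁻¹) = n * ((n⁻¹ * v * n) * x) * n⁻¹ := by group
    _ = n * x * n⁻¹ * v := by rw [this]; group

/-! ### `C_P(V) = E` -/

/-- the group `K = C_X(V)` -/
def KK (P E : Subgroup G) : Subgroup G := XX P E ⊓ centralizer (VV P E : Set G)

theorem KK_conj {n x : G} (hn : n ∈ normalizer (E : Set G)) (hx : x ∈ KK (P : Subgroup G) E) :
    n * x * n⁻¹ ∈ KK (P : Subgroup G) E :=
  mem_inf.2 ⟨XX_conj hn hx.1, h.conj_mem_cent hn hx.2⟩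

theorem XC_conj {n x : G} (hn : n ∈ normalizer (E : Set G))
    (hx : x ∈ XX (P : Subgroup G) E ⊓ centralizer (E : Set G)) :
    n * x * n⁻¹ ∈ XX (P : Subgroup G) E ⊓ centralizer (E : Set G) := by
  refine mem_inf.2 ⟨XX_conj hn hx.1, ?_⟩
  have h1 := mem_centralizer_iff.1 hx.2
  refine mem_centralizer_iff.2 fun e he => ?_
  have he' : n⁻¹ * e * n ∈ E := by simpa using h.E_conj (inv_mem hn) he
  have h2 := h1 _ he'
  calc e * (n * x * n⁻¹) = n * ((n⁻¹ * e * n) * x) * n⁻¹ := by group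
    _ = n * x * n⁻¹ * e := by rw [h2]; group

/-- `K = R C_X(E)` with a 2-group `R` normalising `P`. -/
theorem exists_R : ∃ R : Subgroup G, IsPGroup 2 R ∧ R ≤ KK (P : Subgroup G) E ∧
    R ≤ normalizer ((P : Subgroup G) : Set G) ∧
    KK (P : Subgroup G) E ≤ R ⊔ (XX (P : Subgroup G) E ⊓ centralizer (E : Set G)) := by
  haveI : Fact (Nat.Prime 2) := ⟨Nat.prime_two⟩
  -- `S₁` a Sylow 2-subgroup of `K P` containing `P`
  obtain ⟨S₁, hPS₁, hS₁, hS₁p, hS₁i⟩ := Cfsg.Agent.Lib.GoldschmidtFusion.exists_sylow_in (p := 2)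
    (N := KK (P : Subgroup G) E ⊔ (P : Subgroup G)) (D := (P : Subgroup G)) le_sup_right P.ds.1
  have hPK : ∀ y ∈ (P : Subgroup G), ∀ k ∈ KK (P : Subgroup G) E, y * k * y⁻¹ ∈ KK (P : Subgroup G) E :=
    fun y hy k hk => h.KK_conj (h.P_le_N hy) hk
  refine ⟨S₁ ⊓ KK (P : Subgroup G) E, hS₁p.to_le inf_le_left, inf_le_right, ?_, ?_⟩
  · -- `P = 𝒜 ∩ S₁`
    have h1 : fam 𝒜 S₁ = (P : Subgroup G) := by
      refine is_maximal P ⟨isPGroup_fam 𝒜 hS₁p, fun x hx => ((h𝒜.out.mem_fam_iff hS₁p).1 hx).1⟩ ?_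
      exact fun x hx => mem_fam (P.mem hx) (hPS₁ hx)
    have h2 := h𝒜.out.le_normalizer_fam S₁
    rw [h1] at h2
    exact inf_le_left.trans h2
  · refine le_sup_of_pPrime (p := 2) inf_le_right ?_ ?_ ?_
    · exact inf_le_inf_left _ (centralizer_le (by exact_mod_cast h.VV_le_E))
    · rw [inf_relIndex_right]
      refine not_dvd_relIndex_in hS₁p hS₁i le_sup_left ?_
      intro m hm k hk
      obtain ⟨y, hy, k', hk', rfl⟩ := exists_mul_of_mem_sup hPK hm
      exact h.KK_conj (mul_mem (h.P_le_N hy) (h.XX_le_N hk'.1)) hk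
    · rintro x ⟨hx1, hx2⟩ hx3
      refine ⟨hx1, ?_⟩
      refine SetLike.mem_coe.2 (mem_centralizer_iff.2 ?_)
      intro e he
      have h1 := h.odd_centralizes hx1 (Nat.coprime_two_right.1 hx3) (fun v hv => by
        rw [← mem_centralizer_iff.1 hx2 v hv]; group) e he
      calc e * x = (x * e * x⁻¹) * x := by rw [h1]
        _ = x * e := by group

theorem P_le_star : (P : Subgroup G) ≤ star (P : Subgroup G) E := by
  intro x hx
  refine mem_star (h.P_le_N hx) h.ess.lt le_rfl ?_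
  rintro _ ⟨y, hy, rfl⟩
  exact mul_mem (mul_mem hx hy) (inv_mem hx)

theorem inf_normalizer_P_le_star :
    normalizer (E : Set G) ⊓ normalizer ((P : Subgroup G) : Set G) ≤ star (P : Subgroup G) E := by
  rintro x ⟨hx1, hx2⟩
  refine mem_star hx1 h.ess.lt le_rfl ?_
  rw [Cfsg.Agent.Lib.GoldschmidtFusion.mem_normalizer_iff_map_conj.1 hx2]

/-- elements of `N(E)` normalising a larger subgroup of `P` lie in `E*` -/
theorem mem_star_of_normalizer {Q : Subgroup G} {x : G} (hx : x ∈ normalizer (E : Set G)) (hEQ : E < Q)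
    (hQ : Q ≤ (P : Subgroup G)) (hxQ : ∀ r ∈ Q, x * r * x⁻¹ ∈ (P : Subgroup G)) :
    x ∈ star (P : Subgroup G) E := by
  refine mem_star hx hEQ hQ ?_
  rintro _ ⟨r, hr, rfl⟩
  exact hxQ r hr

theorem K_le_star : KK (P : Subgroup G) E ≤ star (P : Subgroup G) E := by
  obtain ⟨R, hR1, hR2, hR3, hR4⟩ := h.exists_R
  refine hR4.trans (sup_le ?_ ?_)
  · exact (le_inf (hR2.trans (inf_le_left.trans h.XX_le_N)) hR3).trans h.inf_normalizer_P_le_star
  · exact inf_le_right.trans (centralizer_le_star _ _)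

/-- **Claim A**: `C_P(V) = E`. -/
theorem inf_centralizer_eq :
    (P : Subgroup G) ⊓ centralizer (VV (P : Subgroup G) E : Set G) = E := by
  set Q : Subgroup G := (P : Subgroup G) ⊓ centralizer (VV (P : Subgroup G) E : Set G) with hQ
  have hEQ : E ≤ Q := by
    refine le_inf h.E_le ?_
    intro e he
    rw [mem_centralizer_iff]
    intro v hv
    exact h.VV_comm_E hv he
  by_contra hne
  have hlt : E < Q := lt_of_le_of_ne hEQ (Ne.symm hne)
  have hQP : Q ≤ (P : Subgroup G) := inf_le_left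
  apply h.ess.star
  intro n hn
  obtain ⟨k, hk, hkR⟩ := exists_mul_conj' P (K := KK (P : Subgroup G) E) (R := Q) (x := n)
    (fun y hy k hk => h.KK_conj (h.P_le_N hy) hk)
    (P.ds.to_le hQP) (fun r hr => mem_sup_left ⟨XX_conj hn (h.P_le_XX hr.1),
      h.conj_mem_cent hn hr.2⟩)
  have hkN : k ∈ normalizer (E : Set G) := h.XX_le_N hk.1
  have h3 := h.mem_star_of_normalizer (mul_mem hkN hn) hlt hQP hkR
  have h4 : n = k⁻¹ * (k * n) := by group
  rw [h4]
  exact mul_mem (inv_mem (h.K_le_star hk)) h3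

end Setup

end Cfsg.Agent.ClassTwoFusion.RelLocal
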