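import Mathlib
import Cfsg.Agent.ClassTwoFusion.QuadSylow
import Cfsg.Agent.ClassTwoFusion.RelQuad

/-!
# Quadratic offenders are maximal `𝒟`-subgroups (relative version)

`RData` + an offender imply `ND`: for every maximal `𝒟`-subgroup `T` of `L`:
`|V : C_V(T)| = |T|`, `C_V(t) = C_V(T)` for `1 ≠ t ∈ T`.
-/

set_option autoImplicit false

namespace Cfsg.Agent.ClassTwoFusion.RelQuad

open Subgroup Cfsg.Agent.TwoFusion.StronglyEmbeddedBasic
open Cfsg.Agent.TwoFusion.ClosedFam Cfsg.Agent.ClassTwoFusion.RelAlperin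
open Cfsg.Agent.ClassTwoFusion.Quad Cfsg.Agent.ClassTwoFusion.RelSyl
open Cfsg.Agent.ClassTwoFusion.Quad.QData (cv_map_conj index_cv_map_conj cv_singleton index_cv_conj)
open scoped Pointwise

variable {L V : Type*} [Group L] [Group V] [MulDistribMulAction L V]

theorem mem_cv_smul_syl {𝒟 : Set L} [Fact (IsClosedFam 𝒟)] {T : Syl 𝒟} {g : L} {v : V} :
    v ∈ cv V (((g • T : Syl 𝒟) : Subgroup L) : Set L) ↔ g⁻¹ • v ∈ cv V ((T : Subgroup L) : Set L) := by
  constructor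
  · intro hv a ha
    have h1 : g * a * g⁻¹ ∈ ((g • T : Syl 𝒟) : Subgroup L) := by
      have e : g⁻¹ * (g * a * g⁻¹) * g = a := by group
      rw [mem_smul_syl, e]
      exact ha
    have := hv _ h1
    rw [mul_smul, mul_smul] at this
    rw [eq_inv_smul_iff]
    exact this
  · intro hv x hx
    have h1 := hv _ (mem_smul_syl.1 hx)
    rw [mul_smul, mul_smul, smul_smul g g⁻¹, mul_inv_cancel, one_smul] at h1
    have := congrArg (fun w => g • w) h1
    simpa using this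

/-- Conclusion of Lemma N, from which everything else is derived. -/
structure ND {L : Type*} [Group L] (𝒟 : Set L) (V : Type*) [Group V] [MulDistribMulAction L V] : Prop where
  comm : ∀ v w : V, v * w = w * v
  sq : ∀ v : V, v * v = 1
  faith : ∀ x : L, (∀ v : V, x • v = v) → x = 1
  quad : ∀ Q : Subgroup L, DS 𝒟 Q → ∀ x ∈ Q, ∀ y ∈ Q, ∀ v : V, y • d x v = d x v
  index_cv : ∀ T : Syl 𝒟, (cv V ((T : Subgroup L) : Set L)).index = Nat.card (T : Subgroup L)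
  cv_eq : ∀ T : Syl 𝒟, ∀ t ∈ (T : Subgroup L), t ≠ 1 → cv V {t} = cv V ((T : Subgroup L) : Set L)
  exists_ne : ∃ T T' : Syl 𝒟, T ≠ T'

namespace RData

variable {𝒟 : Set L} [h𝒟 : Fact (IsClosedFam 𝒟)] {α : Type*} {f : L → α} (h : RData 𝒟 V f) [Finite L] [Finite V]
include h

/-- All involutions of `𝒟` are conjugate. -/
theorem conj_all (hf : ∃ t s : L, t ∈ 𝒟 ∧ s ∈ 𝒟 ∧ orderOf t = 2 ∧ orderOf s = 2 ∧ f t ≠ f s) {s t : L}
    (hsD : s ∈ 𝒟) (htD : t ∈ 𝒟) (hs : orderOf s = 2) (ht : orderOf t = 2) : ∃ g : L, g * s * g⁻¹ = t := by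
  obtain ⟨t₀, s₀, ht₀D, hs₀D, ht₀, hs₀, hne⟩ := hf
  have key : ∀ a b : L, a ∈ 𝒟 → b ∈ 𝒟 → orderOf a = 2 → orderOf b = 2 → f a ≠ f b →
      ∃ g : L, g * a * g⁻¹ = b := by
    intro a b haD hbD ha hb hab
    obtain ⟨g, -, -, hg, -⟩ := exists_swap a b ha hb (h.odd_of_ne haD hbD ha hb hab)
    exact ⟨g, hg⟩
  by_cases h1 : f s = f t
  · obtain ⟨r, hrD, hr, hrs⟩ : ∃ r, r ∈ 𝒟 ∧ orderOf r = 2 ∧ f s ≠ f r := by
      by_cases h2 : f s = f t₀
      · exact ⟨s₀, hs₀D, hs₀, by rw [h2]; exact hne⟩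
      · exact ⟨t₀, ht₀D, ht₀, h2⟩
    obtain ⟨g, hg⟩ := key s r hsD hrD hs hr hrs
    obtain ⟨k, hk⟩ := key r t hrD htD hr ht (by rw [← h1]; exact hrs.symm)
    exact ⟨k * g, by rw [← hk, ← hg]; group⟩
  · exact key s t hsD htD hs ht h1

theorem offender_top (hf : ∃ t s : L, t ∈ 𝒟 ∧ s ∈ 𝒟 ∧ orderOf t = 2 ∧ orderOf s = 2 ∧ f t ≠ f s)
    {A : Subgroup L} (hA : DS 𝒟 A) (hA1 : A ≠ ⊥) (hoff : (cv V (A : Set L)).index ≤ Nat.card A) :
    (cv V (A : Set L)).index = Nat.card A ∧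
      ∀ a ∈ A, a ≠ 1 → cv V ({a} : Set L) = cv V (A : Set L) := by
  obtain ⟨t, s, h1, h2, h3, h4, h5⟩ := hf
  exact h.offender _ ⊤ le_rfl ⟨t, mem_top _, s, mem_top _, h1, h2, h3, h4, h5⟩ A le_top hA hA1 hoff

/-- A quadratic offender is a maximal `𝒟`-subgroup. -/
theorem eq_syl (hf : ∃ t s : L, t ∈ 𝒟 ∧ s ∈ 𝒟 ∧ orderOf t = 2 ∧ orderOf s = 2 ∧ f t ≠ f s)
    {A : Subgroup L} (hA : DS 𝒟 A) (hA1 : A ≠ ⊥) (hoff : (cv V (A : Set L)).index ≤ Nat.card A)
    (T : Syl 𝒟) (hAT : A ≤ (T : Subgroup L)) : A = T := by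
  apply le_antisymm hAT
  intro t ht
  by_contra htA
  obtain ⟨a₀, ha₀A, ha₀⟩ := (bot_or_exists_ne_one A).resolve_left hA1
  have ha₀2 := h.orderOf_eq_two hA ha₀A ha₀
  have ht1 : t ≠ 1 := fun e => htA (by rw [e]; exact one_mem A)
  have ht2 := h.orderOf_eq_two T.ds ht ht1
  obtain ⟨g, hg⟩ := h.conj_all hf (hA.2 a₀ ha₀A) (T.mem ht) ha₀2 ht2
  set A' : Subgroup L := A.map (MulAut.conj g).toMonoidHom with hA'
  have hconj : ∀ g : L, DS 𝒟 (A.map (MulAut.conj g).toMonoidHom) := by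
    intro g
    refine ⟨hA.1.map _, ?_⟩
    rintro _ ⟨a, ha, rfl⟩
    exact smul_mem_fam (hA.2 a ha) g
  have hA'p : DS 𝒟 A' := hconj g
  have htA' : t ∈ A' := ⟨a₀, ha₀A, hg⟩
  obtain ⟨c, hc, hcA⟩ := exists_conj_le_of_le T
    (centralizer ({t} : Set L)) A' (fun x hx => by
      rw [mem_centralizer_singleton_iff]
      exact h.mul_comm' T.ds hx ht) hA'p (fun x hx => by
      rw [mem_centralizer_singleton_iff]
      exact h.mul_comm' hA'p hx htA')
  set A₂ : Subgroup L := A.map (MulAut.conj (c * g)).toMonoidHom with hA₂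
  have hA₂p : DS 𝒟 A₂ := hconj _
  have hA₂T : A₂ ≤ T := by
    rintro _ ⟨a, ha, rfl⟩
    have := hcA (g * a * g⁻¹) ⟨a, ha, rfl⟩
    have e : (MulAut.conj (c * g)).toMonoidHom a = c * (g * a * g⁻¹) * c⁻¹ := by
      simp [mul_assoc]
    rw [e]; exact this
  have htA₂ : t ∈ A₂ := by
    refine ⟨a₀, ha₀A, ?_⟩
    have e : (MulAut.conj (c * g)).toMonoidHom a₀ = c * (g * a₀ * g⁻¹) * c⁻¹ := by
      simp [mul_assoc]
    rw [e, hg]
    rw [mem_centralizer_singleton_iff] at hc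
    rw [hc]; group
  have hcard₂ : Nat.card A₂ = Nat.card A :=
    Nat.card_congr (A.equivMapOfInjective _ (MulAut.conj (c * g)).injective).toEquiv.symm
  have hind₂ : (cv V (A₂ : Set L)).index = (cv V (A : Set L)).index := index_cv_map_conj A (c * g)
  have hA₂1 : A₂ ≠ ⊥ := fun e => ht1 (by rw [e, mem_bot] at htA₂; exact htA₂)
  obtain ⟨o1, o2⟩ := h.offender_top hf hA hA1 hoff
  obtain ⟨o1', o2'⟩ := h.offender_top hf hA₂p hA₂1 (by rw [hind₂, hcard₂]; exact hoff)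
  -- the join
  set J : Subgroup L := A ⊔ A₂ with hJ
  have hJT : J ≤ T := sup_le hAT hA₂T
  have hJp : DS 𝒟 J := T.ds.to_le hJT
  have hJ1 : J ≠ ⊥ := fun e => hA1 (le_bot_iff.1 (e ▸ le_sup_left))
  have hAJ : A ≤ J := le_sup_left
  have hcardJ : A.relIndex J * Nat.card A = Nat.card J := by
    have := relIndex_mul_relIndex ⊥ A J bot_le hAJ
    rw [relIndex_bot_left, relIndex_bot_left] at this
    rw [mul_comm]; exact this
  have hltJ : 1 < A.relIndex J := by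
    rcases Nat.lt_or_ge 1 (A.relIndex J) with h1 | h1
    · exact h1
    · exfalso
      have h2 : A.relIndex J ≠ 0 := index_ne_zero_of_finite
      have h3 : A.relIndex J = 1 := by omega
      exact htA (relIndex_eq_one.1 h3 (le_sup_right (a := A) htA₂))
  have hposA : 0 < Nat.card A := Nat.card_pos
  by_cases hinf : A ⊓ A₂ = ⊥
  · have h1 : Nat.card A ≤ A.relIndex J := by
      have h2 : A.relIndex A₂ = Nat.card A₂ := by
        rw [← inf_relIndex_right, hinf, relIndex_bot_left]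
      rw [← hcard₂, ← h2]
      exact relIndex_le_of_le_right le_sup_right index_ne_zero_of_finite
    have h2 : (cv V (J : Set L)).index ≤ Nat.card J := by
      rw [hJ, cv_sup, ← hJ]
      refine index_inf_le.trans ?_
      rw [o1, hind₂, o1, ← hcardJ]
      exact Nat.mul_le_mul_right _ h1
    obtain ⟨p1, p2⟩ := h.offender_top hf hJp hJ1 h2
    have h3 := p2 a₀ (hAJ ha₀A) ha₀
    rw [o2 a₀ ha₀A ha₀] at h3
    rw [← h3, o1, ← hcardJ] at p1
    have : 1 * Nat.card A < A.relIndex J * Nat.card A := (Nat.mul_lt_mul_right hposA).2 hltJ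
    omega
  · obtain ⟨a, ha, ha1⟩ := (bot_or_exists_ne_one (A ⊓ A₂)).resolve_left hinf
    have h1 : cv V (A : Set L) = cv V (A₂ : Set L) := by rw [← o2 a ha.1 ha1, ← o2' a ha.2 ha1]
    have h2 : cv V (J : Set L) = cv V (A : Set L) := by
      rw [hJ, cv_sup, ← h1, inf_idem]
    have h3 : (cv V (J : Set L)).index ≤ Nat.card J := by
      rw [h2]
      exact hoff.trans (Nat.le_of_dvd Nat.card_pos (card_dvd_of_le hAJ))
    obtain ⟨p1, -⟩ := h.offender_top hf hJp hJ1 h3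
    rw [h2, o1, ← hcardJ] at p1
    have : 1 * Nat.card A < A.relIndex J * Nat.card A := (Nat.mul_lt_mul_right hposA).2 hltJ
    omega

omit [Finite V] h in
theorem exists_syl_mem {t : L} (ht : t ∈ 𝒟) : ∃ T : Syl 𝒟, t ∈ (T : Subgroup L) := by
  obtain ⟨T, hT⟩ := (ds_zpowers ht).exists_le_syl
  exact ⟨T, hT (mem_zpowers t)⟩

/-- **Lemma N.** -/
theorem toND (hf : ∃ t s : L, t ∈ 𝒟 ∧ s ∈ 𝒟 ∧ orderOf t = 2 ∧ orderOf s = 2 ∧ f t ≠ f s)
    {A : Subgroup L} (hA : DS 𝒟 A) (hA1 : A ≠ ⊥)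
    (hoff : (cv V (A : Set L)).index ≤ Nat.card A) : ND 𝒟 V := by
  obtain ⟨T₀, hT₀⟩ := hA.exists_le_syl
  have hAT := h.eq_syl hf hA hA1 hoff T₀ hT₀
  obtain ⟨o1, o2⟩ := h.offender_top hf hA hA1 hoff
  rw [hAT] at o1 o2
  refine ⟨h.comm, h.sq, h.faith, h.quad, ?_, ?_, ?_⟩
  · intro T
    obtain ⟨g, rfl⟩ := exists_smul_eq T₀ T
    have h1 := index_cv_map_conj (V := V) (T₀ : Subgroup L) g
    rw [← coe_smul_syl] at h1
    rw [h1, o1, card_smul]
  · intro T t ht ht1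
    obtain ⟨g, rfl⟩ := exists_smul_eq T₀ T
    ext v
    rw [mem_cv_smul_syl]
    have h1 : g⁻¹ * t * g ∈ (T₀ : Subgroup L) := mem_smul_syl.1 ht
    have h2 : g⁻¹ * t * g ≠ 1 := by
      intro e
      apply ht1
      have : t = g * (g⁻¹ * t * g) * g⁻¹ := by group
      rw [this, e]; group
    have h3 := o2 _ h1 h2
    rw [← h3, mem_cv_singleton, mem_cv_singleton, smul_smul, mul_assoc, mul_inv_cancel, mul_one,
      mul_smul, smul_left_cancel_iff]
  · by_contra hcon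
    push Not at hcon
    obtain ⟨t, s, htD, hsD, ht, hs, hne⟩ := hf
    obtain ⟨T, hT⟩ := exists_syl_mem htD
    obtain ⟨S, hS⟩ := exists_syl_mem hsD
    rw [hcon S T] at hS
    exact hne (h.f_eq T.ds hT hS (fun e => by rw [e, orderOf_one] at ht; omega)
      (fun e => by rw [e, orderOf_one] at hs; omega))

end RData

end Cfsg.Agent.ClassTwoFusion.RelQuad
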