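import Mathlib
import Cfsg.Agent.ClassTwoFusion.RelQuadSyl

/-!
# Structure of groups satisfying `ND` (relative version)

`L` has exactly `q + 1` maximal `𝒟`-subgroups, `q = |T|`, they are TI, `V` is the union of the
`C_V(T)`, `X = ⟨T, T'⟩` is transitive on the nonzero vectors of `V / C_V(X)`, etc.
-/

set_option autoImplicit false

namespace Cfsg.Agent.ClassTwoFusion.RelQuad

open Subgroup Cfsg.Agent.TwoFusion.StronglyEmbeddedBasic
open Cfsg.Agent.TwoFusion.ClosedFam Cfsg.Agent.ClassTwoFusion.RelAlperin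
open Cfsg.Agent.ClassTwoFusion.Quad Cfsg.Agent.ClassTwoFusion.RelSyl
open scoped Pointwise

variable {L V : Type*} [Group L] [Group V] [MulDistribMulAction L V]

namespace ND

variable {𝒟 : Set L} [h𝒟 : Fact (IsClosedFam 𝒟)] (h : ND 𝒟 V)
include h

/-- the corresponding `QData`, with constant `f` -/
theorem q : RData 𝒟 V (fun _ : L => ()) := ⟨h.comm, h.sq, h.faith, h.quad, fun _ _ _ _ _ _ _ => rfl⟩

theorem normalV (A : Subgroup V) : A.Normal := ⟨fun a ha g => by
  rw [h.comm g a, mul_inv_cancel_right]; exact ha⟩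

theorem inv_eq (v : V) : v⁻¹ = v := h.q.inv_eq v

theorem orderOf_eq_two {T : Syl 𝒟} {t : L} (ht : t ∈ (T : Subgroup L)) (h1 : t ≠ 1) :
    orderOf t = 2 := h.q.orderOf_eq_two T.ds ht h1

theorem ne_one_of_orderOf {t : L} (ht : orderOf t = 2) : t ≠ 1 := fun e => by
  rw [e, orderOf_one] at ht; omega

variable [Finite L]

omit h in
theorem exists_syl_mem {t : L} (ht : t ∈ 𝒟) : ∃ T : Syl 𝒟, t ∈ (T : Subgroup L) :=
  RData.exists_syl_mem ht

/-- Sylow 2-subgroups are TI. -/
theorem ti {T T' : Syl 𝒟} {t : L} (ht : t ∈ (T : Subgroup L)) (ht' : t ∈ (T' : Subgroup L))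
    (h1 : t ≠ 1) : T = T' := by
  have hcv : cv V ((T : Subgroup L) : Set L) = cv V ((T' : Subgroup L) : Set L) := by
    rw [← h.cv_eq T t ht h1, ← h.cv_eq T' t ht' h1]
  have hcomm : ∀ x ∈ (T : Subgroup L), ∀ y ∈ (T' : Subgroup L), x * y = y * x := by
    intro x hx y hy
    have h2 : ∀ v : V, (y * x)⁻¹ • (x * y) • v = v := by
      intro v
      rw [inv_smul_eq_iff, mul_smul, mul_smul, h.q.smul_eq y v, smul_mul', h.q.smul_eq x v, smul_mul',
        h.q.smul_eq y v]
      have e1 : x • d y v = d y v := by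
        have : d y v ∈ cv V ((T : Subgroup L) : Set L) := by
          rw [hcv]; exact h.q.d_mem_cv T'.ds hy v
        exact this x hx
      have e2 : y • d x v = d x v := by
        have : d x v ∈ cv V ((T' : Subgroup L) : Set L) := by
          rw [← hcv]; exact h.q.d_mem_cv T.ds hx v
        exact this y hy
      rw [e1, e2, ← mul_assoc, ← mul_assoc, h.comm (d y v)]
    have h3 : (y * x)⁻¹ * (x * y) = 1 := h.faith _ (fun v => by rw [mul_smul]; exact h2 v)
    rw [inv_mul_eq_one] at h3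
    exact h3.symm
  have hp : DS 𝒟 ((T : Subgroup L) ⊔ T') := T.ds.sup_of_comm T'.ds hcomm
  have e1 : (T : Subgroup L) ⊔ T' = T := is_maximal T hp le_sup_left
  have e2 : (T : Subgroup L) ⊔ T' = T' := is_maximal T' hp le_sup_right
  exact Syl.ext (e1.symm.trans e2)

theorem same_of_commute {T : Syl 𝒟} {s t : L} (ht : t ∈ (T : Subgroup L)) (h1 : t ≠ 1)
    (hs : s ∈ 𝒟) (hst : Commute s t) : s ∈ (T : Subgroup L) := by
  have hp : DS 𝒟 (zpowers t ⊔ zpowers s) := by
    refine (ds_zpowers (T.mem ht)).sup_of_comm (ds_zpowers hs) ?_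
    intro a ha b hb
    obtain ⟨m, rfl⟩ := mem_zpowers_iff.1 ha
    obtain ⟨n, rfl⟩ := mem_zpowers_iff.1 hb
    exact (hst.symm.zpow_zpow m n).eq
  obtain ⟨T', hT'⟩ := hp.exists_le_syl
  have h2 : t ∈ (T' : Subgroup L) := hT' (mem_sup_left (mem_zpowers t))
  rw [h.ti ht h2 h1]
  exact hT' (mem_sup_right (mem_zpowers s))

theorem odd {T T' : Syl 𝒟} (hne : T ≠ T') {t s : L} (ht : t ∈ (T : Subgroup L))
    (hs : s ∈ (T' : Subgroup L)) (ht1 : t ≠ 1) (hs1 : s ≠ 1) : Odd (orderOf (t * s)) := by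
  by_contra hodd
  obtain ⟨z, hzD, hz2, hza, hzb⟩ := exists_commuting_involution_mem t s (h.orderOf_eq_two ht ht1)
    (h.orderOf_eq_two hs hs1) (T.mem ht) (T'.mem hs) hodd
  exact hne (h.ti (h.same_of_commute ht ht1 hzD hza) (h.same_of_commute hs hs1 hzD hzb)
    (h.ne_one_of_orderOf hz2))

variable [Finite V]

theorem two_le (T : Syl 𝒟) : 2 ≤ Nat.card (T : Subgroup L) := by
  rcases Nat.lt_or_ge (Nat.card (T : Subgroup L)) 2 with h1 | h1
  · exfalso
    obtain ⟨T', T'', hne⟩ := h.exists_ne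
    have h2 : ∀ S : Syl 𝒟, (S : Subgroup L) = ⊥ := by
      intro S
      obtain ⟨g, hg⟩ := exists_smul_eq T S
      have h3 : Nat.card (S : Subgroup L) = Nat.card (T : Subgroup L) := by
        rw [← hg]; exact card_smul T g
      have h4 : 0 < Nat.card (S : Subgroup L) := Nat.card_pos
      exact (Subgroup.card_eq_one (H := (S : Subgroup L))).1 (by omega)
    exact hne (Syl.ext (by rw [h2, h2]))
  · exact h1

theorem exists_ne_one (T : Syl 𝒟) : ∃ t ∈ (T : Subgroup L), t ≠ 1 := by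
  refine (bot_or_exists_ne_one (T : Subgroup L)).resolve_left ?_
  intro e
  have := h.two_le T
  have h2 : Nat.card (T : Subgroup L) = 1 := by
    rw [e]; simp
  omega

theorem card_eq (T T' : Syl 𝒟) : Nat.card (T : Subgroup L) = Nat.card (T' : Subgroup L) := by
  obtain ⟨g, rfl⟩ := exists_smul_eq T T'
  exact (card_smul T g).symm

/-- vectors fixed by `T'` but not by `T` are moved injectively modulo `C_V(T')` -/
theorem smul_eq_of_d_mem {T T' : Syl 𝒟} (hne : T ≠ T') {t : L} (ht : t ∈ (T : Subgroup L))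
    {v : V} (hv : v ∈ cv V ((T' : Subgroup L) : Set L))
    (hd : d t v ∈ cv V ((T' : Subgroup L) : Set L)) : t • v = v := by
  by_cases ht1 : t = 1
  · rw [ht1, one_smul]
  obtain ⟨s, hs, hs1⟩ := h.exists_ne_one T'
  exact h.q.key (T.mem ht) (h.odd hne.symm hs ht hs1 ht1) (hv s hs) (hd s hs)

theorem exists_not_mem {T T' : Syl 𝒟} (hne : T ≠ T') :
    ∃ v ∈ cv V ((T' : Subgroup L) : Set L), v ∉ cv V ((T : Subgroup L) : Set L) := by
  by_contra hcon
  push Not at hcon
  have hle : cv V ((T' : Subgroup L) : Set L) ≤ cv V ((T : Subgroup L) : Set L) := hcon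
  obtain ⟨t, ht, ht1⟩ := h.exists_ne_one T
  obtain ⟨s, hs, hs1⟩ := h.exists_ne_one T'
  have ht2 := h.orderOf_eq_two ht ht1
  have hs2 := h.orderOf_eq_two hs hs1
  -- `t` fixes `d s w`; so `s t` odd gives ...
  have h1 : ∀ w : V, s • w = w := by
    intro w
    have h2 : s • d s w = d s w := h.q.d_self (T'.mem hs) w
    have h3 : d s w ∈ cv V ((T : Subgroup L) : Set L) := hle (h.q.d_mem_cv T'.ds hs w)
    -- indices are equal, hence equality
    have hpos : 0 < (cv V ((T : Subgroup L) : Set L)).index := Nat.pos_of_ne_zero index_ne_zero_of_finite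
    have heq : cv V ((T' : Subgroup L) : Set L) = cv V ((T : Subgroup L) : Set L) := by
      have e1 := relIndex_mul_index hle
      rw [h.index_cv T', h.index_cv T, h.card_eq T' T] at e1
      have e2 : (cv V ((T' : Subgroup L) : Set L)).relIndex (cv V ((T : Subgroup L) : Set L)) = 1 := by
        have hp : 0 < Nat.card (T : Subgroup L) := by have := h.two_le T; omega
        exact Nat.eq_of_mul_eq_mul_right hp (by rw [e1, one_mul])
      exact le_antisymm hle (relIndex_eq_one.1 e2)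
    -- now `T` and `T'` commute
    have h4 : Commute s t := by
      have h2 : ∀ v : V, (t * s)⁻¹ • (s * t) • v = v := by
        intro v
        rw [inv_smul_eq_iff, mul_smul, mul_smul, h.q.smul_eq t v, smul_mul', h.q.smul_eq s v, smul_mul',
          h.q.smul_eq t v]
        have e1 : s • d t v = d t v := by
          have : d t v ∈ cv V ((T' : Subgroup L) : Set L) := by
            rw [heq]; exact h.q.d_mem_cv T.ds ht v
          exact this s hs
        have e2 : t • d s v = d s v := by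
          have : d s v ∈ cv V ((T : Subgroup L) : Set L) := by
            rw [← heq]; exact h.q.d_mem_cv T'.ds hs v
          exact this t ht
        rw [e1, e2, ← mul_assoc, ← mul_assoc, h.comm (d t v)]
      have h3 : (t * s)⁻¹ * (s * t) = 1 := h.faith _ (fun v => by rw [mul_smul]; exact h2 v)
      rw [inv_mul_eq_one] at h3
      exact h3.symm
    exact absurd (h.ti (h.same_of_commute ht ht1 (T'.mem hs) h4) hs hs1) hne
  exact hs1 (h.faith s h1)

/-- `|C_V(T) : C_V(T) ∩ C_V(T')| = q`. -/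
theorem relIndex_inf {T T' : Syl 𝒟} (hne : T ≠ T') :
    (cv V ((T : Subgroup L) : Set L) ⊓ cv V ((T' : Subgroup L) : Set L)).relIndex
      (cv V ((T : Subgroup L) : Set L)) = Nat.card (T : Subgroup L) := by
  set CA := cv V ((T : Subgroup L) : Set L) with hCA
  set CB := cv V ((T' : Subgroup L) : Set L) with hCB
  have hp : 0 < Nat.card (T : Subgroup L) := by have := h.two_le T; omega
  apply le_antisymm
  · have h1 : (CA ⊓ CB).relIndex CA * CA.index = (CA ⊓ CB).index := relIndex_mul_index inf_le_left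
    have h2 : (CA ⊓ CB).index ≤ CA.index * CB.index := index_inf_le
    rw [h.index_cv T] at h1 h2
    rw [h.index_cv T', ← h1, h.card_eq T' T] at h2
    exact Nat.le_of_mul_le_mul_right h2 hp
  · obtain ⟨v, hvB, hvA⟩ := h.exists_not_mem hne
    have hfun : Function.Injective (fun a : (T : Subgroup L) =>
        (QuotientGroup.mk (⟨d (a : L) v, h.q.d_mem_cv T.ds a.2 v⟩ : CA) :
          CA ⧸ ((CA ⊓ CB).subgroupOf CA))) := by
      intro a b hab
      have h1 := QuotientGroup.eq.1 hab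
      rw [mem_subgroupOf] at h1
      have h2 : d (a * b : L) v ∈ CB := by
        rw [h.q.d_mul_left T.ds a.2 b.2]
        have := h1.2
        simpa [h.inv_eq] using this
      by_contra hne'
      have hab1 : (a * b : L) ≠ 1 := by
        intro e
        apply hne'
        apply Subtype.ext
        rw [mul_eq_one_iff_eq_inv] at e
        rw [e, inv_eq_iff_mul_eq_one]
        exact h.q.mul_self T.ds b.2
      apply hvA
      rw [← h.cv_eq T _ (mul_mem a.2 b.2) hab1, mem_cv_singleton]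
      exact h.smul_eq_of_d_mem hne (mul_mem a.2 b.2) hvB h2
    exact Nat.card_le_card_of_injective _ hfun

theorem index_inf {T T' : Syl 𝒟} (hne : T ≠ T') :
    (cv V ((T : Subgroup L) : Set L) ⊓ cv V ((T' : Subgroup L) : Set L)).index =
      Nat.card (T : Subgroup L) * Nat.card (T : Subgroup L) := by
  have h1 := relIndex_mul_index (inf_le_left : cv V ((T : Subgroup L) : Set L) ⊓
    cv V ((T' : Subgroup L) : Set L) ≤ cv V ((T : Subgroup L) : Set L))
  rw [h.relIndex_inf hne, h.index_cv T] at h1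
  exact h1.symm

/-- surjectivity: `T` moves `v ∈ C_V(T') \ C_V(T)` by everything in `C_V(T)` modulo `C_V(T')` -/
theorem exists_d_mul_mem {T T' : Syl 𝒟} (hne : T ≠ T') {v w : V}
    (hv : v ∈ cv V ((T' : Subgroup L) : Set L)) (hv' : v ∉ cv V ((T : Subgroup L) : Set L))
    (hw : w ∈ cv V ((T : Subgroup L) : Set L)) :
    ∃ t ∈ (T : Subgroup L), d t v * w ∈ cv V ((T' : Subgroup L) : Set L) := by
  set CA := cv V ((T : Subgroup L) : Set L) with hCA
  set CB := cv V ((T' : Subgroup L) : Set L) with hCB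
  let F : ↥(T : Subgroup L) → CA ⧸ ((CA ⊓ CB).subgroupOf CA) := fun a =>
    QuotientGroup.mk (⟨d (a : L) v, h.q.d_mem_cv T.ds a.2 v⟩ : CA)
  have hfun : Function.Injective F := by
    intro a b hab
    have h1 := QuotientGroup.eq.1 hab
    rw [mem_subgroupOf] at h1
    have h2 : d (a * b : L) v ∈ CB := by
      rw [h.q.d_mul_left T.ds a.2 b.2]
      have := h1.2
      simpa [h.inv_eq] using this
    by_contra hne'
    have hab1 : (a * b : L) ≠ 1 := by
      intro e
      apply hne'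
      apply Subtype.ext
      rw [mul_eq_one_iff_eq_inv] at e
      rw [e, inv_eq_iff_mul_eq_one]
      exact h.q.mul_self T.ds b.2
    apply hv'
    rw [hCA, ← h.cv_eq T _ (mul_mem a.2 b.2) hab1, mem_cv_singleton]
    exact h.smul_eq_of_d_mem hne (mul_mem a.2 b.2) hv h2
  have hcard : Nat.card (T : Subgroup L) = Nat.card (CA ⧸ ((CA ⊓ CB).subgroupOf CA)) :=
    (h.relIndex_inf hne).symm
  have hbij : Function.Bijective F := (Nat.bijective_iff_injective_and_card F).2 ⟨hfun, hcard⟩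
  obtain ⟨t, ht⟩ := hbij.2 (QuotientGroup.mk (⟨w, hw⟩ : CA))
  refine ⟨t, t.2, ?_⟩
  have h1 := QuotientGroup.eq.1 ht
  rw [mem_subgroupOf] at h1
  have := h1.2
  simpa [h.inv_eq] using this

theorem sup_eq_top {T T' : Syl 𝒟} (hne : T ≠ T') :
    cv V ((T : Subgroup L) : Set L) ⊔ cv V ((T' : Subgroup L) : Set L) = ⊤ := by
  set CA := cv V ((T : Subgroup L) : Set L) with hCA
  set CB := cv V ((T' : Subgroup L) : Set L) with hCB
  have h1 : CA.relIndex (CA ⊔ CB) * (CA ⊔ CB).index = CA.index := relIndex_mul_index le_sup_left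
  have h2 : CA.relIndex CB ≤ CA.relIndex (CA ⊔ CB) :=
    relIndex_le_of_le_right le_sup_right index_ne_zero_of_finite
  have h3 : CA.relIndex CB = Nat.card (T : Subgroup L) := by
    rw [← inf_relIndex_right, inf_comm, h.relIndex_inf hne.symm, h.card_eq T' T]
  rw [h.index_cv T] at h1
  rw [h3] at h2
  have hp : 0 < Nat.card (T : Subgroup L) := by have := h.two_le T; omega
  have hpos : (CA ⊔ CB).index ≠ 0 := index_ne_zero_of_finite
  rw [← index_eq_one]
  by_contra hcon
  have h4 : 2 ≤ (CA ⊔ CB).index := by omega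
  have : Nat.card (T : Subgroup L) * 2 ≤ CA.relIndex (CA ⊔ CB) * (CA ⊔ CB).index := Nat.mul_le_mul h2 h4
  omega

theorem exists_mul {T T' : Syl 𝒟} (hne : T ≠ T') (v : V) :
    ∃ a ∈ cv V ((T : Subgroup L) : Set L), ∃ b ∈ cv V ((T' : Subgroup L) : Set L), a * b = v := by
  haveI := h.normalV (cv V ((T' : Subgroup L) : Set L))
  have : v ∈ cv V ((T : Subgroup L) : Set L) ⊔ cv V ((T' : Subgroup L) : Set L) := by
    rw [h.sup_eq_top hne]; exact mem_top v
  exact mem_sup_of_normal_right.1 this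

/-- `V` is covered by `C_V(T)` and the `C_V(T'^t)`, `t ∈ T`. -/
theorem cover {T T' : Syl 𝒟} (hne : T ≠ T') (v : V) :
    v ∈ cv V ((T : Subgroup L) : Set L) ∨
      ∃ t ∈ (T : Subgroup L), v ∈ cv V (((t • T' : Syl 𝒟) : Subgroup L) : Set L) := by
  obtain ⟨a, ha, b, hb, rfl⟩ := h.exists_mul hne v
  by_cases hb' : b ∈ cv V ((T : Subgroup L) : Set L)
  · exact Or.inl (mul_mem ha hb')
  · right
    obtain ⟨t, ht, hdt⟩ := h.exists_d_mul_mem hne hb hb' ha
    refine ⟨t, ht, ?_⟩
    rw [mem_cv_smul_syl]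
    have htt : t⁻¹ = t := inv_eq_of_mul_eq_one_right (h.q.mul_self T.ds ht)
    rw [htt, smul_mul', ha t ht, h.q.smul_eq t b, ← mul_assoc, h.comm a]
    exact mul_mem hdt hb

theorem smul_ne {T T' : Syl 𝒟} (hne : T ≠ T') {t : L} (ht : t ∈ (T : Subgroup L)) :
    T ≠ t • T' := by
  intro e
  apply hne
  have h1 : t⁻¹ • T = T' := by rw [e, inv_smul_smul]
  rw [← h1]
  refine Syl.ext ?_
  ext x
  rw [mem_smul_syl, inv_inv]
  constructor
  · intro hx; exact mul_mem (mul_mem ht hx) (inv_mem ht)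
  · intro hx
    have := mul_mem (mul_mem (inv_mem ht) hx) ht
    simpa [mul_assoc] using this

/-- The Sylow 2-subgroups are `T` and the `T'^t`, `t ∈ T`. -/
theorem sylow_eq {T T' : Syl 𝒟} (hne : T ≠ T') (S : Syl 𝒟) :
    S = T ∨ ∃ t ∈ (T : Subgroup L), S = t • T' := by
  by_contra hcon
  push Not at hcon
  obtain ⟨hST, hSt⟩ := hcon
  set U := cv V ((T : Subgroup L) : Set L) ⊓ cv V ((T' : Subgroup L) : Set L) with hU
  have hq := h.two_le T
  -- members of the list contain `U`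
  have hUt : ∀ t ∈ (T : Subgroup L), U ≤ cv V (((t • T' : Syl 𝒟) : Subgroup L) : Set L) := by
    intro t ht u hu
    rw [mem_cv_smul_syl, hu.1 _ (inv_mem ht)]
    exact hu.2
  -- covering, in the form we need
  have hcov : ∀ v : V, ∃ R : Syl 𝒟, R ≠ S ∧ v ∈ cv V ((R : Subgroup L) : Set L) ∧
      U ≤ cv V ((R : Subgroup L) : Set L) := by
    intro v
    rcases h.cover hne v with hv | ⟨t, ht, hv⟩
    · exact ⟨T, fun e => hST e.symm, hv, inf_le_left⟩
    · exact ⟨t • T', fun e => hSt t ht e.symm, hv, hUt t ht⟩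
  by_cases hUS : U ≤ cv V ((S : Subgroup L) : Set L)
  · -- a vector of `C_V(S)` outside `U`
    obtain ⟨w, hw, hwU⟩ : ∃ w ∈ cv V ((S : Subgroup L) : Set L), w ∉ U := by
      by_contra hcon
      push Not at hcon
      have heq : U = cv V ((S : Subgroup L) : Set L) := le_antisymm hUS hcon
      have h1 := h.index_inf hne
      rw [← hU, heq, h.index_cv S, h.card_eq S T] at h1
      nlinarith
    obtain ⟨R, hRS, hwR, hUR⟩ := hcov w
    have h1 := h.index_inf hRS
    have h2 : U ≤ cv V ((R : Subgroup L) : Set L) ⊓ cv V ((S : Subgroup L) : Set L) := le_inf hUR hUS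
    have h3 := relIndex_mul_index h2
    rw [h1, hU, h.index_inf hne, h.card_eq R T, ← hU] at h3
    have h4 : U.relIndex (cv V ((R : Subgroup L) : Set L) ⊓ cv V ((S : Subgroup L) : Set L)) = 1 := by
      have hp : 0 < Nat.card (T : Subgroup L) * Nat.card (T : Subgroup L) := by positivity
      exact Nat.eq_of_mul_eq_mul_right hp (by rw [h3, one_mul])
    exact hwU (relIndex_eq_one.1 h4 ⟨hwR, hw⟩)
  · obtain ⟨w, hwU, hwS⟩ := SetLike.not_le_iff_exists.1 hUS
    obtain ⟨s, hs, hs1⟩ := h.exists_ne_one S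
    obtain ⟨R, hRS, hwR, hUR⟩ := hcov (d s w)
    have := h.smul_eq_of_d_mem hRS.symm hs (hUR hwU) hwR
    apply hwS
    rw [← h.cv_eq S s hs hs1, mem_cv_singleton]
    exact this

end ND

/-- the subgroup generated by the Sylow 2-subgroups -/
def OX {L : Type*} [Group L] (𝒟 : Set L) : Subgroup L := ⨆ T : Syl 𝒟, (T : Subgroup L)

/-- its fixed points -/
def UU {L : Type*} [Group L] (𝒟 : Set L) (V : Type*) [Group V] [MulDistribMulAction L V] : Subgroup V :=
  cv V ((OX 𝒟 : Subgroup L) : Set L)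

section

variable {𝒟 : Set L}

theorem syl_le_OX (T : Syl 𝒟) : (T : Subgroup L) ≤ OX 𝒟 :=
  le_iSup (fun T : Syl 𝒟 => (T : Subgroup L)) T

theorem conj_mem_OX [Fact (IsClosedFam 𝒟)] (g : L) {x : L} (hx : x ∈ OX 𝒟) : g * x * g⁻¹ ∈ OX 𝒟 := by
  have h1 : (OX 𝒟).map (MulAut.conj g).toMonoidHom ≤ OX 𝒟 := by
    unfold OX
    rw [Subgroup.map_iSup]
    refine iSup_le (fun T => ?_)
    rw [← coe_smul_syl]
    exact syl_le_OX _
  exact h1 ⟨x, hx, rfl⟩

theorem smul_mem_UU [Fact (IsClosedFam 𝒟)] (g : L) {u : V} (hu : u ∈ UU 𝒟 V) : g • u ∈ UU 𝒟 V := by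
  intro x hx
  have h1 := hu (g⁻¹ * x * g) (by simpa using conj_mem_OX g⁻¹ hx)
  rw [mul_smul, mul_smul] at h1
  rw [inv_smul_eq_iff] at h1
  exact h1

theorem UU_le_cv (T : Syl 𝒟) : UU 𝒟 V ≤ cv V ((T : Subgroup L) : Set L) :=
  cv_anti (by exact_mod_cast syl_le_OX T)

end

namespace ND

variable {𝒟 : Set L} [h𝒟 : Fact (IsClosedFam 𝒟)] (h : ND 𝒟 V) [Finite L] [Finite V]
include h

theorem OX_eq {T T' : Syl 𝒟} (hne : T ≠ T') : OX 𝒟 = (T : Subgroup L) ⊔ T' := by
  apply le_antisymm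
  · refine iSup_le (fun S => ?_)
    rcases h.sylow_eq hne S with rfl | ⟨t, ht, rfl⟩
    · exact le_sup_left
    · intro x hx
      rw [mem_smul_syl] at hx
      have h1 : x = t * (t⁻¹ * x * t) * t⁻¹ := by group
      rw [h1]
      exact mul_mem (mul_mem (mem_sup_left ht) (mem_sup_right hx)) (inv_mem (mem_sup_left ht))
  · exact sup_le (syl_le_OX T) (syl_le_OX T')

theorem UU_eq {T T' : Syl 𝒟} (hne : T ≠ T') : UU 𝒟 V =
    cv V ((T : Subgroup L) : Set L) ⊓ cv V ((T' : Subgroup L) : Set L) := by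
  unfold UU
  rw [h.OX_eq hne, cv_sup]

theorem exists_ne' (T : Syl 𝒟) : ∃ T' : Syl 𝒟, T ≠ T' := by
  obtain ⟨S, S', hne⟩ := h.exists_ne
  by_cases h1 : T = S
  · exact ⟨S', by rw [h1]; exact hne⟩
  · exact ⟨S, h1⟩

theorem index_UU (T : Syl 𝒟) : (UU 𝒟 V).index = Nat.card (T : Subgroup L) * Nat.card (T : Subgroup L) := by
  obtain ⟨T', hne⟩ := h.exists_ne' T
  rw [h.UU_eq hne, h.index_inf hne]

/-- transitivity on the nonzero vectors of `V/U` -/
theorem trans {v w : V} (hv : v ∉ UU 𝒟 V) (hw : w ∉ UU 𝒟 V) :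
    ∃ x ∈ OX 𝒟, (x • v) * w ∈ UU 𝒟 V := by
  obtain ⟨T, T', hne⟩ := h.exists_ne
  have hU := h.UU_eq hne
  -- the relation
  let R : V → V → Prop := fun v w => ∃ x ∈ OX 𝒟, (x • v) * w ∈ UU 𝒟 V
  have hsymm : ∀ {v w : V}, R v w → R w v := by
    rintro v w ⟨x, hx, hxv⟩
    refine ⟨x⁻¹, inv_mem hx, ?_⟩
    have := smul_mem_UU (V := V) x⁻¹ hxv
    rw [smul_mul', inv_smul_smul, h.comm] at this
    exact this
  have htrans : ∀ {u v w : V}, R u v → R v w → R u w := by
    rintro u v w ⟨x, hx, hxv⟩ ⟨y, hy, hyw⟩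
    refine ⟨y * x, mul_mem hy hx, ?_⟩
    have h1 := mul_mem (smul_mem_UU (V := V) y hxv) hyw
    rw [smul_mul'] at h1
    have h2 : y • x • u * y • v * (y • v * w) = (y * x) • u * w := by
      rw [mul_smul]
      calc y • x • u * y • v * (y • v * w) = y • x • u * (y • v * y • v) * w := by group
        _ = y • x • u * w := by rw [h.sq, mul_one]
    rw [← h2]; exact h1
  -- `v ∈ C_V(T') \ U`, `w ∈ C_V(T)`: `v ~ v * w`
  have h1 : ∀ (S S' : Syl 𝒟), S ≠ S' → ∀ v ∈ cv V ((S' : Subgroup L) : Set L), v ∉ UU 𝒟 V →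
      ∀ w ∈ cv V ((S : Subgroup L) : Set L), R v (v * w) := by
    intro S S' hSS v hv hvU w hw
    have hv' : v ∉ cv V ((S : Subgroup L) : Set L) := fun h2 => hvU (by
      rw [h.UU_eq hSS]; exact ⟨h2, hv⟩)
    obtain ⟨t, ht, hd⟩ := h.exists_d_mul_mem hSS hv hv' hw
    refine ⟨t, syl_le_OX S ht, ?_⟩
    rw [h.UU_eq hSS]
    have e : t • v * (v * w) = d t v * w := by unfold d; group
    rw [e]
    exact ⟨mul_mem (h.q.d_mem_cv S.ds ht v) hw, hd⟩
  have h2 : ∀ v ∈ cv V ((T' : Subgroup L) : Set L), v ∉ UU 𝒟 V →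
      ∀ w ∈ cv V ((T : Subgroup L) : Set L), w ∉ UU 𝒟 V → R v w := by
    intro v hv hvU w hw hwU
    have e1 := h1 T T' hne v hv hvU w hw
    have e2 := h1 T' T hne.symm w hw hwU v hv
    rw [h.comm w v] at e2
    exact htrans e1 (hsymm e2)
  -- a base vector
  obtain ⟨v₀, hv₀, hv₀'⟩ := h.exists_not_mem hne
  obtain ⟨w₀, hw₀, hw₀'⟩ := h.exists_not_mem hne.symm
  have hv₀U : v₀ ∉ UU 𝒟 V := fun e => hv₀' (UU_le_cv T e)
  have hw₀U : w₀ ∉ UU 𝒟 V := fun e => hw₀' (UU_le_cv T' e)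
  have h3 : ∀ v : V, v ∉ UU 𝒟 V → R v v₀ := by
    intro v hvU
    rcases h.cover hne v with hv | ⟨t, ht, hv⟩
    · exact hsymm (h2 v₀ hv₀ hv₀U v hv hvU)
    · rw [mem_cv_smul_syl] at hv
      have hvU' : t⁻¹ • v ∉ UU 𝒟 V := by
        intro e
        apply hvU
        have := smul_mem_UU (V := V) t e
        rwa [smul_inv_smul] at this
      have e1 : R v (t⁻¹ • v) := by
        refine ⟨t⁻¹, inv_mem (syl_le_OX T ht), ?_⟩
        rw [h.sq]; exact one_mem _
      exact htrans e1 (htrans (h2 _ hv hvU' w₀ hw₀ hw₀U) (hsymm (h2 v₀ hv₀ hv₀U w₀ hw₀ hw₀U)))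
  exact htrans (h3 v hv) (hsymm (h3 w hw))

/-- transitivity of the normalizer of `T` on the nonzero vectors of `C_V(T)/U` -/
theorem trans_normalizer {T : Syl 𝒟} {v w : V} (hv : v ∈ cv V ((T : Subgroup L) : Set L))
    (hw : w ∈ cv V ((T : Subgroup L) : Set L)) (hvU : v ∉ UU 𝒟 V) (hwU : w ∉ UU 𝒟 V) :
    ∃ x ∈ OX 𝒟, x • T = T ∧ (x • v) * w ∈ UU 𝒟 V := by
  obtain ⟨x, hx, hxv⟩ := h.trans hvU hwU
  refine ⟨x, hx, ?_, hxv⟩
  by_contra hne
  apply hwU
  rw [h.UU_eq hne]
  refine ⟨?_, hw⟩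
  have h1 : x • v ∈ cv V (((x • T : Syl 𝒟) : Subgroup L) : Set L) := by
    rw [mem_cv_smul_syl, inv_smul_smul]; exact hv
  have h2 : w = (x • v) * ((x • v) * w) := by rw [← mul_assoc, h.sq, one_mul]
  rw [h2]
  exact mul_mem h1 (UU_le_cv _ hxv)

/-- `V/U` is irreducible -/
theorem sup_UU_eq_top {M : Subgroup V} (hM : ∀ x ∈ OX 𝒟, ∀ m ∈ M, x • m ∈ M) (hMU : ¬ M ≤ UU 𝒟 V) :
    M ⊔ UU 𝒟 V = ⊤ := by
  rw [eq_top_iff]
  intro w _
  obtain ⟨m, hm, hmU⟩ := SetLike.not_le_iff_exists.1 hMU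
  by_cases hw : w ∈ UU 𝒟 V
  · exact mem_sup_right hw
  · obtain ⟨x, hx, hxm⟩ := h.trans hmU hw
    have h2 : w = (x • m) * ((x • m) * w) := by rw [← mul_assoc, h.sq, one_mul]
    rw [h2]
    exact mul_mem (mem_sup_left (hM x hx m hm)) (mem_sup_right hxm)

theorem mem_cv_of_d_mem_UU {T : Syl 𝒟} {t : L} (ht : t ∈ (T : Subgroup L)) (ht1 : t ≠ 1)
    {v : V} (hd : d t v ∈ UU 𝒟 V) : v ∈ cv V ((T : Subgroup L) : Set L) := by
  obtain ⟨T', hne⟩ := h.exists_ne' T
  obtain ⟨a, ha, b, hb, rfl⟩ := h.exists_mul hne v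
  have h1 : d t a = 1 := (h.q.d_eq_one_iff t a).2 (ha t ht)
  rw [h.q.d_mul, h1, one_mul] at hd
  have h2 := h.smul_eq_of_d_mem hne ht hb (UU_le_cv T' hd)
  refine mul_mem ha ?_
  rw [← h.cv_eq T t ht ht1, mem_cv_singleton]
  exact h2

theorem exists_d_not_mem_UU (T : Syl 𝒟) : ∃ v : V, ∀ t ∈ (T : Subgroup L), t ≠ 1 → d t v ∉ UU 𝒟 V := by
  obtain ⟨T', hne⟩ := h.exists_ne' T
  obtain ⟨v, -, hv⟩ := h.exists_not_mem hne
  exact ⟨v, fun t ht ht1 hd => hv (h.mem_cv_of_d_mem_UU ht ht1 hd)⟩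

/-- an element of odd order centralising a Sylow 2-subgroup centralises `OX` -/
theorem commute_OX {T : Syl 𝒟} {x : L} (hx : Odd (orderOf x))
    (hxT : ∀ t ∈ (T : Subgroup L), x * t = t * x) : ∀ y ∈ OX 𝒟, x * y = y * x := by
  -- `x` normalises every Sylow 2-subgroup
  have hfix : ∀ T' : Syl 𝒟, x • T' = T' := by
    intro T'
    have hxT' : x • T = T := by
      refine Syl.ext ?_
      ext t
      rw [mem_smul_syl]
      constructor
      · intro ht
        have := hxT _ ht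
        have e : t = x⁻¹ * t * x := by
          have h5 : x * (x⁻¹ * t * x) = t * x := by group
          rw [h5] at this
          exact mul_right_cancel this
        rw [e]; exact ht
      · intro ht
        have := hxT t ht
        have e : x⁻¹ * t * x = t := by rw [mul_assoc, ← this, inv_mul_cancel_left]
        rw [e]; exact ht
    by_cases hTT : T' = T
    · rw [hTT]; exact hxT'
    rcases h.sylow_eq (Ne.symm hTT) (x • T') with h1 | ⟨t, ht, h1⟩
    · exfalso
      apply hTT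
      have : x • T' = x • T := by rw [h1, hxT']
      exact smul_left_cancel x this
    · -- `t⁻¹ x` normalises `T'`
      obtain ⟨k, hk⟩ := hx
      have hct : Commute x t := hxT t ht
      have h2 : (t⁻¹ * x) • T' = T' := by rw [mul_smul, h1, inv_smul_smul]
      have h3 : ∀ n : ℕ, ((t⁻¹ * x) ^ n) • T' = T' := by
        intro n
        induction n with
        | zero => simp
        | succ n ih => rw [pow_succ, mul_smul, h2, ih]
      have htt : t * t = 1 := h.q.mul_self T.ds ht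
      have hti : t⁻¹ = t := inv_eq_of_mul_eq_one_right htt
      have h4 : (t⁻¹ * x) ^ (2 * k + 1) = t := by
        rw [hti, (hct.symm).mul_pow, ← hk, pow_orderOf_eq_one, mul_one, hk, pow_succ, pow_mul,
          pow_two, htt, one_pow, one_mul]
      have h5 := h3 (2 * k + 1)
      rw [h4] at h5
      rw [h1, h5]
  intro y hy
  -- centralises every element of every other Sylow
  have key : ∀ T' : Syl 𝒟, ∀ s ∈ (T' : Subgroup L), x * s = s * x := by
    intro T' s hs
    by_cases hTT : T' = T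
    · rw [hTT] at hs; exact hxT s hs
    by_cases hs1 : s = 1
    · rw [hs1]; simp
    have h1 : x * s * x⁻¹ ∈ (T' : Subgroup L) := by
      have h2 := hfix T'
      rw [← h2, mem_smul_syl]
      have e : x⁻¹ * (x * s * x⁻¹) * x = s := by group
      rw [e]; exact hs
    have h2 : (s⁻¹ * (x * s * x⁻¹)) • T = T := by
      rw [mul_smul, mul_smul, mul_smul]
      have h3 : x⁻¹ • T = T := by
        rw [inv_smul_eq_iff, hfix]
      rw [h3, hfix (s • T), inv_smul_smul]
    have h3 : s⁻¹ * (x * s * x⁻¹) ∈ (T' : Subgroup L) := mul_mem (inv_mem hs) h1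
    have h4 : s⁻¹ * (x * s * x⁻¹) = 1 := by
      by_contra hne1
      -- it normalises `T`, so lies in `T`
      set u := s⁻¹ * (x * s * x⁻¹) with hu
      have hun : u ∈ normalizer ((T : Subgroup L) : Set L) :=
        smul_eq_iff_mem_normalizer.1 h2
      have huT : u ∈ (T : Subgroup L) := mem_of_mem_normalizer T (T'.mem h3) hun
      exact hTT (h.ti h3 huT hne1)
    have h5 : x * s * x⁻¹ = s := by
      rw [inv_mul_eq_one] at h4; exact h4.symm
    calc x * s = x * s * x⁻¹ * x := by group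
      _ = s * x := by rw [h5]
  have hle : OX 𝒟 ≤ centralizer ({x} : Set L) := by
    refine iSup_le (fun T' s hs => ?_)
    rw [mem_centralizer_singleton_iff]
    exact (key T' s hs).symm
  have := hle hy
  rw [mem_centralizer_singleton_iff] at this
  exact this.symm

omit [Finite L] [Finite V] in
theorem eq_one_of_odd {x : L} (hx : Odd (orderOf x)) (h1 : ∀ v : V, x • d x v = d x v) : x = 1 := by
  apply h.faith
  intro v
  have h2 : ∀ k : ℕ, x ^ (2 * k) • v = v := by
    intro k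
    induction k with
    | zero => simp
    | succ k ih =>
      rw [show 2 * (k + 1) = 2 * k + 2 by ring, pow_add, mul_smul, pow_two, mul_smul,
        h.q.smul_eq x v, smul_mul', h1, h.q.smul_eq x v, ← mul_assoc, h.sq, one_mul, ih]
  obtain ⟨k, hk⟩ := hx
  have h3 : x ^ (2 * k + 1) = 1 := by rw [← hk]; exact pow_orderOf_eq_one x
  have h4 : x ^ (2 * k + 1) • v = x • v := by rw [pow_succ', mul_smul, h2]
  rw [← h4, h3, one_smul]

end ND

end Cfsg.Agent.ClassTwoFusion.RelQuad
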