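import Mathlib
import Cfsg.Agent.ClassTwoFusion.RelLocal
import Cfsg.Agent.ClassTwoFusion.LocalQ
import Cfsg.Agent.ClassTwoFusion.RelQuadStruct

/-!
# The action of `N_G(E)` on `V`, `E` essential, relative to a closed family
-/

set_option autoImplicit false

namespace Cfsg.Agent.ClassTwoFusion.RelLocal

open Subgroup Cfsg.Agent.ClassTwoFusion.Gen Cfsg.Agent.ClassTwoFusion.RelAlperin
open Cfsg.Agent.TwoFusion.ClosedFam Cfsg.Agent.ClassTwoFusion.RelSyl
open Cfsg.Agent.ClassTwoFusion.Local (ncl le_ncl conj_mem_ncl ncl_le ncl_le_of_le oddGen oddGen_le mem_oddGen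
  conj_mem_oddGen actTriv conj_mem_actTriv Cl2 Zc Om mem_Zc mem_Om Om_le_Zc Zc_le VF VV XX BB
  mem_normalizer_of_conj)
open Cfsg.Agent.ClassTwoFusion.Quad (cv mem_cv mem_cv_singleton cv_anti d)
open Cfsg.Agent.ClassTwoFusion.RelQuad
open scoped Pointwise

variable {G : Type*} [Group G] {𝒜 : Set G}

namespace Setup

variable [h𝒜 : Fact (IsClosedFam 𝒜)] [Finite G] {P : Syl 𝒜} {E : Subgroup G} (h : Setup P E)
include h

theorem star_le_N : star (P : Subgroup G) E ≤ normalizer (E : Set G) := star_le_normalizer _ _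

/-- `C_N(V) ≤ E*` -/
theorem cent_le_star {x : G} (hx : x ∈ normalizer (E : Set G))
    (hxV : x ∈ centralizer (VV (P : Subgroup G) E : Set G)) : x ∈ star (P : Subgroup G) E := by
  obtain ⟨k, hk, hkR⟩ := exists_mul_conj' P (K := KK (P : Subgroup G) E) (R := (P : Subgroup G)) (x := x)
    (fun y hy k hk => h.KK_conj (h.P_le_N hy) hk)
    P.ds (fun r hr => by
      have h1 : x * r * x⁻¹ * r⁻¹ ∈ KK (P : Subgroup G) E := by
        refine mem_inf.2 ⟨mul_mem (XX_conj hx (h.P_le_XX hr)) (inv_mem (h.P_le_XX hr)), ?_⟩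
        have h2 := mul_mem hxV (h.conj_mem_cent (h.P_le_N hr) (inv_mem hxV))
        have e1 : x * (r * x⁻¹ * r⁻¹) = x * r * x⁻¹ * r⁻¹ := by group
        rw [e1] at h2
        exact h2
      have e2 : x * r * x⁻¹ = (x * r * x⁻¹ * r⁻¹) * r := by group
      rw [e2]
      exact mul_mem (mem_sup_left h1) (mem_sup_right hr))
  have hkN : k ∈ normalizer (E : Set G) := h.XX_le_N hk.1
  have h2 := h.inf_normalizer_P_le_star ⟨mul_mem hkN hx, mem_normalizer_of_conj hkR⟩
  have h4 : x = k⁻¹ * (k * x) := by group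
  rw [h4]
  exact mul_mem (inv_mem (h.K_le_star hk)) h2

theorem inf_centralizer_le_E {x : G} (hx : x ∈ (P : Subgroup G))
    (hxV : x ∈ centralizer (VV (P : Subgroup G) E : Set G)) : x ∈ E := by
  have : x ∈ (P : Subgroup G) ⊓ centralizer (VV (P : Subgroup G) E : Set G) := ⟨hx, hxV⟩
  rwa [h.inf_centralizer_eq] at this

/-- centralisers of nontrivial elements of `P/E` in `N/C_N(V)` lie in `E*` -/
theorem comm_mem_star {t y : G} (ht : t ∈ (P : Subgroup G)) (htE : t ∉ E)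
    (hy : y ∈ normalizer (E : Set G))
    (hyt : y * t * y⁻¹ * t⁻¹ ∈ centralizer (VV (P : Subgroup G) E : Set G)) :
    y ∈ star (P : Subgroup G) E := by
  set C : Subgroup G := normalizer (E : Set G) ⊓ centralizer (VV (P : Subgroup G) E : Set G) with hC
  set Q : Subgroup G := E ⊔ zpowers t with hQ
  have hQP : Q ≤ (P : Subgroup G) := sup_le h.E_le (by rw [zpowers_le]; exact ht)
  have hEQ : E < Q := by
    refine lt_of_le_of_ne le_sup_left ?_
    intro e
    apply htE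
    rw [e]
    exact mem_sup_right (mem_zpowers t)
  have hCP : ∀ z ∈ (P : Subgroup G), ∀ k ∈ C, z * k * z⁻¹ ∈ C := fun z hz k hk =>
    mem_inf.2 ⟨mul_mem (mul_mem (h.P_le_N hz) hk.1) (inv_mem (h.P_le_N hz)),
      h.conj_mem_cent (h.P_le_N hz) hk.2⟩
  have hc : y * t * y⁻¹ * t⁻¹ ∈ C :=
    mem_inf.2 ⟨mul_mem (mul_mem (mul_mem hy (h.P_le_N ht)) (inv_mem hy)) (inv_mem (h.P_le_N ht)), hyt⟩
  have hyQ : ∀ r ∈ Q, y * r * y⁻¹ ∈ C ⊔ (P : Subgroup G) := by
    have : Q ≤ (C ⊔ (P : Subgroup G)).comap (MulAut.conj y).toMonoidHom := by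
      refine sup_le ?_ ?_
      · intro e he
        rw [mem_comap]
        change y * e * y⁻¹ ∈ C ⊔ (P : Subgroup G)
        exact mem_sup_right (h.E_le (h.E_conj hy he))
      · rw [zpowers_le]
        rw [mem_comap]
        change y * t * y⁻¹ ∈ C ⊔ (P : Subgroup G)
        have e2 : y * t * y⁻¹ = (y * t * y⁻¹ * t⁻¹) * t := by group
        rw [e2]
        exact mul_mem (mem_sup_left hc) (mem_sup_right ht)
    exact this
  obtain ⟨k, hk, hkR⟩ := exists_mul_conj' P (K := C) (R := Q) (x := y) hCP (P.ds.to_le hQP) hyQ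
  have hkyN : k * y ∈ normalizer (E : Set G) := mul_mem hk.1 hy
  have h3 := h.mem_star_of_normalizer hkyN hEQ hQP hkR
  have h4 : y = k⁻¹ * (k * y) := by group
  rw [h4]
  exact mul_mem (inv_mem (h.cent_le_star hk.1 hk.2)) h3

/-! ### the group `L` -/

theorem N_le_N : normalizer (E : Set G) ≤ normalizer (VV (P : Subgroup G) E : Set G) := fun _ hn =>
  mem_normalizer_of_conj fun _ hv => h.VV_conj hn hv

end Setup

/-- the representation of `N_G(E)` on `V` -/
def rho [Fact (IsClosedFam 𝒜)] [Finite G] {P : Syl 𝒜} {E : Subgroup G} (h : Setup P E) :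
    ↥(normalizer (E : Set G)) →* MulAut ↥(VV (P : Subgroup G) E) :=
  (normalizerMonoidHom (VV (P : Subgroup G) E)).comp (inclusion h.N_le_N)

/-- its image -/
abbrev LL [Fact (IsClosedFam 𝒜)] [Finite G] {P : Syl 𝒜} {E : Subgroup G} (h : Setup P E) : Type _ := ↥(rho h).range

/-- the map onto the image -/
def rr [Fact (IsClosedFam 𝒜)] [Finite G] {P : Syl 𝒜} {E : Subgroup G} (h : Setup P E) :
    ↥(normalizer (E : Set G)) →* LL h := (rho h).rangeRestrict

namespace Setup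

variable [h𝒜 : Fact (IsClosedFam 𝒜)] [Finite G] {P : Syl 𝒜} {E : Subgroup G} (h : Setup P E)

theorem rr_surjective : Function.Surjective (rr h) := (rho h).rangeRestrict_surjective

theorem coe_smul (n : ↥(normalizer (E : Set G))) (v : ↥(VV (P : Subgroup G) E)) :
    ((rr h n • v : ↥(VV (P : Subgroup G) E)) : G) = n * v * (n : G)⁻¹ := rfl

theorem faith (x : LL h) (hx : ∀ v : ↥(VV (P : Subgroup G) E), x • v = v) : x = 1 := by
  apply Subtype.ext
  apply MulEquiv.ext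
  intro v
  exact hx v

theorem rr_eq_one_iff (n : ↥(normalizer (E : Set G))) :
    rr h n = 1 ↔ (n : G) ∈ centralizer (VV (P : Subgroup G) E : Set G) := by
  constructor
  · intro h1
    rw [mem_centralizer_iff]
    intro v hv
    have h2 : rr h n • (⟨v, hv⟩ : ↥(VV (P : Subgroup G) E)) = ⟨v, hv⟩ := by rw [h1, one_smul]
    have h3 := congrArg Subtype.val h2
    rw [coe_smul] at h3
    have h4 : (n : G) * v * (n : G)⁻¹ = v := h3
    calc v * (n : G) = ((n : G) * v * (n : G)⁻¹) * n := by rw [h4]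
      _ = n * v := by group
  · intro h1
    apply h.faith
    intro v
    apply Subtype.ext
    rw [coe_smul]
    have := mem_centralizer_iff.1 h1 v v.2
    rw [← this]; group

theorem rr_eq_iff (m n : ↥(normalizer (E : Set G))) :
    rr h m = rr h n ↔ (m : G) * (n : G)⁻¹ ∈ centralizer (VV (P : Subgroup G) E : Set G) := by
  rw [← mul_inv_eq_one, ← map_inv, ← map_mul, rr_eq_one_iff]
  rfl

end Setup

/-- the image of the family -/
def DD [Fact (IsClosedFam 𝒜)] [Finite G] {P : Syl 𝒜} {E : Subgroup G} (h : Setup P E) : Set (LL h) :=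
  rr h '' {n : ↥(normalizer (E : Set G)) | (n : G) ∈ 𝒜}

instance [h𝒜 : Fact (IsClosedFam 𝒜)] [Finite G] {P : Syl 𝒜} {E : Subgroup G} (h : Setup P E) :
    Fact (IsClosedFam (DD h)) :=
  ⟨(h𝒜.out.restrict (normalizer (E : Set G))).image h.rr_surjective⟩

namespace Setup

variable [h𝒜 : Fact (IsClosedFam 𝒜)] [Finite G] {P : Syl 𝒜} {E : Subgroup G} (h : Setup P E)

/-- the image of `P`, a maximal 2-subgroup in the family -/
def Tb : Syl (DD h) := ⟨((P : Subgroup G).subgroupOf (normalizer (E : Set G))).map (rr h),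
  isSyl_image (h𝒜.out.restrict (normalizer (E : Set G))) h.rr_surjective
    (isSyl_restrict (isSyl_of_le P h.P_le_N))⟩

theorem mem_Tb {x : LL h} : x ∈ (h.Tb : Subgroup (LL h)) ↔
    ∃ t : G, ∃ ht : t ∈ (P : Subgroup G), rr h ⟨t, h.P_le_N ht⟩ = x := by
  constructor
  · rintro ⟨⟨t, htN⟩, ht, rfl⟩
    exact ⟨t, ht, rfl⟩
  · rintro ⟨t, ht, rfl⟩
    exact ⟨⟨t, h.P_le_N ht⟩, ht, rfl⟩

theorem rr_P_eq_one_iff {t : G} (ht : t ∈ (P : Subgroup G)) :
    rr h ⟨t, h.P_le_N ht⟩ = 1 ↔ t ∈ E := by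
  rw [rr_eq_one_iff]
  constructor
  · exact h.inf_centralizer_le_E ht
  · intro htE
    rw [mem_centralizer_iff]
    intro v hv
    exact h.VV_comm_E hv htE

/-- the function on `L` -/
def ff (x : LL h) : Set ↥(normalizer (E : Set G)) :=
  {g | ∃ y : ↥(normalizer (E : Set G)), (y : G) ∈ star (P : Subgroup G) E ∧
    rr h y = (rr h g)⁻¹ * x * rr h g}

theorem quad_Tb {x y : LL h} (hx : x ∈ (h.Tb : Subgroup (LL h))) (hy : y ∈ (h.Tb : Subgroup (LL h)))
    (v : ↥(VV (P : Subgroup G) E)) : y • d x v = d x v := by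
  obtain ⟨s, hs, rfl⟩ := h.mem_Tb.1 hx
  obtain ⟨t, ht, rfl⟩ := h.mem_Tb.1 hy
  apply Subtype.ext
  rw [coe_smul]
  have h1 : ((d (rr h ⟨s, h.P_le_N hs⟩) v : ↥(VV (P : Subgroup G) E)) : G) = s * v * s⁻¹ * v := rfl
  have h2 := h.comm_VV_mem_Om hs v.2
  have h3 : (v : G)⁻¹ = v := inv_eq_of_mul_eq_one_right (h.VV_sq v.2)
  rw [h3] at h2
  rw [h1]
  have := (mem_Om.1 h2).2.1 t ht
  change t * (s * ↑v * s⁻¹ * ↑v) * t⁻¹ = s * ↑v * s⁻¹ * ↑v
  rw [this]; group

theorem QD : RData (DD h) ↥(VV (P : Subgroup G) E) h.ff where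
  comm := fun v w => Subtype.ext (h.VV_comm_E v.2 (h.VV_le_E w.2))
  sq := fun v => Subtype.ext (h.VV_sq v.2)
  faith := h.faith
  quad := by
    intro Q hQ x hx y hy v
    obtain ⟨S, hS⟩ := hQ.exists_le_syl
    obtain ⟨g, rfl⟩ := exists_smul_eq h.Tb S
    have hx' := mem_smul_syl.1 (hS hx)
    have hy' := mem_smul_syl.1 (hS hy)
    have h1 := h.quad_Tb hx' hy' (g⁻¹ • v)
    have h2 : d (g⁻¹ * x * g) (g⁻¹ • v) = g⁻¹ • d x v := by
      unfold d
      rw [smul_mul', smul_smul, smul_smul]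
      congr 2
      group
    rw [h2, smul_smul] at h1
    have h3 := congrArg (fun w => g • w) h1
    simp only [smul_smul] at h3
    have e1 : g * (g⁻¹ * y * g * g⁻¹) = y := by group
    rw [e1, mul_inv_cancel, one_smul] at h3
    exact h3
  f_comm := by
    -- it suffices to show one inclusion
    have key : ∀ s t : LL h, s ∈ DD h → orderOf s = 2 → Commute s t → h.ff s ⊆ h.ff t := by
      rintro s t hsD hs hst g ⟨y, hy, hys⟩
      set s₁ : LL h := (rr h g)⁻¹ * s * rr h g with hs₁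
      have hs₁2 : orderOf s₁ = 2 := by
        refine Eq.trans ?_ ((orderOf_injective (MulAut.conj (rr h g)⁻¹).toMonoidHom
          (MulAut.conj (rr h g)⁻¹).injective s).trans hs)
        congr 1
      have hs₁D : s₁ ∈ DD h := by
        have := smul_mem_fam hsD (rr h g)⁻¹
        rwa [inv_inv] at this
      obtain ⟨a, haA, hya⟩ := hs₁D
      have haS : (a : G) ∈ star (P : Subgroup G) E := by
        rw [← hys, rr_eq_iff] at hya
        have h1 : (a : G) * (y : G)⁻¹ ∈ star (P : Subgroup G) E :=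
          h.cent_le_star (mul_mem a.2 (inv_mem y.2)) hya
        have h2 := mul_mem h1 hy
        have e1 : (a : G) * (y : G)⁻¹ * y = a := by group
        rwa [e1] at h2
      obtain ⟨c, hc, hcP⟩ := exists_conj_le_of_le P
        (star (P : Subgroup G) E) _ h.P_le_star (ds_zpowers haA) (by rw [zpowers_le]; exact haS)
      have hcN : c ∈ normalizer (E : Set G) := h.star_le_N hc
      set t₀ : G := c * (a : G) * c⁻¹ with ht₀
      have ht₀P : t₀ ∈ (P : Subgroup G) := hcP _ (mem_zpowers _)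
      have ht₀r : rr h ⟨t₀, h.P_le_N ht₀P⟩ = rr h ⟨c, hcN⟩ * s₁ * (rr h ⟨c, hcN⟩)⁻¹ := by
        rw [← hya, ← map_mul, ← map_inv, ← map_mul]
        rfl
      have ht₀E : t₀ ∉ E := by
        intro hE
        have h1 := (h.rr_P_eq_one_iff ht₀P).2 hE
        rw [ht₀r, conj_eq_one_iff] at h1
        rw [h1, orderOf_one] at hs₁2
        omega
      -- a preimage of `t₁ = t^g`
      obtain ⟨z, hz⟩ := h.rr_surjective ((rr h g)⁻¹ * t * rr h g)
      refine ⟨z, ?_, hz⟩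
      have hcomm : Commute s₁ (rr h z) := by
        rw [hz, hs₁]
        change _ = _
        calc (rr h g)⁻¹ * s * rr h g * ((rr h g)⁻¹ * t * rr h g)
            = (rr h g)⁻¹ * (s * t) * rr h g := by group
          _ = (rr h g)⁻¹ * (t * s) * rr h g := by rw [hst.eq]
          _ = (rr h g)⁻¹ * t * rr h g * ((rr h g)⁻¹ * s * rr h g) := by group
      have h5 : c * (z : G) * c⁻¹ ∈ star (P : Subgroup G) E := by
        refine h.comm_mem_star ht₀P ht₀E (mul_mem (mul_mem hcN z.2) (inv_mem hcN)) ?_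
        have h6 : rr h (⟨c, hcN⟩ * z * (⟨c, hcN⟩)⁻¹ * ⟨t₀, h.P_le_N ht₀P⟩ *
            (⟨c, hcN⟩ * z * (⟨c, hcN⟩)⁻¹)⁻¹ * (⟨t₀, h.P_le_N ht₀P⟩)⁻¹) = 1 := by
          simp only [map_mul, map_inv, ht₀r]
          have h7 := hcomm.eq
          calc rr h ⟨c, hcN⟩ * rr h z * (rr h ⟨c, hcN⟩)⁻¹ *
                (rr h ⟨c, hcN⟩ * s₁ * (rr h ⟨c, hcN⟩)⁻¹) *
                (rr h ⟨c, hcN⟩ * rr h z * (rr h ⟨c, hcN⟩)⁻¹)⁻¹ *
                (rr h ⟨c, hcN⟩ * s₁ * (rr h ⟨c, hcN⟩)⁻¹)⁻¹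
              = rr h ⟨c, hcN⟩ * (rr h z * s₁) * ((rr h z)⁻¹ * s₁⁻¹) * (rr h ⟨c, hcN⟩)⁻¹ := by group
            _ = 1 := by rw [← h7]; group
        rw [rr_eq_one_iff] at h6
        exact h6
      have h8 := mul_mem (mul_mem (inv_mem hc) h5) hc
      have e2 : c⁻¹ * (c * (z : G) * c⁻¹) * c = z := by group
      rwa [e2] at h8
    intro s t hsD htD hs ht hst
    exact Set.Subset.antisymm (key s t hsD hs hst) (key t s htD ht hst.symm)

/-- `f` is not constant -/
theorem QD_ne : ∃ t s : LL h, t ∈ DD h ∧ s ∈ DD h ∧ orderOf t = 2 ∧ orderOf s = 2 ∧ h.ff t ≠ h.ff s := by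
  by_contra hcon
  push Not at hcon
  apply h.ess.star
  intro n hn
  -- every conjugate of `P` lies in `E*`
  obtain ⟨t₀, ht₀, ht₀E⟩ := SetLike.exists_of_lt h.ess.lt
  have hord : ∀ t : G, ∀ ht : t ∈ (P : Subgroup G), t ∉ E →
      orderOf (rr h ⟨t, h.P_le_N ht⟩) = 2 := by
    intro t ht htE
    refine h.QD.orderOf_eq_two h.Tb.ds (h.mem_Tb.2 ⟨t, ht, rfl⟩) ?_
    rw [Ne, h.rr_P_eq_one_iff ht]; exact htE
  have h1 : ∀ r ∈ (P : Subgroup G), n * r * n⁻¹ ∈ star (P : Subgroup G) E := by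
    intro r hr
    by_cases hrE : r ∈ E
    · exact h.P_le_star (h.E_le (h.E_conj hn hrE))
    · have h2 := hord r hr hrE
      set x : LL h := rr h ⟨n, hn⟩ * rr h ⟨r, h.P_le_N hr⟩ * (rr h ⟨n, hn⟩)⁻¹ with hx
      have hx2 : orderOf x = 2 := by
        refine Eq.trans ?_ ((orderOf_injective (MulAut.conj (rr h ⟨n, hn⟩)).toMonoidHom
          (MulAut.conj (rr h ⟨n, hn⟩)).injective (rr h ⟨r, h.P_le_N hr⟩)).trans h2)
        congr 1
      have h3 := hcon (rr h ⟨t₀, h.P_le_N ht₀⟩) x (h.Tb.mem (h.mem_Tb.2 ⟨t₀, ht₀, rfl⟩))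
        (smul_mem_fam (h.Tb.mem (h.mem_Tb.2 ⟨r, hr, rfl⟩)) _) (hord t₀ ht₀ ht₀E) hx2
      have h4 : (1 : ↥(normalizer (E : Set G))) ∈ h.ff (rr h ⟨t₀, h.P_le_N ht₀⟩) :=
        ⟨⟨t₀, h.P_le_N ht₀⟩, h.P_le_star ht₀, by simp⟩
      rw [h3] at h4
      obtain ⟨y, hy, hyx⟩ := h4
      rw [map_one, inv_one, one_mul, mul_one, hx, ← map_mul, ← map_inv, ← map_mul, rr_eq_iff] at hyx
      have hyN := y.2
      have h5 : (y : G) * (n * r * n⁻¹)⁻¹ ∈ star (P : Subgroup G) E := by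
        refine h.cent_le_star (mul_mem hyN (inv_mem (mul_mem (mul_mem hn (h.P_le_N hr))
          (inv_mem hn)))) hyx
      have h6 := mul_mem (inv_mem h5) hy
      have e1 : ((y : G) * (n * r * n⁻¹)⁻¹)⁻¹ * y = n * r * n⁻¹ := by group
      rwa [e1] at h6
  obtain ⟨c, hc, hcP⟩ := exists_conj_le_of_le P
    (star (P : Subgroup G) E) ((P : Subgroup G).map (MulAut.conj n).toMonoidHom) h.P_le_star
    (ds_map P.ds n) (by rintro _ ⟨r, hr, rfl⟩; exact h1 r hr)
  have h2 : c * n ∈ normalizer ((P : Subgroup G) : Set G) := by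
    refine mem_normalizer_of_conj fun r hr => ?_
    have := hcP (n * r * n⁻¹) ⟨r, hr, rfl⟩
    have e1 : c * (n * r * n⁻¹) * c⁻¹ = (c * n) * r * (c * n)⁻¹ := by group
    rwa [e1] at this
  have h3 := h.inf_normalizer_P_le_star ⟨mul_mem (h.star_le_N hc) hn, h2⟩
  have e1 : n = c⁻¹ * (c * n) := by group
  rw [e1]
  exact mul_mem (inv_mem hc) h3

end Setup

end Cfsg.Agent.ClassTwoFusion.RelLocal
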