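import Mathlib
import Cfsg.Agent.ClassTwoFusion.RelLocalQ
import Cfsg.Agent.ClassTwoFusion.LocalG

/-!
# Consequences inside `G` of a quadratic offender on `V`, relative to a closed family
-/

set_option autoImplicit false

namespace Cfsg.Agent.ClassTwoFusion.RelLocal

open Subgroup Cfsg.Agent.ClassTwoFusion.Gen Cfsg.Agent.ClassTwoFusion.RelAlperin
open Cfsg.Agent.TwoFusion.ClosedFam Cfsg.Agent.ClassTwoFusion.RelSyl
open Cfsg.Agent.ClassTwoFusion.Local (ncl le_ncl conj_mem_ncl ncl_le ncl_le_of_le oddGen oddGen_le mem_oddGen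
  conj_mem_oddGen actTriv conj_mem_actTriv Cl2 Zc Om mem_Zc mem_Om Om_le_Zc Zc_le VF VV XX BB
  mem_normalizer_of_conj UE)
open Cfsg.Agent.ClassTwoFusion.Quad (cv mem_cv mem_cv_singleton cv_anti d)
open Cfsg.Agent.ClassTwoFusion.RelQuad
open scoped Pointwise

variable {G : Type*} [Group G] {𝒜 : Set G}

namespace Setup

variable [h𝒜 : Fact (IsClosedFam 𝒜)] [Finite G] {P : Syl 𝒜} {E : Subgroup G} (h : Setup P E)

/-- image of a subgroup of `N_G(E)` in `L` -/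
def img (A : Subgroup G) : Subgroup (LL h) := (A.subgroupOf (normalizer (E : Set G))).map (rr h)

theorem mem_img {A : Subgroup G} (hA : A ≤ normalizer (E : Set G)) {x : LL h} :
    x ∈ h.img A ↔ ∃ a : G, ∃ ha : a ∈ A, rr h ⟨a, hA ha⟩ = x := by
  constructor
  · rintro ⟨⟨a, haN⟩, ha, rfl⟩
    exact ⟨a, ha, rfl⟩
  · rintro ⟨a, ha, rfl⟩
    exact ⟨⟨a, hA ha⟩, ha, rfl⟩

theorem img_P : h.img (P : Subgroup G) = (h.Tb : Subgroup (LL h)) := rfl

theorem img_le_Tb {A : Subgroup G} (hA : A ≤ (P : Subgroup G)) :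
    h.img A ≤ (h.Tb : Subgroup (LL h)) := by
  rw [← img_P]
  exact map_mono (comap_mono hA)

theorem card_img {A : Subgroup G} (hA : A ≤ (P : Subgroup G)) :
    Nat.card (h.img A) = E.relIndex A := by
  have hAN : A ≤ normalizer (E : Set G) := hA.trans h.P_le_N
  let φ : A →* LL h := (rr h).comp (inclusion hAN)
  have h1 : φ.range = h.img A := by
    ext x
    rw [h.mem_img hAN]
    constructor
    · rintro ⟨⟨a, ha⟩, rfl⟩; exact ⟨a, ha, rfl⟩
    · rintro ⟨a, ha, rfl⟩; exact ⟨⟨a, ha⟩, rfl⟩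
  have h2 : φ.ker = E.subgroupOf A := by
    ext ⟨a, ha⟩
    rw [MonoidHom.mem_ker, mem_subgroupOf]
    exact h.rr_P_eq_one_iff (hA ha)
  rw [← h1, ← index_ker φ, h2]
  rfl

theorem card_Tb : Nat.card (h.Tb : Subgroup (LL h)) = E.relIndex (P : Subgroup G) := by
  have := h.card_img (A := (P : Subgroup G)) le_rfl
  rw [img_P] at this
  exact this

theorem mem_cv_img {A : Subgroup G} (hA : A ≤ normalizer (E : Set G))
    {v : ↥(VV (P : Subgroup G) E)} :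
    v ∈ cv ↥(VV (P : Subgroup G) E) ((h.img A : Subgroup (LL h)) : Set (LL h)) ↔
      ∀ a ∈ A, a * (v : G) * a⁻¹ = v := by
  constructor
  · intro hv a ha
    have := hv (rr h ⟨a, hA ha⟩) ((h.mem_img hA).2 ⟨a, ha, rfl⟩)
    exact congrArg Subtype.val this
  · intro hv x hx
    obtain ⟨a, ha, rfl⟩ := (h.mem_img hA).1 hx
    exact Subtype.ext (hv a ha)

theorem cv_img {A : Subgroup G} (hA : A ≤ normalizer (E : Set G)) :
    cv ↥(VV (P : Subgroup G) E) ((h.img A : Subgroup (LL h)) : Set (LL h)) =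
      (centralizer (A : Set G)).subgroupOf (VV (P : Subgroup G) E) := by
  ext v
  rw [h.mem_cv_img hA, mem_subgroupOf, mem_centralizer_iff]
  constructor
  · intro h1 a ha
    have := h1 a ha
    calc a * (v : G) = (a * v * a⁻¹) * a := by group
      _ = v * a := by rw [this]
  · intro h1 a ha
    rw [h1 a ha]; group

theorem index_cv_img {A : Subgroup G} (hA : A ≤ normalizer (E : Set G)) :
    (cv ↥(VV (P : Subgroup G) E) ((h.img A : Subgroup (LL h)) : Set (LL h))).index =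
      (centralizer (A : Set G)).relIndex (VV (P : Subgroup G) E) := by
  rw [h.cv_img hA]; rfl

/-- the offender criterion -/
theorem offender {A : Subgroup G} (hA : A ≤ (P : Subgroup G)) (hAE : ¬ A ≤ E)
    (hoff : (centralizer (A : Set G)).relIndex (VV (P : Subgroup G) E) ≤ E.relIndex A) :
    ND (DD h) ↥(VV (P : Subgroup G) E) ∧ (P : Subgroup G) ≤ A ⊔ E ∧
      (centralizer (A : Set G)).relIndex (VV (P : Subgroup G) E) = E.relIndex A ∧
      E.relIndex A = E.relIndex (P : Subgroup G) := by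
  have hAN := hA.trans h.P_le_N
  have h1 : DS (DD h) (h.img A) := h.Tb.ds.to_le (h.img_le_Tb hA)
  have h2 : h.img A ≠ ⊥ := by
    intro e
    obtain ⟨a, ha, haE⟩ := SetLike.not_le_iff_exists.1 hAE
    apply haE
    have h3 : rr h ⟨a, hAN ha⟩ ∈ h.img A := (h.mem_img hAN).2 ⟨a, ha, rfl⟩
    rw [e, mem_bot] at h3
    exact (h.rr_P_eq_one_iff (hA ha)).1 h3
  have h3 : (cv ↥(VV (P : Subgroup G) E) ((h.img A : Subgroup (LL h)) : Set (LL h))).index ≤
      Nat.card (h.img A) := by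
    rw [h.index_cv_img hAN, h.card_img hA]; exact hoff
  have hT := h.QD.eq_syl h.QD_ne h1 h2 h3 h.Tb (h.img_le_Tb hA)
  have hN := h.QD.toND h.QD_ne h1 h2 h3
  refine ⟨hN, ?_, ?_, ?_⟩
  · intro t ht
    have h4 : rr h ⟨t, h.P_le_N ht⟩ ∈ h.img A := by rw [hT]; exact h.mem_Tb.2 ⟨t, ht, rfl⟩
    obtain ⟨a, ha, hat⟩ := (h.mem_img hAN).1 h4
    have h5 : rr h ⟨a⁻¹ * t, h.P_le_N (mul_mem (inv_mem (hA ha)) ht)⟩ = 1 := by
      have : (⟨a⁻¹ * t, h.P_le_N (mul_mem (inv_mem (hA ha)) ht)⟩ : ↥(normalizer (E : Set G))) =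
        (⟨a, hAN ha⟩)⁻¹ * ⟨t, h.P_le_N ht⟩ := rfl
      rw [this, map_mul, map_inv, hat, inv_mul_cancel]
    have h6 := (h.rr_P_eq_one_iff (mul_mem (inv_mem (hA ha)) ht)).1 h5
    have e1 : t = a * (a⁻¹ * t) := by group
    rw [e1]
    exact mul_mem (mem_sup_left ha) (mem_sup_right h6)
  · rw [← h.index_cv_img hAN, ← h.card_img hA, hT, hN.index_cv h.Tb]
  · rw [← h.card_img hA, hT, ← h.card_Tb]

end Setup

/-- Essential subgroup with an offender on `V`. -/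
structure Good [Fact (IsClosedFam 𝒜)] [Finite G] (P : Syl 𝒜) (E : Subgroup G) : Prop extends Setup P E where
  nd : ND (DD toSetup) ↥(VV (P : Subgroup G) E)

namespace Good

variable [h𝒜 : Fact (IsClosedFam 𝒜)] [Finite G] {P : Syl 𝒜} {E : Subgroup G} (h : Good P E)
include h

theorem mem_Om_of_fixed {t v : G} (ht : t ∈ (P : Subgroup G)) (htE : t ∉ E)
    (hv : v ∈ VV (P : Subgroup G) E) (htv : t * v * t⁻¹ = v) : v ∈ Om (P : Subgroup G) := by
  have h1 : rr h.toSetup ⟨t, h.P_le_N ht⟩ ∈ (h.Tb : Subgroup (LL h.toSetup)) := h.mem_Tb.2 ⟨t, ht, rfl⟩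
  have h2 : rr h.toSetup ⟨t, h.P_le_N ht⟩ ≠ 1 := by
    rw [Ne, h.rr_P_eq_one_iff ht]; exact htE
  have h3 := h.nd.cv_eq h.Tb _ h1 h2
  have h4 : (⟨v, hv⟩ : ↥(VV (P : Subgroup G) E)) ∈ cv ↥(VV (P : Subgroup G) E)
      ({rr h.toSetup ⟨t, h.P_le_N ht⟩} : Set (LL h.toSetup)) :=
    mem_cv_singleton.2 (Subtype.ext htv)
  rw [h3, ← h.img_P, h.mem_cv_img h.P_le_N] at h4
  refine mem_Om.2 ⟨h.E_le (h.VV_le_E hv), fun x hx => ?_, h.VV_sq hv⟩
  have h5 : x * v * x⁻¹ = v := h4 x hx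
  calc x * v = (x * v * x⁻¹) * x := by group
    _ = v * x := by rw [h5]

theorem Om_eq : (centralizer ((P : Subgroup G) : Set G)).subgroupOf (VV (P : Subgroup G) E) =
    (Om (P : Subgroup G)).subgroupOf (VV (P : Subgroup G) E) := by
  ext ⟨v, hv⟩
  rw [mem_subgroupOf, mem_subgroupOf, mem_Om, mem_centralizer_iff]
  constructor
  · intro h1; exact ⟨h.E_le (h.VV_le_E hv), fun x hx => h1 x hx, h.VV_sq hv⟩
  · intro h1 x hx; exact h1.2.1 x hx

theorem relIndex_Om : (Om (P : Subgroup G)).relIndex (VV (P : Subgroup G) E) =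
    E.relIndex (P : Subgroup G) := by
  have h1 := h.nd.index_cv h.Tb
  rw [← h.img_P, h.cv_img h.P_le_N, h.Om_eq, h.img_P, h.card_Tb] at h1
  exact h1

theorem two_le : 2 ≤ E.relIndex (P : Subgroup G) := by
  rw [← h.card_Tb]; exact h.nd.two_le h.Tb

theorem img_XX : h.img (XX (P : Subgroup G) E) = OX (DD h.toSetup) := by
  apply le_antisymm
  · intro x hx
    obtain ⟨y, hy, rfl⟩ := (h.mem_img h.XX_le_N).1 hx
    have h1 : XX (P : Subgroup G) E ≤ ((OX (DD h.toSetup)).comap (rr h.toSetup)).map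
        (normalizer (E : Set G)).subtype := by
      refine ncl_le fun n hn a ha => ?_
      refine ⟨⟨n, hn⟩ * ⟨a, h.P_le_N ha⟩ * (⟨n, hn⟩)⁻¹, ?_, rfl⟩
      change rr h.toSetup _ ∈ OX _
      rw [map_mul, map_mul, map_inv]
      exact conj_mem_OX _ (syl_le_OX h.Tb (h.mem_Tb.2 ⟨a, ha, rfl⟩))
    obtain ⟨⟨z, hz⟩, hz1, rfl⟩ := h1 hy
    exact hz1
  · refine iSup_le fun T => ?_
    obtain ⟨g, rfl⟩ := exists_smul_eq h.Tb T
    intro x hx
    rw [mem_smul_syl] at hx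
    obtain ⟨t, ht, htx⟩ := h.mem_Tb.1 hx
    obtain ⟨n, rfl⟩ := h.rr_surjective g
    rw [h.mem_img h.XX_le_N]
    refine ⟨n * t * (n : G)⁻¹, Setup.XX_conj n.2 (h.P_le_XX ht), ?_⟩
    have : rr h.toSetup (n * ⟨t, h.P_le_N ht⟩ * n⁻¹) = x := by
      rw [map_mul, map_mul, map_inv, htx]; group
    exact this

theorem UU_eq : UU (DD h.toSetup) ↥(VV (P : Subgroup G) E) =
    (UE (P : Subgroup G) E).subgroupOf (VV (P : Subgroup G) E) := by
  unfold UU
  rw [← h.img_XX, h.cv_img h.XX_le_N]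
  ext ⟨v, hv⟩
  rw [mem_subgroupOf, mem_subgroupOf]
  exact ⟨fun h1 => ⟨hv, h1⟩, fun h1 => h1.2⟩

theorem relIndex_UE : (UE (P : Subgroup G) E).relIndex (VV (P : Subgroup G) E) =
    E.relIndex (P : Subgroup G) * E.relIndex (P : Subgroup G) := by
  have h1 := h.nd.index_UU h.Tb
  rw [h.UU_eq, h.card_Tb] at h1
  exact h1

theorem UE_le_VV : UE (P : Subgroup G) E ≤ VV (P : Subgroup G) E := inf_le_left

theorem UE_le_Om : UE (P : Subgroup G) E ≤ Om (P : Subgroup G) := by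
  rintro v ⟨hv, hv'⟩
  refine mem_Om.2 ⟨h.E_le (h.VV_le_E hv), fun x hx => ?_, h.VV_sq hv⟩
  exact mem_centralizer_iff.1 hv' x (h.P_le_XX hx)

theorem mem_UE {v : G} : v ∈ UE (P : Subgroup G) E ↔
    v ∈ VV (P : Subgroup G) E ∧ ∀ x ∈ XX (P : Subgroup G) E, x * v * x⁻¹ = v := by
  unfold UE
  rw [mem_inf, mem_centralizer_iff]
  refine and_congr_right fun _ => ?_
  constructor
  · intro h1 x hx
    rw [h1 x hx]; group
  · intro h1 x hx
    have := h1 x hx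
    calc x * v = (x * v * x⁻¹) * x := by group
      _ = v * x := by rw [this]

theorem relIndex_UE_Om : (UE (P : Subgroup G) E).relIndex (Om (P : Subgroup G)) =
    E.relIndex (P : Subgroup G) := by
  have h1 := relIndex_mul_relIndex _ _ _ h.UE_le_Om h.Om_le_VV
  rw [h.relIndex_Om, h.relIndex_UE] at h1
  have := h.two_le
  exact Nat.eq_of_mul_eq_mul_right (by omega) h1

theorem mem_UU_iff {v : ↥(VV (P : Subgroup G) E)} :
    v ∈ UU (DD h.toSetup) ↥(VV (P : Subgroup G) E) ↔ (v : G) ∈ UE (P : Subgroup G) E := by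
  rw [h.UU_eq, mem_subgroupOf]

/-- elements of `OX L` lift to `X` -/
theorem exists_lift {x : LL h.toSetup} (hx : x ∈ OX (DD h.toSetup)) :
    ∃ y : G, ∃ hy : y ∈ XX (P : Subgroup G) E, rr h.toSetup ⟨y, h.XX_le_N hy⟩ = x := by
  rw [← h.img_XX] at hx
  exact (h.mem_img h.XX_le_N).1 hx

/-- `V/U` is irreducible under `X` -/
theorem exists_mul_UE {M : Subgroup G} (hMV : M ≤ VV (P : Subgroup G) E)
    (hM : ∀ x ∈ XX (P : Subgroup G) E, ∀ m ∈ M, x * m * x⁻¹ ∈ M)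
    (hMU : ¬ M ≤ UE (P : Subgroup G) E) {v : G} (hv : v ∈ VV (P : Subgroup G) E) :
    ∃ m ∈ M, ∃ u ∈ UE (P : Subgroup G) E, v = m * u := by
  have h1 := h.nd.sup_UU_eq_top (M := M.subgroupOf (VV (P : Subgroup G) E)) (by
    intro x hx m hm
    obtain ⟨y, hy, rfl⟩ := h.exists_lift hx
    rw [mem_subgroupOf] at hm ⊢
    exact hM y hy _ hm) (by
    intro hle
    apply hMU
    intro m hm
    have : (⟨m, hMV hm⟩ : ↥(VV (P : Subgroup G) E)) ∈ M.subgroupOf (VV (P : Subgroup G) E) :=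
      mem_subgroupOf.2 hm
    exact h.mem_UU_iff.1 (hle this))
  have h2 : (⟨v, hv⟩ : ↥(VV (P : Subgroup G) E)) ∈ M.subgroupOf (VV (P : Subgroup G) E) ⊔
      UU (DD h.toSetup) ↥(VV (P : Subgroup G) E) := by rw [h1]; exact mem_top _
  have := h.nd.normalV (UU (DD h.toSetup) ↥(VV (P : Subgroup G) E))
  obtain ⟨m, hm, u, hu, hmu⟩ := mem_sup_of_normal_right.1 h2
  refine ⟨m, mem_subgroupOf.1 hm, u, h.mem_UU_iff.1 hu, ?_⟩
  exact (congrArg Subtype.val hmu).symm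

theorem mem_Om_of_comm_mem_UE {t v : G} (ht : t ∈ (P : Subgroup G)) (htE : t ∉ E)
    (hv : v ∈ VV (P : Subgroup G) E) (htv : t * v * t⁻¹ * v⁻¹ ∈ UE (P : Subgroup G) E) :
    v ∈ Om (P : Subgroup G) := by
  have h1 : rr h.toSetup ⟨t, h.P_le_N ht⟩ ∈ (h.Tb : Subgroup (LL h.toSetup)) := h.mem_Tb.2 ⟨t, ht, rfl⟩
  have h2 : rr h.toSetup ⟨t, h.P_le_N ht⟩ ≠ 1 := by
    rw [Ne, h.rr_P_eq_one_iff ht]; exact htE
  have hvi : v⁻¹ = v := inv_eq_of_mul_eq_one_right (h.VV_sq hv)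
  have h3 := h.nd.mem_cv_of_d_mem_UU h1 h2 (v := ⟨v, hv⟩) (by
    rw [h.mem_UU_iff]
    rw [hvi] at htv
    exact htv)
  rw [← h.img_P, h.mem_cv_img h.P_le_N] at h3
  exact h.mem_Om_of_fixed ht htE hv (h3 t ht)

/-- a vector moved outside `U` by every `t ∈ P \ E` -/
theorem exists_comm_not_mem_UE : ∃ v ∈ VV (P : Subgroup G) E, ∀ t ∈ (P : Subgroup G), t ∉ E →
    t * v * t⁻¹ * v⁻¹ ∉ UE (P : Subgroup G) E := by
  -- any `v ∈ V \ Om`
  obtain ⟨v, hv, hvO⟩ : ∃ v ∈ VV (P : Subgroup G) E, v ∉ Om (P : Subgroup G) := by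
    by_contra hcon
    push Not at hcon
    have : (Om (P : Subgroup G)).relIndex (VV (P : Subgroup G) E) = 1 := relIndex_eq_one.2 hcon
    have h2 := h.two_le
    rw [← h.relIndex_Om, this] at h2
    omega
  exact ⟨v, hv, fun t ht htE htv => hvO (h.mem_Om_of_comm_mem_UE ht htE hv htv)⟩

/-- an odd element of `N(E)` centralising `P/E` centralises `X/C_X(V)` -/
theorem comm_XX {y : G} (hy : y ∈ normalizer (E : Set G)) (hodd : Odd (orderOf y))
    (hyP : ∀ t ∈ (P : Subgroup G), y * t * y⁻¹ * t⁻¹ ∈ E) {x : G} (hx : x ∈ XX (P : Subgroup G) E)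
    {v : G} (hv : v ∈ VV (P : Subgroup G) E) :
    y * (x * v * x⁻¹) * y⁻¹ = x * (y * v * y⁻¹) * x⁻¹ := by
  have h1 : Odd (orderOf (rr h.toSetup ⟨y, hy⟩)) := by
    have h2 : orderOf (rr h.toSetup ⟨y, hy⟩) ∣ orderOf y := by
      have := orderOf_map_dvd (rr h.toSetup) ⟨y, hy⟩
      rwa [← orderOf_coe (⟨y, hy⟩ : ↥(normalizer (E : Set G)))] at this
    exact Odd.of_dvd_nat hodd h2
  have h2 : ∀ t ∈ (h.Tb : Subgroup (LL h.toSetup)),
      rr h.toSetup ⟨y, hy⟩ * t = t * rr h.toSetup ⟨y, hy⟩ := by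
    intro t ht
    obtain ⟨s, hs, rfl⟩ := h.mem_Tb.1 ht
    rw [← map_mul, ← map_mul, Setup.rr_eq_iff]
    change y * s * (s * y)⁻¹ ∈ _
    have e1 : y * s * (s * y)⁻¹ = y * s * y⁻¹ * s⁻¹ := by group
    rw [e1, mem_centralizer_iff]
    intro w hw
    exact h.VV_comm_E hw (hyP s hs)
  have h3 := h.nd.commute_OX h1 h2 (rr h.toSetup ⟨x, h.XX_le_N hx⟩) (by
    rw [← h.img_XX, h.mem_img h.XX_le_N]; exact ⟨x, hx, rfl⟩)
  have h4 := congrArg (fun z : LL h.toSetup => ((z • (⟨v, hv⟩ : ↥(VV (P : Subgroup G) E)) :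
    ↥(VV (P : Subgroup G) E)) : G)) h3
  simp only [mul_smul] at h4
  exact h4

/-- transitivity of `N_X(P)` on `Ω / U` -/
theorem trans_normalizer {v w : G} (hv : v ∈ Om (P : Subgroup G)) (hw : w ∈ Om (P : Subgroup G))
    (hvU : v ∉ UE (P : Subgroup G) E) (hwU : w ∉ UE (P : Subgroup G) E) :
    ∃ x ∈ XX (P : Subgroup G) E, x ∈ normalizer ((P : Subgroup G) : Set G) ∧
      (x * v * x⁻¹) * w ∈ UE (P : Subgroup G) E := by
  have hcv : ∀ v : G, ∀ hv : v ∈ Om (P : Subgroup G), (⟨v, h.Om_le_VV hv⟩ : ↥(VV (P : Subgroup G) E)) ∈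
      cv ↥(VV (P : Subgroup G) E) ((h.Tb : Subgroup (LL h.toSetup)) :
        Set (LL h.toSetup)) := by
    intro v hv
    rw [← h.img_P, h.mem_cv_img h.P_le_N]
    intro a ha
    change a * v * a⁻¹ = v
    rw [(mem_Om.1 hv).2.1 a ha]; group
  obtain ⟨x, hx, hxT, hxv⟩ := h.nd.trans_normalizer (hcv v hv) (hcv w hw)
    (fun e => hvU (h.mem_UU_iff.1 e)) (fun e => hwU (h.mem_UU_iff.1 e))
  obtain ⟨y, hy, rfl⟩ := h.exists_lift hx
  -- `y P y⁻¹ ≤ C_X(V) P`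
  have hyP : ∀ r ∈ (P : Subgroup G), y * r * y⁻¹ ∈ (XX (P : Subgroup G) E ⊓
      centralizer (VV (P : Subgroup G) E : Set G)) ⊔ (P : Subgroup G) := by
    intro r hr
    have h1 : rr h.toSetup ⟨y, h.XX_le_N hy⟩ * rr h.toSetup ⟨r, h.P_le_N hr⟩ *
        (rr h.toSetup ⟨y, h.XX_le_N hy⟩)⁻¹ ∈ (h.Tb : Subgroup (LL h.toSetup)) := by
      rw [← hxT, mem_smul_syl]
      have e1 : (rr h.toSetup ⟨y, h.XX_le_N hy⟩)⁻¹ * (rr h.toSetup ⟨y, h.XX_le_N hy⟩ *
        rr h.toSetup ⟨r, h.P_le_N hr⟩ * (rr h.toSetup ⟨y, h.XX_le_N hy⟩)⁻¹) *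
        rr h.toSetup ⟨y, h.XX_le_N hy⟩ = rr h.toSetup ⟨r, h.P_le_N hr⟩ := by group
      rw [e1]; exact h.mem_Tb.2 ⟨r, hr, rfl⟩
    obtain ⟨s, hs, hsr⟩ := h.mem_Tb.1 h1
    rw [← map_mul, ← map_inv, ← map_mul, eq_comm, Setup.rr_eq_iff] at hsr
    have h2 : y * r * y⁻¹ * s⁻¹ ∈ centralizer (VV (P : Subgroup G) E : Set G) := hsr
    have h3 : y * r * y⁻¹ * s⁻¹ ∈ XX (P : Subgroup G) E :=
      mul_mem (Setup.XX_conj (h.XX_le_N hy) (h.P_le_XX hr)) (inv_mem (h.P_le_XX hs))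
    have e2 : y * r * y⁻¹ = (y * r * y⁻¹ * s⁻¹) * s := by group
    rw [e2]
    exact mul_mem (mem_sup_left (mem_inf.2 ⟨h3, h2⟩)) (mem_sup_right hs)
  obtain ⟨k, hk, hkP⟩ := exists_mul_conj' P (K := XX (P : Subgroup G) E ⊓
      centralizer (VV (P : Subgroup G) E : Set G)) (R := (P : Subgroup G)) (x := y)
    (fun z hz k hk => mem_inf.2 ⟨Setup.XX_conj (h.P_le_N hz) hk.1, h.conj_mem_cent (h.P_le_N hz) hk.2⟩)
    P.ds hyP
  refine ⟨k * y, mul_mem hk.1 hy, mem_normalizer_of_conj hkP, ?_⟩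
  have h4 : (k * y) * v * (k * y)⁻¹ = y * v * y⁻¹ := by
    have h5 : y * v * y⁻¹ ∈ VV (P : Subgroup G) E := h.VV_conj (h.XX_le_N hy) (h.Om_le_VV hv)
    have h6 := mem_centralizer_iff.1 hk.2 _ h5
    calc (k * y) * v * (k * y)⁻¹ = (k * (y * v * y⁻¹)) * k⁻¹ := by group
      _ = y * v * y⁻¹ := by rw [← h6]; group
  rw [h4]
  exact h.mem_UU_iff.1 hxv

/-- there is an element of odd order of `X` acting nontrivially on `V` -/
theorem exists_odd : ∃ y ∈ XX (P : Subgroup G) E, Odd (orderOf y) ∧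
    ∃ v ∈ VV (P : Subgroup G) E, y * v * y⁻¹ ≠ v := by
  obtain ⟨T', hne⟩ := h.nd.exists_ne' h.Tb
  obtain ⟨t, ht, ht1⟩ := h.nd.exists_ne_one h.Tb
  obtain ⟨s, hs, hs1⟩ := h.nd.exists_ne_one T'
  have hodd := h.nd.odd hne ht hs ht1 hs1
  have hts : t * s ≠ 1 := by
    intro e
    rw [mul_eq_one_iff_eq_inv] at e
    have : t ∈ (T' : Subgroup (LL h.toSetup)) := by rw [e]; exact inv_mem hs
    exact hne (h.nd.ti ht this ht1)
  obtain ⟨y, hy, hyts⟩ := h.exists_lift (mul_mem (syl_le_OX h.Tb ht) (syl_le_OX T' hs))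
  obtain ⟨a, b, hab, ⟨k, hk⟩, hb⟩ :=
    Cfsg.Agent.TwoFusion.PResidual.exists_pPart_mul_pPrimePart 2 (⟨y, h.XX_le_N hy⟩ : ↥(normalizer (E : Set G)))
  set Y : ↥(normalizer (E : Set G)) := ⟨y, h.XX_le_N hy⟩ with hY
  have h1 : rr h.toSetup (Y ^ a) = 1 := by
    have h2 : orderOf (rr h.toSetup (Y ^ a)) ∣ 2 ^ k := by
      have := orderOf_map_dvd (rr h.toSetup) (Y ^ a)
      rwa [hk] at this
    have h3 : orderOf (rr h.toSetup (Y ^ a)) ∣ orderOf (t * s) := by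
      rw [map_zpow, hyts]
      exact orderOf_dvd_of_mem_zpowers (zpow_mem (mem_zpowers _) a)
    exact orderOf_eq_one_iff.1 (Nat.eq_one_of_dvd_coprimes
      (Nat.Coprime.pow_left k (Nat.coprime_two_left.2 hodd)) h2 h3)
  have h2 : rr h.toSetup (Y ^ b) = t * s := by
    have : rr h.toSetup Y = rr h.toSetup (Y ^ a) * rr h.toSetup (Y ^ b) := by rw [← map_mul, ← hab]
    rw [h1, one_mul] at this
    rw [← this, hyts]
  refine ⟨y ^ b, zpow_mem hy b, ?_, ?_⟩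
  · have : orderOf (y ^ b) = orderOf (Y ^ b) := by
      rw [← orderOf_coe (Y ^ b)]
      rfl
    rw [this]
    exact Nat.coprime_two_right.1 hb
  · by_contra hcon
    push Not at hcon
    apply hts
    rw [← h2]
    apply h.faith
    intro v
    apply Subtype.ext
    exact hcon v v.2

end Good

end Cfsg.Agent.ClassTwoFusion.RelLocal
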