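import Mathlib
import Cfsg.Agent.ClassTwoFusion.RelLocalG
import Cfsg.Agent.ClassTwoFusion.Edge

/-!
# Adjacent essential subgroups, relative to a closed family
-/

set_option autoImplicit false

namespace Cfsg.Agent.ClassTwoFusion.RelLocal

open Subgroup Cfsg.Agent.ClassTwoFusion.Gen Cfsg.Agent.ClassTwoFusion.RelAlperin
open Cfsg.Agent.TwoFusion.ClosedFam Cfsg.Agent.ClassTwoFusion.RelSyl
open Cfsg.Agent.ClassTwoFusion.Local (ncl le_ncl conj_mem_ncl ncl_le ncl_le_of_le oddGen oddGen_le mem_oddGen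
  conj_mem_oddGen actTriv conj_mem_actTriv Cl2 Zc Om mem_Zc mem_Om Om_le_Zc Zc_le VF VV XX BB
  mem_normalizer_of_conj UE pow_mod WW CE)
open Cfsg.Agent.ClassTwoFusion.Quad (cv mem_cv mem_cv_singleton cv_anti d)
open Cfsg.Agent.ClassTwoFusion.RelQuad
open scoped Pointwise

variable {G : Type*} [Group G] {𝒜 : Set G}

namespace Setup

variable [h𝒜 : Fact (IsClosedFam 𝒜)] [Finite G] {P : Syl 𝒜} {E : Subgroup G} (h : Setup P E)
include h

theorem BB_le_XX : BB (P : Subgroup G) E ≤ XX (P : Subgroup G) E := oddGen_le _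

omit h h𝒜 [Finite G] in
theorem BB_conj {P E : Subgroup G} {n x : G} (hn : n ∈ normalizer (E : Set G)) (hx : x ∈ BB P E) :
    n * x * n⁻¹ ∈ BB P E := conj_mem_oddGen (fun _ hy => XX_conj hn hy) hx

/-- `x² ∈ E` for `x ∈ P` -/
theorem sq_mem_E {x : G} (hx : x ∈ (P : Subgroup G)) : x * x ∈ E := by
  refine h.inf_centralizer_le_E (mul_mem hx hx) ?_
  rw [mem_centralizer_iff]
  intro v hv
  have := h.sq_comm_VV hx hv
  calc v * (x * x) = ((x * x) * v * (x * x)⁻¹) * (x * x) := by rw [this]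
    _ = (x * x) * v := by group

/-- `[VF, X] ≤ V` -/
theorem comm_VF_mem {x v : G} (hx : x ∈ XX (P : Subgroup G) E) (hv : v ∈ VF (P : Subgroup G) E) :
    x * v * x⁻¹ * v⁻¹ ∈ VV (P : Subgroup G) E := by
  have h1 : XX (P : Subgroup G) E ≤ actTriv (normalizer (E : Set G)) (VF (P : Subgroup G) E)
      (VV (P : Subgroup G) E)
      (fun n hn e he => VF_conj hn he) (fun n hn v hv => h.VV_conj hn hv) := by
    refine ncl_le_of_le (fun y hy => ⟨h.P_le_N hy, fun v hv => ?_⟩)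
      (fun n hn a ha => conj_mem_actTriv _ _ hn ha)
    refine h.Om_le_VV ⟨comm_mem_Zc h.cl hy (h.E_le (h.VF_le_E hv)), ?_⟩
    set c := y * v * y⁻¹ * v⁻¹ with hc
    have hcZ : c ∈ Zc (P : Subgroup G) := comm_mem_Zc h.cl hy (h.E_le (h.VF_le_E hv))
    have e1 : y * v * y⁻¹ = c * v := by rw [hc]; group
    have e2 : y * c = c * y := (mem_Zc.1 hcZ).2 y hy
    have e3 : (y * y) * v * (y * y)⁻¹ = (c * c) * v := by
      calc (y * y) * v * (y * y)⁻¹ = y * (y * v * y⁻¹) * y⁻¹ := by group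
        _ = (y * c) * v * y⁻¹ := by rw [e1]; group
        _ = c * (y * v * y⁻¹) := by rw [e2]; group
        _ = (c * c) * v := by rw [e1]; group
    have e4 := h.VF_comm_E v hv _ (h.sq_mem_E hy)
    have e5 : (y * y) * v * (y * y)⁻¹ = v := by rw [← e4]; group
    rw [e5] at e3
    exact mul_eq_right.1 e3.symm
  exact (h1 hx).2 v hv

/-- `[E, y] ≤ V` for `y` of odd order in `X` -/
theorem comm_odd_mem {y e : G} (hy : y ∈ XX (P : Subgroup G) E) (hodd : Odd (orderOf y))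
    (he : e ∈ E) : y * e * y⁻¹ * e⁻¹ ∈ VV (P : Subgroup G) E := by
  set u := y * e * y⁻¹ * e⁻¹ with hu
  have huF : u ∈ VF (P : Subgroup G) E := h.comm_XX_mem hy he
  have h1 : y * e * y⁻¹ = u * e := by rw [hu]; group
  obtain ⟨m, hm, hme⟩ := pow_mod (M := VV (P : Subgroup G) E) (fun m hm => h.VV_conj (h.XX_le_N hy) hm)
    (fun m hm => h.VF_comm u huF m (h.VV_le_VF hm)) h1 (h.comm_VF_mem hy huF) (orderOf y)
  rw [pow_orderOf_eq_one] at hme
  have h2 : m * u ^ orderOf y = 1 := by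
    have : e = m * u ^ orderOf y * e := by simpa using hme
    exact mul_eq_right.1 this.symm
  have h3 : (u * u) ^ orderOf y = 1 := by
    have h4 : u ^ orderOf y = m⁻¹ := (inv_eq_of_mul_eq_one_right h2).symm
    have h5 : m⁻¹ = m := inv_eq_of_mul_eq_one_right (h.VV_sq hm)
    rw [← pow_two, ← pow_mul, mul_comm, pow_mul, h4, h5, pow_two, h.VV_sq hm]
  have h4 := eq_one_of_pow_odd h.isPGroup_E (mul_mem (h.VF_le_E huF) (h.VF_le_E huF)) hodd h3
  exact h.mem_VV.2 ⟨huF, h4⟩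

/-- odd elements of `X` centralise commutators of elements of `E` -/
theorem comm_fixed {y e f : G} (hy : y ∈ XX (P : Subgroup G) E) (hodd : Odd (orderOf y))
    (he : e ∈ E) (hf : f ∈ E) :
    y * (e * f * e⁻¹ * f⁻¹) * y⁻¹ = e * f * e⁻¹ * f⁻¹ := by
  set v := y * e * y⁻¹ * e⁻¹ with hv
  set w := y * f * y⁻¹ * f⁻¹ with hw
  have hvV : v ∈ VV (P : Subgroup G) E := h.comm_odd_mem hy hodd he
  have hwV : w ∈ VV (P : Subgroup G) E := h.comm_odd_mem hy hodd hf
  have e1 : y * e * y⁻¹ = v * e := by rw [hv]; group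
  have e2 : y * f * y⁻¹ = w * f := by rw [hw]; group
  have hve : v * e = e * v := h.VV_comm_E hvV he
  have hvf : v * f = f * v := h.VV_comm_E hvV hf
  have hwe : w * e = e * w := h.VV_comm_E hwV he
  have hwf : w * f = f * w := h.VV_comm_E hwV hf
  have hvw : v * w = w * v := h.VV_comm_E hvV (h.VV_le_E hwV)
  have cve : Commute v e := hve
  have cvf : Commute v f := hvf
  have cwe : Commute w e := hwe
  have cwf : Commute w f := hwf
  have cvw : Commute v w := hvw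
  have e3 : y * (e * f * e⁻¹ * f⁻¹) * y⁻¹ = (v * e) * (w * f) * (v * e)⁻¹ * (w * f)⁻¹ := by
    rw [← e1, ← e2]; group
  have e4 : (v * e) * (w * f) = (v * w) * (e * f) := by
    rw [mul_assoc, ← mul_assoc e, ← cwe.eq]; group
  have e5 : (w * f) * (v * e) = (v * w) * (f * e) := by
    rw [mul_assoc, ← mul_assoc f, ← cvf.eq, cvw.eq]; group
  calc y * (e * f * e⁻¹ * f⁻¹) * y⁻¹ = ((v * e) * (w * f)) * ((w * f) * (v * e))⁻¹ := by
        rw [e3]; group
    _ = ((v * w) * (e * f)) * ((v * w) * (f * e))⁻¹ := by rw [e4, e5]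
    _ = (v * w) * (e * f * e⁻¹ * f⁻¹) * (v * w)⁻¹ := by group
    _ = e * f * e⁻¹ * f⁻¹ := by
        have h1 : Commute (v * w) (e * f * e⁻¹ * f⁻¹) := by
          refine Commute.mul_left ?_ ?_
          · exact ((cve.mul_right cvf).mul_right cve.inv_right).mul_right cvf.inv_right
          · exact ((cwe.mul_right cwf).mul_right cwe.inv_right).mul_right cwf.inv_right
        rw [h1.eq]; group

theorem WW_le_VV : WW (P : Subgroup G) E ≤ VV (P : Subgroup G) E := by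
  unfold WW
  rw [commutator_le]
  intro b hb v hv
  exact mul_mem (h.VV_conj (h.XX_le_N (h.BB_le_XX hb)) hv) (inv_mem hv)

theorem WW_conj {n x : G} (hn : n ∈ normalizer (E : Set G)) (hx : x ∈ WW (P : Subgroup G) E) :
    n * x * n⁻¹ ∈ WW (P : Subgroup G) E := by
  have h1 : (WW (P : Subgroup G) E).map (MulAut.conj n).toMonoidHom ≤ WW (P : Subgroup G) E := by
    unfold WW
    rw [map_commutator]
    refine commutator_mono ?_ ?_
    · rintro _ ⟨b, hb, rfl⟩; exact BB_conj hn hb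
    · rintro _ ⟨v, hv, rfl⟩; exact h.VV_conj hn hv
  exact h1 ⟨x, hx, rfl⟩

/-- `[E, B] ≤ W` -/
theorem comm_BB_mem {b e : G} (hb : b ∈ BB (P : Subgroup G) E) (he : e ∈ E) :
    b * e * b⁻¹ * e⁻¹ ∈ WW (P : Subgroup G) E := by
  have h1 : BB (P : Subgroup G) E ≤ actTriv (normalizer (E : Set G)) E
      (WW (P : Subgroup G) E)
      (fun n hn e he => h.E_conj hn he) (fun n hn v hv => h.WW_conj hn hv) := by
    refine (closure_le _).2 ?_
    rintro y ⟨hy, hodd⟩
    refine ⟨h.XX_le_N hy, fun e he => ?_⟩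
    set u := y * e * y⁻¹ * e⁻¹ with hu
    have huV : u ∈ VV (P : Subgroup G) E := h.comm_odd_mem hy hodd he
    have h1 : y * e * y⁻¹ = u * e := by rw [hu]; group
    obtain ⟨m, hm, hme⟩ := pow_mod (M := WW (P : Subgroup G) E) (fun m hm => h.WW_conj (h.XX_le_N hy) hm)
      (fun m hm => h.VV_comm_E huV (h.VV_le_E (h.WW_le_VV hm))) h1
      (commutator_mem_commutator (mem_oddGen hy hodd) huV) (orderOf y)
    rw [pow_orderOf_eq_one] at hme
    have h2 : m * u ^ orderOf y = 1 := by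
      have : e = m * u ^ orderOf y * e := by simpa using hme
      exact mul_eq_right.1 this.symm
    have h3 : u ^ orderOf y = u := by
      obtain ⟨k, hk⟩ := hodd
      rw [hk, pow_succ, pow_mul, pow_two, h.VV_sq huV, one_pow, one_mul]
    rw [h3] at h2
    have h4 : u = m⁻¹ := (inv_eq_of_mul_eq_one_right h2).symm
    rw [h4]; exact inv_mem hm
  exact (h1 hb).2 e he

theorem mem_CE {e : G} : e ∈ CE (P : Subgroup G) E ↔ e ∈ E ∧ ∀ y ∈ XX (P : Subgroup G) E,
    Odd (orderOf y) → y * e * y⁻¹ = e := by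
  unfold CE
  rw [mem_inf, mem_centralizer_iff]
  refine and_congr_right fun _ => ?_
  constructor
  · intro h1 y hy hodd
    rw [h1 y (mem_oddGen hy hodd)]; group
  · intro h1 b hb
    have h2 : BB (P : Subgroup G) E ≤ centralizer ({e} : Set G) := by
      refine (closure_le _).2 ?_
      rintro y ⟨hy, hodd⟩
      rw [SetLike.mem_coe, mem_centralizer_singleton_iff]
      have := h1 y hy hodd
      calc y * e = (y * e * y⁻¹) * y := by group
        _ = e * y := by rw [this]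
    exact mem_centralizer_singleton_iff.1 (h2 hb)

theorem CE_conj {n x : G} (hn : n ∈ normalizer (E : Set G)) (hx : x ∈ CE (P : Subgroup G) E) :
    n * x * n⁻¹ ∈ CE (P : Subgroup G) E := by
  refine mem_inf.2 ⟨h.E_conj hn hx.1, ?_⟩
  rw [mem_centralizer_iff]
  intro b hb
  have h1 : n⁻¹ * b * n ∈ BB (P : Subgroup G) E := by simpa using BB_conj (inv_mem hn) hb
  have h2 := mem_centralizer_iff.1 hx.2 _ h1
  calc b * (n * x * n⁻¹) = n * ((n⁻¹ * b * n) * x) * n⁻¹ := by group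
    _ = n * x * n⁻¹ * b := by rw [h2]; group

/-- `[P^n, C_X(V)] ≤ E C_X(E)` -/
theorem K_comm {n a k : G} (hn : n ∈ normalizer (E : Set G)) (ha : a ∈ (P : Subgroup G))
    (hk : k ∈ KK (P : Subgroup G) E) :
    ∃ e ∈ E, ∃ c ∈ XX (P : Subgroup G) E ⊓ centralizer (E : Set G),
      k⁻¹ * (n * a * n⁻¹) * k = (n * a * n⁻¹) * e * c := by
  obtain ⟨R, hR1, hR2, hR3, hR4⟩ := h.exists_R
  have key : ∀ a ∈ (P : Subgroup G), ∀ k ∈ KK (P : Subgroup G) E, ∃ e ∈ E,
      ∃ c ∈ XX (P : Subgroup G) E ⊓ centralizer (E : Set G), k⁻¹ * a * k = a * e * c := by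
    intro a ha k hk
    obtain ⟨r, hr, c, hc, rfl⟩ := exists_mul_of_mem_sup (P := R)
      (K := XX (P : Subgroup G) E ⊓ centralizer (E : Set G))
      (fun r hr c hc => h.XC_conj (h.XX_le_N (hR2 hr).1) hc) (by rw [sup_comm]; exact hR4 hk)
    have h1 : r⁻¹ * a * r ∈ (P : Subgroup G) := by
      have := (mem_normalizer_iff.1 (inv_mem (hR3 hr)) a).1 ha
      simpa using this
    have he : a⁻¹ * (r⁻¹ * a * r) ∈ E := by
      refine h.inf_centralizer_le_E (mul_mem (inv_mem ha) h1) ?_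
      have h2 : a⁻¹ * r⁻¹ * a ∈ KK (P : Subgroup G) E := by
        simpa using h.KK_conj (h.P_le_N (inv_mem ha)) (inv_mem (hR2 hr))
      have h3 := (mul_mem h2 (hR2 hr)).2
      have e1 : a⁻¹ * r⁻¹ * a * r = a⁻¹ * (r⁻¹ * a * r) := by group
      rw [← e1]
      exact h3
    refine ⟨a⁻¹ * (r⁻¹ * a * r), he, (a * (a⁻¹ * (r⁻¹ * a * r)))⁻¹ * c⁻¹ *
      (a * (a⁻¹ * (r⁻¹ * a * r))) * c, mul_mem ?_ hc, by group⟩
    have h4 : (a * (a⁻¹ * (r⁻¹ * a * r)))⁻¹ ∈ normalizer (E : Set G) :=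
      inv_mem (h.P_le_N (mul_mem ha (h.E_le he)))
    have h5 := h.XC_conj h4 (inv_mem hc)
    rwa [inv_inv] at h5
  have hk' : n⁻¹ * k * n ∈ KK (P : Subgroup G) E := by simpa using h.KK_conj (inv_mem hn) hk
  obtain ⟨e, he, c, hc, hec⟩ := key a ha _ hk'
  refine ⟨n * e * n⁻¹, h.E_conj hn he, n * c * n⁻¹, h.XC_conj hn hc, ?_⟩
  calc k⁻¹ * (n * a * n⁻¹) * k = n * ((n⁻¹ * k * n)⁻¹ * a * (n⁻¹ * k * n)) * n⁻¹ := by group
    _ = _ := by rw [hec]; group

theorem comm_mem_CE {e f : G} (he : e ∈ E) (hf : f ∈ E) : e * f * e⁻¹ * f⁻¹ ∈ CE (P : Subgroup G) E :=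
  h.mem_CE.2 ⟨mul_mem (mul_mem (mul_mem he hf) (inv_mem he)) (inv_mem hf),
    fun _ hy hodd => h.comm_fixed hy hodd he hf⟩

/-- If `X = ⟨S⟩ C_X(V)` and `S` centralises `f` modulo `C_E(B)`, then `f ∈ C_E(B)`. -/
theorem mem_CE_of_triv {S : Set G}
    (hS : ∀ s ∈ S, ∃ n ∈ normalizer (E : Set G), ∃ a ∈ (P : Subgroup G), s = n * a * n⁻¹)
    (hgen : ∀ b ∈ XX (P : Subgroup G) E, ∃ y ∈ closure S, y⁻¹ * b ∈ KK (P : Subgroup G) E)
    {f : G} (hf : f ∈ E) (hfS : ∀ s ∈ S, s * f * s⁻¹ * f⁻¹ ∈ CE (P : Subgroup G) E) :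
    f ∈ CE (P : Subgroup G) E := by
  have hSX : ∀ s ∈ S, s ∈ XX (P : Subgroup G) E := by
    intro s hs
    obtain ⟨n, hn, a, ha, rfl⟩ := hS s hs
    exact XX_conj hn (h.P_le_XX ha)
  have hSN : ∀ s ∈ S, s ∈ normalizer (E : Set G) := fun s hs => h.XX_le_N (hSX s hs)
  have hEN : E ≤ normalizer (E : Set G) := le_normalizer
  let M : Subgroup G :=
    { carrier := {e | e ∈ E ∧ ∀ s ∈ S, s * e * s⁻¹ * e⁻¹ ∈ CE (P : Subgroup G) E}
      one_mem' := ⟨one_mem _, fun s _ => by simp⟩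
      mul_mem' := by
        rintro a b ⟨ha, ha'⟩ ⟨hb, hb'⟩
        refine ⟨mul_mem ha hb, fun s hs => ?_⟩
        have h1 := mul_mem (ha' s hs) (h.CE_conj (hEN ha) (hb' s hs))
        have e1 : s * a * s⁻¹ * a⁻¹ * (a * (s * b * s⁻¹ * b⁻¹) * a⁻¹) =
          s * (a * b) * s⁻¹ * (a * b)⁻¹ := by group
        rwa [e1] at h1
      inv_mem' := by
        rintro a ⟨ha, ha'⟩
        refine ⟨inv_mem ha, fun s hs => ?_⟩
        have h1 := h.CE_conj (hEN (inv_mem ha)) (inv_mem (ha' s hs))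
        have e1 : a⁻¹ * (s * a * s⁻¹ * a⁻¹)⁻¹ * a⁻¹⁻¹ = s * a⁻¹ * s⁻¹ * a⁻¹⁻¹ := by group
        rwa [e1] at h1 }
  have hCM : CE (P : Subgroup G) E ≤ M := fun c hc =>
    ⟨hc.1, fun s hs => mul_mem (h.CE_conj (hSN s hs) hc) (inv_mem hc)⟩
  have hMS : ∀ s ∈ S, ∀ m ∈ M, s * m * s⁻¹ ∈ M := by
    intro s hs m hm
    have h1 := mul_mem (hCM (hm.2 s hs)) hm
    have e1 : s * m * s⁻¹ * m⁻¹ * m = s * m * s⁻¹ := by group
    rwa [e1] at h1
  have hMK : ∀ k ∈ KK (P : Subgroup G) E, ∀ m ∈ M, k * m * k⁻¹ ∈ M := by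
    intro k hk m hm
    have hkN : k ∈ normalizer (E : Set G) := h.XX_le_N hk.1
    refine ⟨h.E_conj hkN hm.1, fun s hs => ?_⟩
    obtain ⟨n, hn, a, ha, rfl⟩ := hS s hs
    obtain ⟨e, he, c, hc, hec⟩ := h.K_comm hn ha hk
    set s := n * a * n⁻¹ with hsdef
    have hcm : c * m * c⁻¹ = m := by
      have := mem_centralizer_iff.1 hc.2 m hm.1
      rw [← this]; group
    -- `s (k m k⁻¹) s⁻¹ = k (s e c) m (s e c)⁻¹ k⁻¹`
    have h1 : s * (k * m * k⁻¹) * s⁻¹ = k * ((s * (e * m * e⁻¹ * m⁻¹) * s⁻¹) * (s * m * s⁻¹ * m⁻¹)) * k⁻¹ *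
        (k * m * k⁻¹) := by
      calc s * (k * m * k⁻¹) * s⁻¹ = k * ((k⁻¹ * s * k) * m * (k⁻¹ * s * k)⁻¹) * k⁻¹ := by group
        _ = k * (s * (e * (c * m * c⁻¹) * e⁻¹) * s⁻¹) * k⁻¹ := by rw [hec]; group
        _ = _ := by rw [hcm]; group
    have h2 : s * (k * m * k⁻¹) * s⁻¹ * (k * m * k⁻¹)⁻¹ =
        k * ((s * (e * m * e⁻¹ * m⁻¹) * s⁻¹) * (s * m * s⁻¹ * m⁻¹)) * k⁻¹ := by
      rw [h1]; group
    rw [h2]
    exact h.CE_conj hkN (mul_mem (h.CE_conj (hSN s hs) (h.comm_mem_CE he hm.1)) (hm.2 s hs))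
  -- everything normalises `M`
  set N' : Subgroup G := XX (P : Subgroup G) E ⊓ normalizer (M : Set G) with hN'
  have hSN' : closure S ≤ N' := by
    rw [closure_le]
    exact fun s hs => mem_inf.2 ⟨hSX s hs, mem_normalizer_of_conj (hMS s hs)⟩
  have hKN' : KK (P : Subgroup G) E ≤ N' := fun k hk =>
    mem_inf.2 ⟨hk.1, mem_normalizer_of_conj (hMK k hk)⟩
  let T₀ : Subgroup G := actTriv N' M (CE (P : Subgroup G) E)
    (fun n hn m hm => (mem_normalizer_iff.1 hn.2 m).1 hm) (fun n hn m hm => h.CE_conj (h.XX_le_N hn.1) hm)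
  have hST : closure S ≤ T₀ := by
    rw [closure_le]
    exact fun s hs => ⟨hSN' (subset_closure hs), fun m hm => hm.2 s hs⟩
  have hCT : XX (P : Subgroup G) E ⊓ centralizer (E : Set G) ≤ T₀ := by
    intro c hc
    refine ⟨hKN' (mem_inf.2 ⟨hc.1, centralizer_le (by exact_mod_cast h.VV_le_E) hc.2⟩), fun m hm => ?_⟩
    have := mem_centralizer_iff.1 hc.2 m hm.1
    have e1 : c * m * c⁻¹ * m⁻¹ = 1 := by rw [← this]; group
    rw [e1]; exact one_mem _
  refine h.mem_CE.2 ⟨hf, fun b hb hodd => ?_⟩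
  obtain ⟨R, hR1, hR2, hR3, hR4⟩ := h.exists_R
  obtain ⟨y, hy, hyb⟩ := hgen b hb
  obtain ⟨r, hr, c, hc, hrc⟩ := exists_mul_of_mem_sup (P := R)
      (K := XX (P : Subgroup G) E ⊓ centralizer (E : Set G))
      (fun r hr c hc => h.XC_conj (h.XX_le_N (hR2 hr).1) hc) (by rw [sup_comm]; exact hR4 hyb)
  have ht : y * (r * c * r⁻¹) ∈ T₀ := mul_mem (hST hy) (hCT (h.XC_conj (h.XX_le_N (hR2 hr).1) hc))
  set t := y * (r * c * r⁻¹) with htdef
  have hbt : b = t * r := by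
    have e1 : b = y * (y⁻¹ * b) := by group
    rw [e1, hrc, htdef]; group
  have hrN' : r ∈ N' := hKN' (hR2 hr)
  have hpow : ∀ j : ℕ, ∃ u ∈ T₀, b ^ j = u * r ^ j := by
    intro j
    induction j with
    | zero => exact ⟨1, one_mem _, by simp⟩
    | succ j ih =>
      obtain ⟨u, hu, huj⟩ := ih
      refine ⟨u * (r ^ j * t * (r ^ j)⁻¹), mul_mem hu (conj_mem_actTriv _ _ (pow_mem hrN' j) ht), ?_⟩
      rw [pow_succ, huj, pow_succ]
      nth_rewrite 1 [hbt]
      group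
  obtain ⟨s, hs⟩ := hR1 ⟨r, hr⟩
  have hs' : r ^ 2 ^ s = 1 := by simpa using congrArg Subtype.val hs
  obtain ⟨u, hu, hub⟩ := hpow (2 ^ s)
  rw [hs', mul_one] at hub
  have hbT : b ∈ T₀ := by
    obtain ⟨m, hm⟩ := exists_pow_eq_self_of_coprime (n := 2 ^ s) (x := b)
      (Nat.Coprime.pow_left s (Nat.coprime_two_left.2 hodd))
    rw [← hm, hub]
    exact pow_mem hu m
  have h1 : b * f * b⁻¹ * f⁻¹ ∈ CE (P : Subgroup G) E := hbT.2 f ⟨hf, hfS⟩
  have h2 : b * f * b⁻¹ = (b * f * b⁻¹ * f⁻¹) * f := by group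
  have h3 := eq_of_odd_of_fixed h.isPGroup_E h1.1 hodd h2 ((h.mem_CE.1 h1).2 b hb hodd)
  rw [h2, h3, one_mul]

end Setup

namespace Good

variable [h𝒜 : Fact (IsClosedFam 𝒜)] [Finite G] {P : Syl 𝒜} {E : Subgroup G} (h : Good P E)
include h

/-- `C_V(B) = U` -/
theorem CE_inf_le : CE (P : Subgroup G) E ⊓ VV (P : Subgroup G) E ≤ UE (P : Subgroup G) E := by
  by_contra hne
  obtain ⟨y, hy, hodd, v, hv, hyv⟩ := h.exists_odd
  obtain ⟨m, hm, u, hu, rfl⟩ := h.exists_mul_UE (M := CE (P : Subgroup G) E ⊓ VV (P : Subgroup G) E)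
    inf_le_right (fun x hx m hm => mem_inf.2 ⟨h.CE_conj (h.XX_le_N hx) hm.1,
      h.VV_conj (h.XX_le_N hx) hm.2⟩) hne hv
  apply hyv
  have h1 := (h.mem_CE.1 hm.1).2 y hy hodd
  have h2 := (h.mem_UE.1 hu).2 y hy
  calc y * (m * u) * y⁻¹ = (y * m * y⁻¹) * (y * u * y⁻¹) := by group
    _ = m * u := by rw [h1, h2]

theorem UE_le_CE : UE (P : Subgroup G) E ≤ CE (P : Subgroup G) E := fun _ hu =>
  h.mem_CE.2 ⟨h.VV_le_E (h.UE_le_VV hu), fun y hy _ => (h.mem_UE.1 hu).2 y hy⟩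

theorem UE_conj {n x : G} (hn : n ∈ normalizer (E : Set G)) (hx : x ∈ UE (P : Subgroup G) E) :
    n * x * n⁻¹ ∈ UE (P : Subgroup G) E :=
  h.CE_inf_le (mem_inf.2 ⟨h.CE_conj hn (h.UE_le_CE hx), h.VV_conj hn (h.UE_le_VV hx)⟩)

end Good

/-! ### Edges -/

/-- adjacency with all its first consequences -/
structure Edge [Fact (IsClosedFam 𝒜)] [Finite G] (P : Syl 𝒜) (E F : Subgroup G) : Prop where
  gi : Good P E
  gj : Good P F
  nij : ¬ VV (P : Subgroup G) E ≤ F
  nji : ¬ VV (P : Subgroup G) F ≤ E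
  supi : (P : Subgroup G) ≤ VV (P : Subgroup G) F ⊔ E
  supj : (P : Subgroup G) ≤ VV (P : Subgroup G) E ⊔ F
  rel : F.relIndex (VV (P : Subgroup G) E) = E.relIndex (P : Subgroup G)
  rel' : E.relIndex (VV (P : Subgroup G) F) = F.relIndex (P : Subgroup G)
  q_eq : E.relIndex (P : Subgroup G) = F.relIndex (P : Subgroup G)

section

variable [h𝒜 : Fact (IsClosedFam 𝒜)] [Finite G] {P : Syl 𝒜} {E F : Subgroup G}

theorem VV_le_iff (hi : Setup P E) (hj : Setup P F) : VV (P : Subgroup G) E ≤ F ↔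
    ∀ v ∈ VV (P : Subgroup G) E, ∀ w ∈ VV (P : Subgroup G) F, v * w = w * v := by
  constructor
  · intro h1 v hv w hw
    exact (hj.VV_comm_E hw (h1 hv)).symm
  · intro h1 v hv
    refine hj.inf_centralizer_le_E (hi.E_le (hi.VV_le_E hv)) ?_
    rw [mem_centralizer_iff]
    intro w hw
    exact (h1 v hv w hw).symm

theorem VV_le_symm (hi : Setup P E) (hj : Setup P F) (h : VV (P : Subgroup G) E ≤ F) :
    VV (P : Subgroup G) F ≤ E := by
  rw [VV_le_iff hi hj] at h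
  rw [VV_le_iff hj hi]
  exact fun w hw v hv => (h v hv w hw).symm

theorem centralizer_relIndex (hi : Setup P E) (hj : Setup P F) :
    (centralizer (VV (P : Subgroup G) F : Set G)).relIndex (VV (P : Subgroup G) E) =
      F.relIndex (VV (P : Subgroup G) E) := by
  rw [← inf_relIndex_right, ← inf_relIndex_right (H := F)]
  congr 1
  ext v
  rw [mem_inf, mem_inf]
  refine and_congr_left fun hv => ?_
  constructor
  · intro h1; exact hj.inf_centralizer_le_E (hi.E_le (hi.VV_le_E hv)) h1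
  · intro h1
    rw [mem_centralizer_iff]
    intro w hw
    exact hj.VV_comm_E hw h1

theorem edge_aux (hi : Setup P E) (hj : Setup P F) (h : ¬ VV (P : Subgroup G) E ≤ F)
    (hle : F.relIndex (VV (P : Subgroup G) E) ≤ E.relIndex (VV (P : Subgroup G) F)) : Edge P E F := by
  have hji : ¬ VV (P : Subgroup G) F ≤ E := fun h1 => h (VV_le_symm hj hi h1)
  have hVi : VV (P : Subgroup G) E ≤ (P : Subgroup G) := hi.VV_le_E.trans hi.E_le
  have hVj : VV (P : Subgroup G) F ≤ (P : Subgroup G) := hj.VV_le_E.trans hj.E_le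
  obtain ⟨a1, a2, a3, a4⟩ := hi.offender hVj hji (by rw [centralizer_relIndex hi hj]; exact hle)
  rw [centralizer_relIndex hi hj] at a3
  obtain ⟨b1, b2, b3, b4⟩ := hj.offender hVi h (by rw [centralizer_relIndex hj hi, a3])
  exact ⟨⟨hi, a1⟩, ⟨hj, b1⟩, h, hji, a2, b2, by rw [a3, a4], by rw [← a3, b4], by rw [← a4, ← a3, b4]⟩

theorem Edge.symm (e : Edge P E F) : Edge P F E where
  gi := e.gj
  gj := e.gi
  nij := e.nji
  nji := e.nij
  supi := e.supj
  supj := e.supi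
  q_eq := e.q_eq.symm
  rel := e.rel'
  rel' := e.rel

theorem edge_of_not_le (hi : Setup P E) (hj : Setup P F) (h : ¬ VV (P : Subgroup G) E ≤ F) :
    Edge P E F := by
  rcases le_total (F.relIndex (VV (P : Subgroup G) E)) (E.relIndex (VV (P : Subgroup G) F)) with h1 | h1
  · exact edge_aux hi hj h h1
  · exact (edge_aux hj hi (fun h2 => h (VV_le_symm hj hi h2)) h1).symm

end

namespace Edge

variable [h𝒜 : Fact (IsClosedFam 𝒜)] [Finite G] {P : Syl 𝒜} {E F : Subgroup G} (e : Edge P E F)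
include e

theorem Vi_le_P : VV (P : Subgroup G) E ≤ (P : Subgroup G) := e.gi.VV_le_E.trans e.gi.E_le

theorem mem_Om {v : G} (hv : v ∈ VV (P : Subgroup G) E) (hvF : v ∈ F) : v ∈ Om (P : Subgroup G) := by
  obtain ⟨t, ht, htE⟩ := SetLike.not_le_iff_exists.1 e.nji
  refine e.gi.mem_Om_of_fixed (e.symm.Vi_le_P ht) htE hv ?_
  have h1 := e.gj.VV_comm_E ht hvF
  rw [h1]; group

theorem Om_le : Om (P : Subgroup G) ≤ E ⊓ F := by
  intro z hz
  exact ⟨e.gi.VV_le_E (e.gi.Om_le_VV hz), e.gj.VV_le_E (e.gj.Om_le_VV hz)⟩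

theorem exists_mul_E {x : G} (hx : x ∈ E) : ∃ a ∈ E ⊓ F, ∃ v ∈ VV (P : Subgroup G) E, x = a * v := by
  obtain ⟨a, ha, v, hv, rfl⟩ := exists_mul_of_mem_sup (P := F) (K := VV (P : Subgroup G) E)
    (fun p hp k hk => e.gi.VV_conj (e.gi.P_le_N (e.gj.E_le hp)) hk) (e.supj (e.gi.E_le hx))
  refine ⟨a, ⟨?_, ha⟩, v, hv, rfl⟩
  have := mul_mem hx (inv_mem (e.gi.VV_le_E hv))
  simpa using this

theorem exists_mul_P {x : G} (hx : x ∈ (P : Subgroup G)) : ∃ a ∈ E ⊓ F,
    ∃ v ∈ VV (P : Subgroup G) E, ∃ w ∈ VV (P : Subgroup G) F, x = a * v * w := by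
  obtain ⟨b, hb, w, hw, rfl⟩ := exists_mul_of_mem_sup (P := E) (K := VV (P : Subgroup G) F)
    (fun p hp k hk => e.gj.VV_conj (e.gj.P_le_N (e.gi.E_le hp)) hk) (e.supi hx)
  obtain ⟨a, ha, v, hv, rfl⟩ := e.exists_mul_E hb
  exact ⟨a, ha, v, hv, w, hw, rfl⟩

/-- `E = C_E(B) V` and `C_E(B) ≤ F`. -/
theorem CE_main : (∀ x ∈ E, ∃ c ∈ CE (P : Subgroup G) E, ∃ v ∈ VV (P : Subgroup G) E, x = c * v) ∧
    CE (P : Subgroup G) E ≤ F := by
  set q := E.relIndex (P : Subgroup G) with hq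
  have hq2 : 2 ≤ q := e.gi.two_le
  -- the second Sylow subgroup of `L`
  obtain ⟨T', hne⟩ := e.gi.nd.exists_ne' e.gi.Tb
  obtain ⟨g, hg⟩ := exists_smul_eq e.gi.Tb T'
  obtain ⟨n, rfl⟩ := e.gi.rr_surjective g
  subst hg
  set D : Subgroup G := E ⊓ F with hD
  set Dn : Subgroup G := D.map (MulAut.conj (n : G)).toMonoidHom with hDn
  set FF : Subgroup G := D ⊓ Dn with hFF
  have hnN : (n : G) ∈ normalizer (E : Set G) := n.2
  have hDnE : Dn ≤ E := by
    rintro _ ⟨x, hx, rfl⟩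
    exact e.gi.E_conj hnN hx.1
  have hVE := e.gi.VV_le_E
  -- indices
  have hFE : F.relIndex E = q := by
    apply le_antisymm
    · calc F.relIndex E ≤ F.relIndex (P : Subgroup G) :=
            relIndex_le_of_le_right e.gi.E_le index_ne_zero_of_finite
        _ = q := e.q_eq.symm
    · rw [hq, ← e.rel]
      exact relIndex_le_of_le_right hVE index_ne_zero_of_finite
  have hDE : D.relIndex E = q := by rw [hD, inf_comm, inf_relIndex_right, hFE]
  have hDnE' : Dn.relIndex E = q := by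
    have h1 := relIndex_mul_relIndex (⊥ : Subgroup G) D E bot_le inf_le_left
    have h2 := relIndex_mul_relIndex (⊥ : Subgroup G) Dn E bot_le hDnE
    rw [relIndex_bot_left, relIndex_bot_left] at h1 h2
    have h3 : Nat.card Dn = Nat.card D :=
      Nat.card_congr (D.equivMapOfInjective _ (MulAut.conj (n : G)).injective).toEquiv.symm
    rw [h3, ← h1, hDE] at h2
    exact Nat.eq_of_mul_eq_mul_left Nat.card_pos h2
  have hFFE : FF.relIndex E ≤ q * q := by
    have := relIndex_inf_le (H := D) (K := Dn) (L := E)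
    rwa [hDE, hDnE'] at this
  -- intersection with `V`
  have hFV : FF ⊓ VV (P : Subgroup G) E = UE (P : Subgroup G) E := by
    apply le_antisymm
    · rintro v ⟨⟨hv1, hv2⟩, hv⟩
      have hvO : v ∈ Om (P : Subgroup G) := e.mem_Om hv hv1.2
      obtain ⟨w, hw, hwv⟩ := hv2
      have hwv' : w = (n : G)⁻¹ * v * n := by
        rw [← hwv]; simp [mul_assoc]
      have hwO : w ∈ Om (P : Subgroup G) := by
        refine e.mem_Om ?_ hw.2
        rw [hwv']
        simpa using e.gi.VV_conj (inv_mem hnN) hv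
      have h1 : (⟨v, hv⟩ : ↥(VV (P : Subgroup G) E)) ∈ UU (DD e.gi.toSetup) ↥(VV (P : Subgroup G) E) := by
        rw [e.gi.nd.UU_eq hne]
        refine mem_inf.2 ⟨?_, ?_⟩
        · rw [← e.gi.img_P, e.gi.mem_cv_img e.gi.P_le_N]
          intro a ha
          change a * v * a⁻¹ = v
          rw [(Cfsg.Agent.ClassTwoFusion.Local.mem_Om.1 hvO).2.1 a ha]; group
        · rw [mem_cv_smul_syl, ← e.gi.img_P, e.gi.mem_cv_img e.gi.P_le_N]
          intro a ha
          have h2 : (((rr e.gi.toSetup n)⁻¹ • (⟨v, hv⟩ : ↥(VV (P : Subgroup G) E)) :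
              ↥(VV (P : Subgroup G) E)) : G) = w := by
            rw [hwv', ← map_inv]
            change (n : G)⁻¹ * v * ((n : G)⁻¹)⁻¹ = _
            group
          rw [h2, (Cfsg.Agent.ClassTwoFusion.Local.mem_Om.1 hwO).2.1 a ha]; group
      exact e.gi.mem_UU_iff.1 h1
    · intro u hu
      have huD : ∀ u ∈ UE (P : Subgroup G) E, u ∈ D := fun u hu => e.Om_le (e.gi.UE_le_Om hu)
      refine ⟨⟨huD u hu, (n : G)⁻¹ * u * n, ?_, by simp [mul_assoc]⟩, e.gi.UE_le_VV hu⟩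
      have := e.gi.UE_conj (inv_mem hnN) hu
      rw [inv_inv] at this
      exact huD _ this
  have hFVi : FF.relIndex (VV (P : Subgroup G) E) = q * q := by
    rw [← inf_relIndex_right, hFV, e.gi.relIndex_UE]
  -- `E ≤ V ⊔ FF`
  have hsup : VV (P : Subgroup G) E ⊔ FF ≤ E := sup_le hVE (inf_le_left.trans inf_le_left)
  have h1 := relIndex_mul_relIndex FF (VV (P : Subgroup G) E ⊔ FF) E le_sup_right hsup
  have h2 : q * q ≤ FF.relIndex (VV (P : Subgroup G) E ⊔ FF) := by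
    rw [← hFVi]
    exact relIndex_le_of_le_right le_sup_left index_ne_zero_of_finite
  have h3 : (VV (P : Subgroup G) E ⊔ FF).relIndex E ≠ 0 := index_ne_zero_of_finite
  have h4 : (VV (P : Subgroup G) E ⊔ FF).relIndex E = 1 := by
    by_contra hcon
    have h5 : 2 ≤ (VV (P : Subgroup G) E ⊔ FF).relIndex E := by omega
    have h6 : q * q * 2 ≤ FF.relIndex E := by rw [← h1]; exact Nat.mul_le_mul h2 h5
    nlinarith
  have h5 : FF.relIndex E = q * q := by
    apply le_antisymm hFFE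
    rw [← h1, h4, mul_one]; exact h2
  have hEsup : E ≤ VV (P : Subgroup G) E ⊔ FF := relIndex_eq_one.1 h4
  -- `FF ≤ C_E(B)`
  have hFC : FF ≤ CE (P : Subgroup G) E := by
    intro f hf
    -- `Y = ⟨V_j, V_j^n⟩`
    set Y : Subgroup G := VV (P : Subgroup G) F ⊔
      (VV (P : Subgroup G) F).map (MulAut.conj (n : G)).toMonoidHom with hY
    have hYX : Y ≤ XX (P : Subgroup G) E := by
      refine sup_le (e.symm.Vi_le_P.trans e.gi.P_le_XX) ?_
      rintro _ ⟨v, hv, rfl⟩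
      exact Setup.XX_conj hnN (e.gi.P_le_XX (e.symm.Vi_le_P hv))
    have hYN : Y ≤ normalizer (E : Set G) := hYX.trans e.gi.XX_le_N
    have hYO : OX (DD e.gi.toSetup) ≤ e.gi.img Y := by
      have hT : (e.gi.Tb : Subgroup (LL e.gi.toSetup)) ≤
          e.gi.img (VV (P : Subgroup G) F) := by
        intro x hx
        obtain ⟨t, ht, rfl⟩ := e.gi.mem_Tb.1 hx
        obtain ⟨a, ha, v, hv, hav⟩ := exists_mul_of_mem_sup (P := E) (K := VV (P : Subgroup G) F)
          (fun p hp k hk => e.gj.VV_conj (e.gj.P_le_N (e.gi.E_le hp)) hk) (e.supi ht)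
        rw [e.gi.mem_img (e.symm.Vi_le_P.trans e.gi.P_le_N)]
        refine ⟨v, hv, ?_⟩
        rw [eq_comm, Setup.rr_eq_iff]
        change t * v⁻¹ ∈ _
        have : t * v⁻¹ = a := by rw [hav]; group
        rw [this, mem_centralizer_iff]
        intro w hw
        exact e.gi.VV_comm_E hw ha
      rw [e.gi.nd.OX_eq hne]
      refine sup_le (hT.trans (map_mono (comap_mono le_sup_left))) ?_
      intro x hx
      rw [mem_smul_syl] at hx
      obtain ⟨v, hv, hvx⟩ := (e.gi.mem_img (e.symm.Vi_le_P.trans e.gi.P_le_N)).1 (hT hx)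
      rw [e.gi.mem_img hYN]
      refine ⟨n * v * (n : G)⁻¹, mem_sup_right ⟨v, hv, rfl⟩, ?_⟩
      have : rr e.gi.toSetup (n * ⟨v, (e.symm.Vi_le_P.trans e.gi.P_le_N) hv⟩ * n⁻¹) = x := by
        rw [map_mul, map_mul, map_inv, hvx]; group
      exact this
    refine e.gi.mem_CE_of_triv (S := (VV (P : Subgroup G) F : Set G) ∪
      ((VV (P : Subgroup G) F).map (MulAut.conj (n : G)).toMonoidHom : Subgroup G)) ?_ ?_ hf.1.1 ?_
    · rintro s (hs | ⟨v, hv, rfl⟩)
      · exact ⟨1, one_mem _, s, e.symm.Vi_le_P hs, by simp⟩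
      · exact ⟨n, hnN, v, e.symm.Vi_le_P hv, rfl⟩
    · intro b hb
      have hbO : rr e.gi.toSetup ⟨b, e.gi.XX_le_N hb⟩ ∈ e.gi.img Y := by
        apply hYO
        rw [← e.gi.img_XX, e.gi.mem_img e.gi.XX_le_N]
        exact ⟨b, hb, rfl⟩
      obtain ⟨y, hy, hyb⟩ := (e.gi.mem_img hYN).1 hbO
      refine ⟨y, ?_, ?_⟩
      · rw [hY, sup_eq_closure] at hy
        exact hy
      · refine mem_inf.2 ⟨mul_mem (inv_mem (hYX hy)) hb, ?_⟩
        have h6 : rr e.gi.toSetup ((⟨y, hYN hy⟩)⁻¹ * ⟨b, e.gi.XX_le_N hb⟩) = 1 := by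
          rw [map_mul, map_inv, hyb, inv_mul_cancel]
        rw [Setup.rr_eq_one_iff] at h6
        exact h6
    · have h6 : Y ≤ centralizer ({f} : Set G) := by
        refine sup_le ?_ ?_
        · intro v hv
          rw [mem_centralizer_singleton_iff]
          exact e.gj.VV_comm_E hv hf.1.2
        · rintro _ ⟨v, hv, rfl⟩
          obtain ⟨w, hw, hwf⟩ := hf.2
          rw [mem_centralizer_singleton_iff, ← hwf]
          have h7 := e.gj.VV_comm_E hv hw.2
          change n * v * (n : G)⁻¹ * (n * w * (n : G)⁻¹) = n * w * (n : G)⁻¹ * (n * v * (n : G)⁻¹)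
          calc n * v * (n : G)⁻¹ * (n * w * (n : G)⁻¹) = n * (v * w) * (n : G)⁻¹ := by group
            _ = n * w * (n : G)⁻¹ * (n * v * (n : G)⁻¹) := by rw [h7]; group
      intro s hs
      have hsY : s ∈ Y := by
        rcases hs with hs | hs
        · exact mem_sup_left hs
        · exact mem_sup_right hs
      have h8 := mem_centralizer_singleton_iff.1 (h6 hsY)
      have e1 : s * f * s⁻¹ * f⁻¹ = 1 := by rw [h8]; group
      rw [e1]; exact one_mem _
  -- equality by counting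
  have h6 : q * q ≤ (CE (P : Subgroup G) E).relIndex E := by
    calc q * q = (UE (P : Subgroup G) E).relIndex (VV (P : Subgroup G) E) := e.gi.relIndex_UE.symm
      _ ≤ (CE (P : Subgroup G) E ⊓ VV (P : Subgroup G) E).relIndex (VV (P : Subgroup G) E) :=
          relIndex_le_of_le_left e.gi.CE_inf_le index_ne_zero_of_finite
      _ = (CE (P : Subgroup G) E).relIndex (VV (P : Subgroup G) E) := inf_relIndex_right _ _
      _ ≤ _ := relIndex_le_of_le_right hVE index_ne_zero_of_finite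
  have h7 := relIndex_mul_relIndex FF (CE (P : Subgroup G) E) E hFC inf_le_left
  rw [h5] at h7
  have h8 : FF.relIndex (CE (P : Subgroup G) E) = 1 := by
    have h9 : FF.relIndex (CE (P : Subgroup G) E) ≠ 0 := index_ne_zero_of_finite
    by_contra hcon
    have h10 : 2 ≤ FF.relIndex (CE (P : Subgroup G) E) := by omega
    have h11 : 2 * (q * q) ≤ q * q := by rw [← h7]; exact Nat.mul_le_mul h10 (h7 ▸ h6)
    nlinarith
  have h9 : CE (P : Subgroup G) E ≤ FF := relIndex_eq_one.1 h8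
  refine ⟨fun x hx => ?_, fun x hx => (h9 hx).1.2⟩
  obtain ⟨f, hf, v, hv, rfl⟩ := exists_mul_of_mem_sup (P := FF) (K := VV (P : Subgroup G) E)
    (fun p hp k hk => e.gi.VV_conj (e.gi.P_le_N (e.gi.E_le hp.1.1)) hk) (hEsup hx)
  exact ⟨f, hFC hf, v, hv, rfl⟩

/-- `E ∩ F = C_E(B) Ω`. -/
theorem exists_mul_inf {x : G} (hx : x ∈ E) (hxF : x ∈ F) :
    ∃ c ∈ CE (P : Subgroup G) E, ∃ z ∈ Om (P : Subgroup G), x = c * z := by
  obtain ⟨c, hc, v, hv, rfl⟩ := e.CE_main.1 x hx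
  refine ⟨c, hc, v, e.mem_Om hv ?_, rfl⟩
  have := mul_mem (inv_mem (e.CE_main.2 hc)) hxF
  simpa using this

theorem CE_mul_Om_mem {c z : G} (hc : c ∈ CE (P : Subgroup G) E) (hz : z ∈ Om (P : Subgroup G)) :
    c * z ∈ E ⊓ F :=
  mul_mem (mem_inf.2 ⟨hc.1, e.CE_main.2 hc⟩) (e.Om_le hz)

end Edge

/-- neighbours are unique -/
theorem Edge.unique_aux [Fact (IsClosedFam 𝒜)] [Finite G] {P : Syl 𝒜} {E F F' : Subgroup G} (e : Edge P E F)
    (e' : Edge P E F') : VV (P : Subgroup G) F' ≤ F := by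
  -- `E ∩ F' ≤ E ∩ F`
  have hD : ∀ x ∈ E, x ∈ F' → x ∈ F := by
    intro x hx hx'
    obtain ⟨c, hc, z, hz, rfl⟩ := e'.exists_mul_inf hx hx'
    exact (e.CE_mul_Om_mem hc hz).2
  have key : ∀ w' ∈ VV (P : Subgroup G) F', w' ∈ E ∨ w' ∈ F := by
    intro w' hw'
    obtain ⟨x, hx, v, hv, w, hw, hxvw⟩ := e.exists_mul_P (e'.symm.Vi_le_P hw')
    by_cases hwE : w ∈ E
    · left
      rw [hxvw]
      exact mul_mem (mul_mem hx.1 (e.gi.VV_le_E hv)) hwE
    · right
      obtain ⟨c, hc, z, hz, rfl⟩ := e.exists_mul_inf hx.1 hx.2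
      have hxv : (c * z) * v = v * (c * z) := (e.gi.VV_comm_E hv hx.1).symm
      have hxw : (c * z) * w = w * (c * z) := (e.gj.VV_comm_E hw hx.2).symm
      have hcz : c * z = z * c := (Cfsg.Agent.ClassTwoFusion.Local.mem_Om.1 hz).2.1 c (e.gi.E_le hc.1)
      have hz2 := (Cfsg.Agent.ClassTwoFusion.Local.mem_Om.1 hz).2.2
      have hv2 := e.gi.VV_sq hv
      have hw2 := e.gj.VV_sq hw
      have hvi : v⁻¹ = v := inv_eq_of_mul_eq_one_right hv2
      have hwi : w⁻¹ = w := inv_eq_of_mul_eq_one_right hw2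
      have h1 : (c * z * v * w) * (c * z * v * w) = 1 := by
        rw [← hxvw]; exact e'.gj.VV_sq hw'
      have h2 : (c * z) * (c * z) = c * c := by
        calc (c * z) * (c * z) = c * (z * c) * z := by group
          _ = c * c * (z * z) := by rw [← hcz]; group
          _ = c * c := by rw [hz2, mul_one]
      have h3 : (c * z * v * w) * (c * z * v * w) = (c * c) * (v * w * v * w) := by
        have cx : Commute (c * z) (v * w) :=
          (show Commute (c * z) v from hxv).mul_right (show Commute (c * z) w from hxw)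
        calc (c * z * v * w) * (c * z * v * w) = (c * z) * ((v * w) * (c * z)) * (v * w) := by group
          _ = (c * z) * ((c * z) * (v * w)) * (v * w) := by rw [cx.eq]
          _ = ((c * z) * (c * z)) * (v * w * v * w) := by group
          _ = _ := by rw [h2]
      rw [h3] at h1
      have h4 : w * v * w⁻¹ * v⁻¹ = c * c := by
        have h5 : v * w * v * w = (c * c)⁻¹ := (inv_eq_of_mul_eq_one_right h1).symm
        calc w * v * w⁻¹ * v⁻¹ = (v * w * v⁻¹ * w⁻¹)⁻¹ := by group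
          _ = (v * w * v * w)⁻¹ := by rw [hvi, hwi]
          _ = c * c := by rw [h5, inv_inv]
      have h5 : w * v * w⁻¹ * v⁻¹ ∈ UE (P : Subgroup G) E := by
        refine e.gi.CE_inf_le (mem_inf.2 ⟨?_, ?_⟩)
        · rw [h4]; exact mul_mem hc hc
        · exact mul_mem (e.gi.VV_conj (e.gi.P_le_N (e.symm.Vi_le_P hw)) hv) (inv_mem hv)
      have h6 := e.gi.mem_Om_of_comm_mem_UE (e.symm.Vi_le_P hw) hwE hv h5
      rw [hxvw]
      exact mul_mem (mul_mem hx.2 (e.Om_le h6).2) (e.gj.VV_le_E hw)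
  obtain ⟨a, ha, haE⟩ := SetLike.not_le_iff_exists.1 e'.nji
  intro b hb
  by_contra hbF
  have hbE : b ∈ E := (key b hb).resolve_right hbF
  have haF : a ∈ F := (key a ha).resolve_left haE
  rcases key (a * b) (mul_mem ha hb) with h1 | h1
  · apply haE
    have := mul_mem h1 (inv_mem hbE)
    simpa using this
  · apply hbF
    have := mul_mem (inv_mem haF) h1
    simpa using this

theorem Edge.unique_le [Fact (IsClosedFam 𝒜)] [Finite G] {P : Syl 𝒜} {E F F' : Subgroup G} (e : Edge P E F)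
    (e' : Edge P E F') : F' ≤ F := by
  intro x hx
  obtain ⟨a, ha, v, hv, rfl⟩ := e'.symm.exists_mul_E hx
  refine mul_mem ?_ (e.unique_aux e' hv)
  obtain ⟨c, hc, z, hz, rfl⟩ := e'.exists_mul_inf ha.2 ha.1
  exact (e.CE_mul_Om_mem hc hz).2

/-- **neighbours are unique** -/
theorem Edge.unique [Fact (IsClosedFam 𝒜)] [Finite G] {P : Syl 𝒜} {E F F' : Subgroup G} (e : Edge P E F)
    (e' : Edge P E F') : F' = F := le_antisymm (e.unique_le e') (e'.unique_le e)

end Cfsg.Agent.ClassTwoFusion.RelLocal
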