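import Mathlib
import Cfsg.Prelude.Def_TwoFusion
import Cfsg.Agent.ClassTwoFusion.RelEdge

/-!
# Fusion in a minimal strongly closed subgroup of class two

Decompositions `X = P B`, `N_G(E) = X (N_G(E) ∩ N_G(P))`, the criterion for strong closure, existence of neighbours.
-/

set_option autoImplicit false

namespace Cfsg.Agent.ClassTwoFusion.RelFus

open Subgroup Cfsg.Agent.ClassTwoFusion.Gen Cfsg.Agent.ClassTwoFusion.RelAlperin
open Cfsg.Agent.TwoFusion.ClosedFam Cfsg.Agent.ClassTwoFusion.RelSyl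
open Cfsg.Agent.ClassTwoFusion.Local (ncl le_ncl conj_mem_ncl ncl_le ncl_le_of_le oddGen oddGen_le mem_oddGen
  conj_mem_oddGen actTriv conj_mem_actTriv Cl2 Zc Om mem_Zc mem_Om Om_le_Zc Zc_le VF VV XX BB
  mem_normalizer_of_conj UE pow_mod WW CE)
open Cfsg.Agent.ClassTwoFusion.RelLocal
open Cfsg.Agent.Lib.GoldschmidtFusion (mem_map_conj map_conj_map_conj map_conj_one map_conj_mono card_map_conj
  mem_normalizer_iff_map_conj map_conj_normalizer mem_centralizer_map_conj map_conj_le_of_le_normalizer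
  zpowers_map_conj_le)

variable {G : Type*} [Group G] {𝒜 : Set G}

section Decomp

variable [h𝒜 : Fact (IsClosedFam 𝒜)] [Finite G] {P : Syl 𝒜} {E : Subgroup G}

/-- conjugates of `P` under `N_G(E)` are conjugate to `P` in `X` -/
theorem exists_conj_XX (h : Setup P E) {g : G} (hg : g ∈ normalizer (E : Set G)) :
    ∃ c ∈ XX (P : Subgroup G) E, ∀ v ∈ (P : Subgroup G), (c * g) * v * (c * g)⁻¹ ∈ (P : Subgroup G) := by
  obtain ⟨c, hc, hcP⟩ := exists_conj_le_of_le P (XX (P : Subgroup G) E)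
    ((P : Subgroup G).map (MulAut.conj g).toMonoidHom) h.P_le_XX (ds_map P.ds g) (by
      rintro _ ⟨v, hv, rfl⟩
      exact Setup.XX_conj hg (h.P_le_XX hv))
  refine ⟨c, hc, fun v hv => ?_⟩
  have := hcP (g * v * g⁻¹) ⟨v, hv, rfl⟩
  have e : c * (g * v * g⁻¹) * c⁻¹ = (c * g) * v * (c * g)⁻¹ := by group
  rwa [e] at this

/-- `N_G(E) = X (N_G(E) ∩ N_G(P))` -/
theorem N_decomp (h : Setup P E) {g : G} (hg : g ∈ normalizer (E : Set G)) :
    ∃ x ∈ XX (P : Subgroup G) E, ∃ n ∈ normalizer (E : Set G) ⊓ normalizer ((P : Subgroup G) : Set G),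
      g = x * n := by
  obtain ⟨c, hc, hcP⟩ := exists_conj_XX h hg
  exact ⟨c⁻¹, inv_mem hc, c * g, ⟨mul_mem (h.XX_le_N hc) hg, mem_normalizer_of_conj hcP⟩, by group⟩

/-- `X = P B` -/
theorem XX_le_sup (h : Setup P E) : XX (P : Subgroup G) E ≤ BB (P : Subgroup G) E ⊔ (P : Subgroup G) := by
  haveI : Fact (Nat.Prime 2) := ⟨Nat.prime_two⟩
  obtain ⟨R, hPR, hRX, hR, hRi⟩ := Cfsg.Agent.Lib.GoldschmidtFusion.exists_sylow_in (p := 2)
    (N := XX (P : Subgroup G) E) (D := (P : Subgroup G)) h.P_le_XX P.ds.1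
  have hRP : R ≤ normalizer ((P : Subgroup G) : Set G) := by
    have h1 : fam 𝒜 R = (P : Subgroup G) := by
      refine is_maximal P ⟨isPGroup_fam 𝒜 hR, fun x hx => ((h𝒜.out.mem_fam_iff hR).1 hx).1⟩ ?_
      exact fun x hx => mem_fam (P.mem hx) (hPR hx)
    have h2 := h𝒜.out.le_normalizer_fam R
    rwa [h1] at h2
  have hX : XX (P : Subgroup G) E ≤ R ⊔ BB (P : Subgroup G) E :=
    le_sup_of_pPrime (p := 2) hRX h.BB_le_XX hRi (fun x hx hx' =>
      mem_oddGen hx (Nat.coprime_two_right.1 hx'))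
  refine ncl_le fun n hn a ha => ?_
  obtain ⟨c, hc, hcP⟩ := exists_conj_XX h hn
  have hp := hcP a ha
  obtain ⟨r, hr, b, hb, hrb⟩ := exists_mul_of_mem_sup (P := R) (K := BB (P : Subgroup G) E)
    (fun r hr b hb => Setup.BB_conj (h.XX_le_N (hRX hr)) hb) (by rw [sup_comm]; exact hX hc)
  set p := (c * n) * a * (c * n)⁻¹ with hpdef
  have h1 : n * a * n⁻¹ = b⁻¹ * (r⁻¹ * p * r) * b := by
    rw [hpdef, hrb]; group
  have h2 : r⁻¹ * p * r ∈ (P : Subgroup G) := by
    have := (mem_normalizer_iff.1 (inv_mem (hRP hr)) p).1 hp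
    simpa using this
  rw [h1]
  exact mul_mem (mul_mem (inv_mem (mem_sup_left hb)) (mem_sup_right h2)) (mem_sup_left hb)

theorem XX_decomp (h : Setup P E) {x : G} (hx : x ∈ XX (P : Subgroup G) E) :
    ∃ p ∈ (P : Subgroup G), ∃ b ∈ BB (P : Subgroup G) E, x = p * b :=
  exists_mul_of_mem_sup (P := (P : Subgroup G)) (K := BB (P : Subgroup G) E)
    (fun _ hp _ hb => Setup.BB_conj (h.P_le_N hp) hb) (XX_le_sup h hx)

/-- **Criterion for closure.** -/
theorem closed_of (hcl : Cl2 (P : Subgroup G)) (D : Set G)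
    (hN : ∀ g ∈ normalizer ((P : Subgroup G) : Set G), ∀ x ∈ D, g * x * g⁻¹ ∈ D)
    (hB : ∀ E : Subgroup G, IsEss 𝒜 (P : Subgroup G) E → ∀ b ∈ BB (P : Subgroup G) E, ∀ x ∈ D, x ∈ E →
      b * x * b⁻¹ ∈ D) {x : G} (hx : x ∈ D) (hxP : x ∈ (P : Subgroup G)) {g : G}
    (hg : g * x * g⁻¹ ∈ (P : Subgroup G)) : g * x * g⁻¹ ∈ D := by
  have h1 := gen_of_conj h𝒜.out P.isSyl (fun X => X = (P : Subgroup G) ∨ IsEss 𝒜 (P : Subgroup G) X)
    (Or.inl rfl) (fun X hX => Or.inr hX) (X := zpowers x) (by rw [zpowers_le]; exact hxP)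
    (zpowers_map_conj_le (P := (P : Subgroup G)) hg)
  have key : ∀ X : Subgroup G, (X = (P : Subgroup G) ∨ IsEss 𝒜 (P : Subgroup G) X) →
      ∀ g ∈ normalizer (X : Set G), ∀ a ∈ D, a ∈ X → g * a * g⁻¹ ∈ D := by
    rintro X (rfl | hX) g hg a ha haX
    · exact hN g hg a ha
    · have h : Setup P X := ⟨hcl, hX⟩
      obtain ⟨y, hy, n, hn, rfl⟩ := N_decomp h hg
      obtain ⟨p, hp, b, hb, rfl⟩ := XX_decomp h hy
      have h2 := hN n hn.2 a ha
      have h3 : n * a * n⁻¹ ∈ X := h.E_conj hn.1 haX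
      have h4 := hB X hX b hb _ h2 h3
      have h5 := hN p (le_normalizer hp) _ h4
      have e : p * (b * (n * a * n⁻¹) * b⁻¹) * p⁻¹ = p * b * n * a * (p * b * n)⁻¹ := by group
      rwa [e] at h5
  have h2 := h1.invariant (fun x => x ∈ D) (fun X _ hX g hg x hx => by
    apply propext
    constructor
    · intro h3
      have h4 := key X hX g⁻¹ (inv_mem hg) _ h3 ((mem_normalizer_iff.1 hg x).1 hx)
      have e : g⁻¹ * (g * x * g⁻¹) * g⁻¹⁻¹ = x := by group
      rwa [e] at h4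
    · intro h3
      exact key X hX g hg x h3 hx) x (mem_zpowers x)
  exact h2.symm ▸ hx

end Decomp

/-! ### conjugation by elements of `N_G(P)` -/

section Conj

theorem ncl_map (N A : Subgroup G) (g : G) : (ncl N A).map (MulAut.conj g).toMonoidHom =
    ncl (N.map (MulAut.conj g).toMonoidHom) (A.map (MulAut.conj g).toMonoidHom) := by
  unfold ncl
  rw [MonoidHom.map_closure]
  congr 1
  ext x
  constructor
  · rintro ⟨_, ⟨n, hn, a, ha, rfl⟩, rfl⟩
    exact ⟨_, ⟨n, hn, rfl⟩, _, ⟨a, ha, rfl⟩, by simp [mul_assoc]⟩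
  · rintro ⟨_, ⟨n, hn, rfl⟩, _, ⟨a, ha, rfl⟩, rfl⟩
    exact ⟨_, ⟨n, hn, a, ha, rfl⟩, by simp [mul_assoc]⟩

theorem oddGen_map (X : Subgroup G) (g : G) : (oddGen X).map (MulAut.conj g).toMonoidHom =
    oddGen (X.map (MulAut.conj g).toMonoidHom) := by
  unfold oddGen
  rw [MonoidHom.map_closure]
  congr 1
  ext x
  constructor
  · rintro ⟨y, ⟨hy, hy'⟩, rfl⟩
    refine ⟨⟨y, hy, rfl⟩, ?_⟩
    rw [orderOf_injective _ (MulAut.conj g).injective y]
    exact hy'
  · rintro ⟨⟨y, hy, rfl⟩, hy'⟩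
    refine ⟨y, ⟨hy, ?_⟩, rfl⟩
    rwa [orderOf_injective _ (MulAut.conj g).injective y] at hy'

theorem centralizer_map (A : Subgroup G) (g : G) :
    (centralizer (A : Set G)).map (MulAut.conj g).toMonoidHom =
      centralizer ((A.map (MulAut.conj g).toMonoidHom : Subgroup G) : Set G) := by
  ext x
  rw [mem_map_conj, mem_centralizer_map_conj]

variable {P E : Subgroup G} {g : G}

theorem map_self (hg : g ∈ normalizer (P : Set G)) : P.map (MulAut.conj g).toMonoidHom = P :=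
  mem_normalizer_iff_map_conj.1 hg

theorem Zc_map (hg : g ∈ normalizer (P : Set G)) : (Zc P).map (MulAut.conj g).toMonoidHom = Zc P := by
  unfold Zc
  rw [Subgroup.map_inf _ _ _ (MulAut.conj g).injective, centralizer_map, map_self hg]

theorem VF_map (hg : g ∈ normalizer (P : Set G)) : (VF P E).map (MulAut.conj g).toMonoidHom =
    VF P (E.map (MulAut.conj g).toMonoidHom) := by
  unfold VF
  rw [ncl_map, Zc_map hg, map_conj_normalizer]

theorem VV_map (hg : g ∈ normalizer (P : Set G)) : (VV P E).map (MulAut.conj g).toMonoidHom =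
    VV P (E.map (MulAut.conj g).toMonoidHom) := by
  unfold VV
  rw [MonoidHom.map_closure, ← VF_map hg]
  congr 1
  ext x
  constructor
  · rintro ⟨y, ⟨hy, hy'⟩, rfl⟩
    refine ⟨⟨y, hy, rfl⟩, ?_⟩
    rw [← map_mul, hy', map_one]
  · rintro ⟨⟨y, hy, rfl⟩, hy'⟩
    refine ⟨y, ⟨hy, ?_⟩, rfl⟩
    rw [← map_mul] at hy'
    exact (MulAut.conj g).injective (hy'.trans (map_one _).symm)

theorem XX_map (hg : g ∈ normalizer (P : Set G)) : (XX P E).map (MulAut.conj g).toMonoidHom =
    XX P (E.map (MulAut.conj g).toMonoidHom) := by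
  unfold XX
  rw [ncl_map, map_self hg, map_conj_normalizer]

theorem BB_map (hg : g ∈ normalizer (P : Set G)) : (BB P E).map (MulAut.conj g).toMonoidHom =
    BB P (E.map (MulAut.conj g).toMonoidHom) := by
  unfold BB
  rw [oddGen_map, XX_map hg]

theorem WW_map (hg : g ∈ normalizer (P : Set G)) : (WW P E).map (MulAut.conj g).toMonoidHom =
    WW P (E.map (MulAut.conj g).toMonoidHom) := by
  unfold WW
  rw [map_commutator, BB_map hg, VV_map hg]

theorem star_map_le (hg : g ∈ normalizer (P : Set G)) :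
    (RelAlperin.star P E).map (MulAut.conj g).toMonoidHom ≤
      RelAlperin.star P (E.map (MulAut.conj g).toMonoidHom) := by
  unfold RelAlperin.star
  rw [MonoidHom.map_closure, closure_le]
  rintro _ ⟨y, hy | ⟨hy, Q, hEQ, hQ, hQy⟩, rfl⟩
  · refine subset_closure (Or.inl ?_)
    change (MulAut.conj g) y ∈ centralizer _
    rw [mem_centralizer_map_conj]
    simpa [mul_assoc] using hy
  · refine subset_closure (Or.inr ⟨?_, Q.map (MulAut.conj g).toMonoidHom, ?_, ?_, ?_⟩)
    · rw [← map_conj_normalizer]; exact ⟨y, hy, rfl⟩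
    · exact (Subgroup.map_lt_map_iff_of_injective (MulAut.conj g).injective).2 hEQ
    · have := map_conj_mono hQ g
      rwa [map_self hg] at this
    · have h1 := map_conj_mono hQy g
      rw [map_self hg, map_conj_map_conj] at h1
      rw [map_conj_map_conj]
      have e : (MulAut.conj g).toMonoidHom y * g = g * y := by simp
      rw [e]
      exact h1

theorem star_map (hg : g ∈ normalizer (P : Set G)) :
    (RelAlperin.star P E).map (MulAut.conj g).toMonoidHom =
      RelAlperin.star P (E.map (MulAut.conj g).toMonoidHom) := by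
  apply le_antisymm (star_map_le hg)
  have h1 := star_map_le (P := P) (E := E.map (MulAut.conj g).toMonoidHom) (inv_mem hg)
  rw [map_conj_map_conj, inv_mul_cancel, map_conj_one] at h1
  have h2 := map_conj_mono h1 g
  rwa [map_conj_map_conj, mul_inv_cancel, map_conj_one] at h2

theorem isEss_map {𝒜 : Set G} (h : IsClosedFam 𝒜) (hE : IsEss 𝒜 P E) (hg : g ∈ normalizer (P : Set G)) :
    IsEss 𝒜 P (E.map (MulAut.conj g).toMonoidHom) where
  lt := by
    have := (Subgroup.map_lt_map_iff_of_injective (f := (MulAut.conj g).toMonoidHom)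
      (MulAut.conj g).injective).2 hE.lt
    rwa [map_self hg] at this
  syl := by
    have := hE.syl.map_conj h g
    rwa [Subgroup.map_inf _ _ _ (MulAut.conj g).injective, map_self hg, map_conj_normalizer] at this
  cent := by
    have := map_conj_mono hE.cent g
    rwa [Subgroup.map_inf _ _ _ (MulAut.conj g).injective, map_self hg, centralizer_map] at this
  star := by
    intro hle
    apply hE.star
    rw [← map_conj_normalizer, ← star_map hg] at hle
    exact (Subgroup.map_le_map_iff_of_injective (MulAut.conj g).injective).1 hle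

end Conj

/-! ### Minimal strongly closed subgroups of class two -/

/-- `P` is a nonabelian minimal strongly closed subgroup of class two -/
structure Minim (P : Syl 𝒜) : Prop where
  cl : Cl2 (P : Subgroup G)
  na : ∃ x ∈ (P : Subgroup G), ∃ y ∈ (P : Subgroup G), x * y ≠ y * x
  min : ∀ B : Subgroup G, B ≤ (P : Subgroup G) → Cfsg.IsStronglyClosed B (P : Subgroup G) →
    B = ⊥ ∨ B = (P : Subgroup G)

section Minim

variable [h𝒜 : Fact (IsClosedFam 𝒜)] [Finite G] {P : Syl 𝒜} {E : Subgroup G}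

/-- `W ≠ 1` -/
theorem WW_ne_bot (h : Setup P E) : WW (P : Subgroup G) E ≠ ⊥ := by
  intro hW
  apply h.ess.star
  have hB : BB (P : Subgroup G) E ≤ Cfsg.Agent.ClassTwoFusion.RelLocal.Setup.KK (P : Subgroup G) E := by
    refine le_inf h.BB_le_XX ?_
    unfold WW at hW
    exact commutator_eq_bot_iff_le_centralizer.1 hW
  have hX : XX (P : Subgroup G) E ≤ star (P : Subgroup G) E :=
    (XX_le_sup h).trans (sup_le (hB.trans h.K_le_star) h.P_le_star)
  intro g hg
  obtain ⟨x, hx, n, hn, rfl⟩ := N_decomp h hg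
  exact mul_mem (hX hx) (h.inf_normalizer_P_le_star hn)

namespace Minim

variable (m : Minim P)
include m

omit [Finite G] h𝒜 in
theorem setup {E : Subgroup G} (hE : IsEss 𝒜 (P : Subgroup G) E) : Setup P E := ⟨m.cl, hE⟩

/-- an abelian subgroup of `P` which is closed is trivial -/
theorem eq_bot_of_comm {B : Subgroup G} (hBP : B ≤ (P : Subgroup G)) (hc : ∀ x ∈ B, ∀ y ∈ B, x * y = y * x)
    (hN : ∀ g ∈ normalizer ((P : Subgroup G) : Set G), ∀ x ∈ B, g * x * g⁻¹ ∈ B)
    (hB : ∀ E : Subgroup G, IsEss 𝒜 (P : Subgroup G) E → ∀ b ∈ BB (P : Subgroup G) E, ∀ x ∈ B, x ∈ E →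
      b * x * b⁻¹ ∈ B) : B = ⊥ := by
  have h1 : Cfsg.IsStronglyClosed B (P : Subgroup G) :=
    ⟨hBP, fun x hx g hg => closed_of m.cl (B : Set G) hN hB hx (hBP hx) hg⟩
  rcases m.min B hBP h1 with h2 | h2
  · exact h2
  · exfalso
    obtain ⟨x, hx, y, hy, hxy⟩ := m.na
    rw [← h2] at hx hy
    exact hxy (hc x hx y hy)

theorem exists_ess : ∃ E : Subgroup G, IsEss 𝒜 (P : Subgroup G) E := by
  by_contra hcon
  push Not at hcon
  have h1 : Zc (P : Subgroup G) = ⊥ := by
    refine m.eq_bot_of_comm (Zc_le _) (fun x hx y hy => ((mem_Zc.1 hy).2 x (mem_Zc.1 hx).1)) ?_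
      (fun E hE => absurd hE (hcon E))
    intro g hg x hx
    have : g * x * g⁻¹ ∈ (Zc (P : Subgroup G)).map (MulAut.conj g).toMonoidHom := ⟨x, hx, rfl⟩
    rwa [Zc_map hg] at this
  obtain ⟨x, hx, y, hy, hxy⟩ := m.na
  have h2 : x * y * x⁻¹ * y⁻¹ ∈ Zc (P : Subgroup G) :=
    Cfsg.Agent.ClassTwoFusion.RelLocal.Setup.comm_mem_Zc m.cl hx hy
  rw [h1, mem_bot] at h2
  apply hxy
  calc x * y = (x * y * x⁻¹ * y⁻¹) * (y * x) := by group
    _ = y * x := by rw [h2, one_mul]

/-- `P` is generated by the `W_E` -/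
theorem eq_iSup : (⨆ E : {E : Subgroup G // IsEss 𝒜 (P : Subgroup G) E}, WW (P : Subgroup G) E.1) =
    (P : Subgroup G) := by
  set B : Subgroup G := ⨆ E : {E : Subgroup G // IsEss 𝒜 (P : Subgroup G) E}, WW (P : Subgroup G) E.1 with hBdef
  have hBP : B ≤ (P : Subgroup G) := by
    refine iSup_le fun E => ?_
    have h := m.setup E.2
    exact h.WW_le_VV.trans (h.VV_le_E.trans h.E_le)
  have hle : ∀ E : Subgroup G, ∀ hE : IsEss 𝒜 (P : Subgroup G) E, WW (P : Subgroup G) E ≤ B := fun E hE =>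
    le_iSup (fun E : {E : Subgroup G // IsEss 𝒜 (P : Subgroup G) E} => WW (P : Subgroup G) E.1) ⟨E, hE⟩
  have hN : ∀ g ∈ normalizer ((P : Subgroup G) : Set G), ∀ x ∈ B, g * x * g⁻¹ ∈ B := by
    intro g hg x hx
    have h1 : B.map (MulAut.conj g).toMonoidHom ≤ B := by
      rw [hBdef, Subgroup.map_iSup]
      refine iSup_le fun E => ?_
      rw [WW_map hg]
      exact hle _ (isEss_map h𝒜.out E.2 hg)
    exact h1 ⟨x, hx, rfl⟩
  have hB : ∀ E : Subgroup G, IsEss 𝒜 (P : Subgroup G) E → ∀ b ∈ BB (P : Subgroup G) E, ∀ x ∈ B, x ∈ E →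
      b * x * b⁻¹ ∈ B := by
    intro E hE b hb x hx hxE
    have h1 := hle E hE ((m.setup hE).comm_BB_mem hb hxE)
    have h2 := mul_mem h1 hx
    have e : b * x * b⁻¹ * x⁻¹ * x = b * x * b⁻¹ := by group
    rwa [e] at h2
  have h1 : Cfsg.IsStronglyClosed B (P : Subgroup G) :=
    ⟨hBP, fun x hx g hg => closed_of m.cl (B : Set G) hN hB hx (hBP hx) hg⟩
  rcases m.min B hBP h1 with h2 | h2
  · exfalso
    obtain ⟨E, hE⟩ := m.exists_ess
    refine WW_ne_bot (m.setup hE) (le_bot_iff.1 ?_)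
    rw [← h2]
    exact hle E hE
  · exact h2

/-- every essential subgroup has a neighbour -/
theorem exists_edge {E : Subgroup G} (hE : IsEss 𝒜 (P : Subgroup G) E) : ∃ F : Subgroup G, Edge P E F := by
  by_contra hcon
  push Not at hcon
  have h := m.setup hE
  have h1 : ∀ F : Subgroup G, IsEss 𝒜 (P : Subgroup G) F → VV (P : Subgroup G) E ≤ F := by
    intro F hF
    by_contra hle
    exact hcon F (edge_of_not_le h (m.setup hF) hle)
  -- `V` is central in `P`
  have h2 : (P : Subgroup G) ≤ centralizer (VV (P : Subgroup G) E : Set G) := by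
    refine m.eq_iSup.symm.le.trans ?_
    refine iSup_le fun F => ?_
    intro w hw
    rw [mem_centralizer_iff]
    intro v hv
    have hF := m.setup F.2
    exact (hF.VV_comm_E (hF.WW_le_VV hw) (h1 F.1 F.2 hv)).symm
  -- so it is centralised by `X`
  have h3 : XX (P : Subgroup G) E ≤ centralizer (VV (P : Subgroup G) E : Set G) :=
    ncl_le fun n hn a ha => h.conj_mem_cent hn (h2 ha)
  apply WW_ne_bot h
  unfold WW
  rw [commutator_eq_bot_iff_le_centralizer]
  exact h.BB_le_XX.trans h3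

theorem good {E : Subgroup G} (hE : IsEss 𝒜 (P : Subgroup G) E) : Good P E := by
  obtain ⟨F, e⟩ := m.exists_edge hE
  exact e.gi

end Minim

end Minim

end Cfsg.Agent.ClassTwoFusion.RelFus
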