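import Mathlib
import Cfsg.Agent.ClassTwoFusion.RelFus

/-!
# The action of `N_G(U)` on an elementary abelian normal subgroup `U` of `P`, and transvections

`comm_of_braid`: three transvection-like elements `t, t', s'` of a closed family all of whose 2-subgroups are
quadratic: if `t t' t = t' t t'` and `t s' = s' t ≠ 1` then `t' s' = s' t'`.
-/

set_option autoImplicit false

namespace Cfsg.Agent.ClassTwoFusion.RelAct

open Subgroup Cfsg.Agent.ClassTwoFusion.Gen Cfsg.Agent.ClassTwoFusion.RelAlperin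
open Cfsg.Agent.TwoFusion.ClosedFam Cfsg.Agent.ClassTwoFusion.RelSyl
open Cfsg.Agent.ClassTwoFusion.Local (Cl2 Zc Om mem_Zc mem_Om mem_normalizer_of_conj)
open Cfsg.Agent.ClassTwoFusion.Quad (cv mem_cv mem_cv_singleton cv_anti d)
open Cfsg.Agent.ClassTwoFusion.RelQuad Cfsg.Agent.ClassTwoFusion.RelLocal
open scoped Pointwise

section Abstract

variable {Γ U : Type*} [Group Γ] [Group U] [MulDistribMulAction Γ U] {𝒢 : Set Γ} {α : Type*} {f : Γ → α}

/-- elements fixing each other's commutators commute -/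
theorem comm_of_fix (h : RData 𝒢 U f) {x y : Γ} (h1 : ∀ u : U, x • d y u = d y u)
    (h2 : ∀ u : U, y • d x u = d x u) : x * y = y * x := by
  have h3 : ∀ v : U, (y * x)⁻¹ • (x * y) • v = v := by
    intro v
    rw [inv_smul_eq_iff, mul_smul, mul_smul, h.smul_eq y v, smul_mul', h.smul_eq x v, smul_mul',
      h.smul_eq y v, h1, h2, ← mul_assoc, ← mul_assoc, h.comm (d y v)]
  have h4 : (y * x)⁻¹ * (x * y) = 1 := h.faith _ (fun v => by rw [mul_smul]; exact h3 v)
  rw [inv_mul_eq_one] at h4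
  exact h4.symm

variable [h𝒢 : Fact (IsClosedFam 𝒢)]

theorem mul_self_of_mem (h : RData 𝒢 U f) {x : Γ} (hx : x ∈ 𝒢) : x * x = 1 :=
  h.mul_self (ds_zpowers hx) (mem_zpowers x)

theorem inv_of_mem (h : RData 𝒢 U f) {x : Γ} (hx : x ∈ 𝒢) : x⁻¹ = x :=
  inv_eq_of_mul_eq_one_right (mul_self_of_mem h hx)

/-- an element of the family swapping two commuting elements of the family fixes them -/
theorem eq_of_swap (h : RData 𝒢 U f) {p g : Γ} (hp : p ∈ 𝒢) (hg : g ∈ 𝒢)
    (hc : p * (g * p * g⁻¹) = (g * p * g⁻¹) * p) : g * p * g⁻¹ = p := by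
  have hgg := mul_self_of_mem h hg
  have hgi := inv_of_mem h hg
  set r := g * p * g⁻¹ with hr
  have hrm : r ∈ 𝒢 := smul_mem_fam hp g
  have hgr : g * r * g⁻¹ = p := by
    calc g * r * g⁻¹ = (g * g) * p * (g * g)⁻¹ := by rw [hr]; group
      _ = p := by rw [hgg]; simp
  have hQ : DS 𝒢 (zpowers p ⊔ zpowers r) := by
    refine (ds_zpowers hp).sup_of_comm (ds_zpowers hrm) ?_
    intro a ha b hb
    obtain ⟨m, rfl⟩ := mem_zpowers_iff.1 ha
    obtain ⟨n, rfl⟩ := mem_zpowers_iff.1 hb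
    exact ((show Commute p r from hc).zpow_zpow m n).eq
  set Q : Subgroup Γ := zpowers p ⊔ zpowers r with hQdef
  have hQg : ∀ x ∈ Q, g * x * g⁻¹ ∈ Q := by
    have : Q ≤ Q.comap (MulAut.conj g).toMonoidHom := by
      refine sup_le ?_ ?_
      · rw [zpowers_le, mem_comap]
        exact mem_sup_right (mem_zpowers r)
      · rw [zpowers_le, mem_comap]
        change g * r * g⁻¹ ∈ Q
        rw [hgr]
        exact mem_sup_left (mem_zpowers p)
    exact this
  have hn : g ∈ normalizer (Q : Set Γ) := by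
    rw [mem_normalizer_iff]
    intro x
    refine ⟨hQg x, fun hx => ?_⟩
    have := hQg _ hx
    have e : g * (g * x * g⁻¹) * g⁻¹ = (g * g) * x * (g * g)⁻¹ := by group
    rw [e, hgg] at this
    simpa using this
  have h1 : IsPGroup 2 (zpowers g ⊔ Q : Subgroup Γ) :=
    IsPGroup.to_sup_of_normal_right' (ds_zpowers hg).1 hQ.1 (by rw [zpowers_le]; exact hn)
  have h2 : zpowers g ⊔ Q ≤ fam 𝒢 (zpowers g ⊔ Q) :=
    sup_le (fun y hy => mem_fam ((ds_zpowers hg).2 y hy) (mem_sup_left hy))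
    (fun y hy => mem_fam (hQ.2 y hy) (mem_sup_right hy))
  have h3 : DS 𝒢 (zpowers g ⊔ Q) := ⟨h1, fun y hy => ((h𝒢.out.mem_fam_iff h1).1 (h2 hy)).1⟩
  have h4 := h.mul_comm' h3 (mem_sup_left (mem_zpowers g))
    (mem_sup_right (mem_sup_left (mem_zpowers p) : p ∈ Q))
  rw [hr, h4, mul_inv_cancel_right]

/-- the braid relation for transvections -/
theorem braid (h : RData 𝒢 U f) {x y : Γ} (hx : x ∈ 𝒢) (hy : y ∈ 𝒢) {a c : U}
    (ha : ∀ u : U, d x u = 1 ∨ d x u = a) (hc : ∀ u : U, d y u = 1 ∨ d y u = c)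
    (h1 : d x c = a) (h2 : d y a = c) : x * y * x = y * x * y := by
  have hcomm := h.comm
  have hsq := h.sq
  have hlc : ∀ a b c : U, a * (b * c) = b * (a * c) := fun a b c => by
    rw [← mul_assoc, hcomm a b, mul_assoc]
  have hcan : ∀ a b : U, a * (a * b) = b := fun a b => by rw [← mul_assoc, hsq, one_mul]
  have h1' : x • c = a * c := by rw [h.smul_eq, h1]
  have h2' : y • a = c * a := by rw [h.smul_eq, h2]
  have e : ∀ u : U, (x * y * x) • u = (y * x * y) • u := by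
    intro u
    rcases ha u with hp | hp <;> rcases hc u with hq | hq
    · have hxu : x • u = u := by rw [h.smul_eq, hp, one_mul]
      have hyu : y • u = u := by rw [h.smul_eq, hq, one_mul]
      simp only [mul_smul, hxu, hyu]
    · have hxu : x • u = u := by rw [h.smul_eq, hp, one_mul]
      have hyu : y • u = c * u := by rw [h.smul_eq, hq]
      have hyc : y • c = c := by rw [← hq]; exact h.d_self hy u
      simp only [mul_smul, hxu, hyu, smul_mul', h1', h2', hyc]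
      simp only [mul_assoc, hcan, hlc a c, hcomm a c]
    · have hxu : x • u = a * u := by rw [h.smul_eq, hp]
      have hyu : y • u = u := by rw [h.smul_eq, hq, one_mul]
      have hxa : x • a = a := by rw [← hp]; exact h.d_self hx u
      simp only [mul_smul, hxu, hyu, smul_mul', h1', h2', hxa]
      simp only [mul_assoc, hcan, hlc c a, hcomm c a]
    · have hxu : x • u = a * u := by rw [h.smul_eq, hp]
      have hyu : y • u = c * u := by rw [h.smul_eq, hq]
      have hxa : x • a = a := by rw [← hp]; exact h.d_self hx u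
      have hyc : y • c = c := by rw [← hq]; exact h.d_self hy u
      simp only [mul_smul, hxu, hyu, smul_mul', h1', h2', hxa, hyc]
      simp only [mul_assoc, hcan, hlc c a]
  have h3 : (y * x * y)⁻¹ * (x * y * x) = 1 := h.faith _ (fun v => by
    rw [mul_smul, e v, inv_smul_smul])
  rw [inv_mul_eq_one] at h3
  exact h3.symm

/-- **Lemma C** -/
theorem comm_of_braid (h : RData 𝒢 U f) {t t' s : Γ} (ht : t ∈ 𝒢) (ht' : t' ∈ 𝒢) (hs : s ∈ 𝒢) {a c : U}
    (ha : ∀ u : U, d t' u = 1 ∨ d t' u = a) (hc : ∀ u : U, d s u = 1 ∨ d s u = c)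
    (hbr : t * t' * t = t' * t * t') (hts : t * s = s * t) (hne : t ≠ s) : t' * s = s * t' := by
  have hcomm := h.comm
  have hsq := h.sq
  have hti := inv_of_mem h ht
  have ht'i := inv_of_mem h ht'
  have hsi := inv_of_mem h hs
  have htt := mul_self_of_mem h ht
  have htt' := mul_self_of_mem h ht'
  have hss := mul_self_of_mem h hs
  -- a general fact
  have gen : ∀ x y : Γ, x ∈ 𝒢 → y ∈ 𝒢 → ∀ a c : U, (∀ u : U, d x u = 1 ∨ d x u = a) →
      (∀ u : U, d y u = 1 ∨ d y u = c) → d x c = a → d y a = 1 → x * y = y * x := by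
    intro x y hx hy a c ha hc h1 h2
    have hxi := inv_of_mem h hx
    have hxx := mul_self_of_mem h hx
    have hya : y • a = a := by rw [h.smul_eq, h2, one_mul]
    -- `z = x y x`
    have hz : ∀ u : U, d (x * y * x⁻¹) u = x • d y u := by
      intro u
      have e1 : d y (x • u) = d y u := by
        rw [h.smul_eq x u, h.d_mul]
        rcases ha u with hp | hp
        · rw [hp, h.d_one, one_mul]
        · rw [hp, h2, one_mul]
      rw [hxi]
      unfold d at e1 ⊢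
      rw [mul_smul, mul_smul]
      have e2 : y • x • u = (y • u * u) * (x • u) := by
        rw [← e1, mul_assoc, hsq, mul_one]
      rw [e2, smul_mul', smul_smul x x u, hxx, one_smul, mul_assoc, hsq, mul_one]
    have hdyc : ∀ u : U, d y (d y u) = 1 := fun u => (h.d_eq_one_iff y _).2 (h.d_self hy u)
    have hcomm1 : y * (x * y * x⁻¹) = (x * y * x⁻¹) * y := by
      refine comm_of_fix h ?_ ?_
      · intro u
        rw [hz, h.smul_eq x (d y u), smul_mul', h.d_self hy]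
        rcases ha (d y u) with hp | hp
        · rw [hp, smul_one]
        · rw [hp, hya]
      · intro u
        rw [h.smul_eq (x * y * x⁻¹), hz, hdyc, smul_one, one_mul]
    have h3 := eq_of_swap h hy hx hcomm1
    calc x * y = (x * y * x⁻¹) * x := by group
      _ = y * x := by rw [h3]
  rcases ha c with h1 | h1 <;> rcases hc a with h2 | h2
  · refine comm_of_fix h ?_ ?_
    · intro u
      rcases hc u with hp | hp
      · rw [hp, smul_one]
      · rw [hp, h.smul_eq, h1, one_mul]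
    · intro u
      rcases ha u with hp | hp
      · rw [hp, smul_one]
      · rw [hp, h.smul_eq, h2, one_mul]
  · exact (gen s t' hs ht' c a hc ha h2 h1).symm
  · exact gen t' s ht' hs a c ha hc h1 h2
  · exfalso
    have hb2 := braid h ht' hs ha hc h1 h2
    -- `g = t' t s t'`
    have hgm : t' * (t * s) * t'⁻¹ ∈ 𝒢 := smul_mem_fam (mul_mem_of_commute ht hs hts) t'
    have hgt : (t' * (t * s) * t'⁻¹) * t * (t' * (t * s) * t'⁻¹)⁻¹ = s := by
      have e0 : (t' * (t * s) * t'⁻¹)⁻¹ = t' * (t * s) * t' := by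
        calc (t' * (t * s) * t'⁻¹)⁻¹ = t' * (s⁻¹ * t⁻¹) * t'⁻¹ := by group
          _ = t' * (t * s) * t' := by rw [hsi, hti, ht'i, hts]
      rw [e0, ht'i]
      have a1 : t' * t * t' = t * t' * t := hbr.symm
      have a2 : s * t' * s = t' * s * t' := hb2.symm
      calc t' * (t * s) * t' * t * (t' * (t * s) * t')
          = t' * (t * s) * (t' * t * t') * (t * s) * t' := by simp only [mul_assoc]
        _ = t' * (t * s) * (t * t' * t) * (t * s) * t' := by rw [a1]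
        _ = t' * ((t * s) * t) * t' * (t * t) * s * t' := by simp only [mul_assoc]
        _ = t' * ((s * t) * t) * t' * (t * t) * s * t' := by rw [hts]
        _ = t' * s * (t * t) * t' * (t * t) * s * t' := by simp only [mul_assoc]
        _ = t' * (s * t' * s) * t' := by rw [htt]; simp only [mul_assoc, mul_one, one_mul]
        _ = (t' * t') * s * (t' * t') := by rw [a2]; simp only [mul_assoc]
        _ = s := by rw [htt', one_mul, mul_one]
    have h3 := eq_of_swap h ht hgm (by rw [hgt]; exact hts)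
    rw [hgt] at h3
    exact hne h3.symm

end Abstract

/-! ### the action of `N_G(U)` on `U` -/

section Action

variable {G : Type*} [Group G] {𝒜 : Set G}

/-- the group induced by `N_G(U)` on `U` -/
abbrev Gam (U : Subgroup G) : Type _ := ↥(normalizerMonoidHom U).range

/-- the map onto it -/
def ru (U : Subgroup G) : ↥(normalizer (U : Set G)) →* Gam U := (normalizerMonoidHom U).rangeRestrict

theorem ru_surjective (U : Subgroup G) : Function.Surjective (ru U) :=
  (normalizerMonoidHom U).rangeRestrict_surjective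

theorem coe_ru_smul (U : Subgroup G) (n : ↥(normalizer (U : Set G))) (v : U) :
    ((ru U n • v : U) : G) = n * v * (n : G)⁻¹ := rfl

theorem faith_ru (U : Subgroup G) (x : Gam U) (hx : ∀ v : U, x • v = v) : x = 1 := by
  apply Subtype.ext
  apply MulEquiv.ext
  intro v
  exact hx v

theorem ru_eq_one_iff (U : Subgroup G) (n : ↥(normalizer (U : Set G))) :
    ru U n = 1 ↔ (n : G) ∈ centralizer (U : Set G) := by
  constructor
  · intro h1
    rw [mem_centralizer_iff]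
    intro v hv
    have h2 : ru U n • (⟨v, hv⟩ : U) = ⟨v, hv⟩ := by rw [h1, one_smul]
    have h3 := congrArg Subtype.val h2
    rw [coe_ru_smul] at h3
    have h4 : (n : G) * v * (n : G)⁻¹ = v := h3
    calc v * (n : G) = ((n : G) * v * (n : G)⁻¹) * n := by rw [h4]
      _ = n * v := by group
  · intro h1
    apply faith_ru
    intro v
    apply Subtype.ext
    rw [coe_ru_smul]
    have := mem_centralizer_iff.1 h1 v v.2
    rw [← this]; group

theorem ru_eq_iff (U : Subgroup G) (m n : ↥(normalizer (U : Set G))) :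
    ru U m = ru U n ↔ (m : G) * (n : G)⁻¹ ∈ centralizer (U : Set G) := by
  rw [← mul_inv_eq_one, ← map_inv, ← map_mul, ru_eq_one_iff]
  rfl

/-- the image of the family -/
def DU (𝒜 : Set G) (U : Subgroup G) : Set (Gam U) := ru U '' {n : ↥(normalizer (U : Set G)) | (n : G) ∈ 𝒜}

instance [h𝒜 : Fact (IsClosedFam 𝒜)] [Finite G] (U : Subgroup G) : Fact (IsClosedFam (DU 𝒜 U)) :=
  ⟨(h𝒜.out.restrict (normalizer (U : Set G))).image (ru_surjective U)⟩

/-- elementary abelian normal subgroups of `P` -/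
structure UAct (P : Syl 𝒜) (U : Subgroup G) : Prop where
  cl : Cl2 (P : Subgroup G)
  le : U ≤ (P : Subgroup G)
  sq : ∀ u ∈ U, u * u = 1
  comm : ∀ u ∈ U, ∀ v ∈ U, u * v = v * u
  norm : (P : Subgroup G) ≤ normalizer (U : Set G)

variable [h𝒜 : Fact (IsClosedFam 𝒜)] [Finite G] {P : Syl 𝒜} {U : Subgroup G}

namespace UAct

variable (h : UAct P U)
include h

omit h [Finite G] h𝒜 in
/-- the image of `P` -/
theorem isSyl_TU [Fact (IsClosedFam 𝒜)] [Finite G] (h : UAct P U) :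
    IsSyl (DU 𝒜 U) ⊤ (((P : Subgroup G).subgroupOf (normalizer (U : Set G))).map (ru U)) :=
  isSyl_image (Fact.out (p := IsClosedFam 𝒜) |>.restrict (normalizer (U : Set G))) (ru_surjective U)
    (isSyl_restrict (isSyl_of_le P h.norm))

/-- every `𝒜`-subgroup of `Γ` is conjugate into the image of `P` -/
theorem exists_conj {Q : Subgroup (Gam U)} (hQ : DS (DU 𝒜 U) Q) :
    ∃ g : Gam U, ∀ x ∈ Q, ∃ p : G, ∃ hp : p ∈ (P : Subgroup G), g * x * g⁻¹ = ru U ⟨p, h.norm hp⟩ := by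
  obtain ⟨g, -, hg⟩ := (h.isSyl_TU).conj Q le_top hQ.1 hQ.2
  refine ⟨g, fun x hx => ?_⟩
  obtain ⟨⟨p, hpN⟩, hp, hpx⟩ := hg ⟨x, hx, rfl⟩
  exact ⟨p, hp, hpx.symm⟩

theorem comm_mem {x u : G} (hx : x ∈ (P : Subgroup G)) (hu : u ∈ U) : x * u * x⁻¹ * u⁻¹ ∈ Om (P : Subgroup G) := by
  have h1 : x * u * x⁻¹ * u⁻¹ ∈ Zc (P : Subgroup G) := Setup.comm_mem_Zc h.cl hx (h.le hu)
  exact ⟨h1, h.sq _ (mul_mem ((mem_normalizer_iff.1 (h.norm hx) u).1 hu) (inv_mem hu))⟩

theorem rdata : RData (DU 𝒜 U) U (fun _ : Gam U => ()) where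
  comm := fun v w => Subtype.ext (h.comm v v.2 w w.2)
  sq := fun v => Subtype.ext (h.sq v v.2)
  faith := faith_ru U
  quad := by
    intro Q hQ x hx y hy v
    obtain ⟨g, hg⟩ := h.exists_conj hQ
    obtain ⟨p, hp, hpx⟩ := hg x hx
    obtain ⟨q, hq, hqy⟩ := hg y hy
    have h1 : (g * y * g⁻¹) • d (g * x * g⁻¹) (g • v) = d (g * x * g⁻¹) (g • v) := by
      rw [hpx, hqy]
      apply Subtype.ext
      rw [coe_ru_smul]
      have e1 : ((d (ru U ⟨p, h.norm hp⟩) (g • v) : U) : G) = p * ((g • v : U) : G) * p⁻¹ * ((g • v : U) : G) := rfl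
      have h2 := h.comm_mem hp (g • v).2
      have h3 : (((g • v : U) : G))⁻¹ = ((g • v : U) : G) := inv_eq_of_mul_eq_one_right (h.sq _ (g • v).2)
      rw [h3, mem_Om] at h2
      rw [e1]
      have h4 := h2.2.1 q hq
      change q * (p * ((g • v : U) : G) * p⁻¹ * ((g • v : U) : G)) * q⁻¹ = _
      rw [h4]; group
    have h2 : d (g * x * g⁻¹) (g • v) = g • d x v := by
      unfold d
      rw [smul_mul', smul_smul, smul_smul]
      congr 2
      group
    rw [h2, smul_smul] at h1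
    have h3 := congrArg (fun w => g⁻¹ • w) h1
    simp only [smul_smul] at h3
    have e1 : g⁻¹ * (g * y * g⁻¹ * g) = y := by group
    rw [e1, inv_mul_cancel, one_smul] at h3
    exact h3
  f_comm := fun _ _ _ _ _ _ _ => rfl

theorem coe_d {x : G} (hx : x ∈ normalizer (U : Set G)) (u : U) :
    ((d (ru U ⟨x, hx⟩) u : U) : G) = x * u * x⁻¹ * (u : G)⁻¹ := by
  have h3 : ((u : U) : G)⁻¹ = ((u : U) : G) := inv_eq_of_mul_eq_one_right (h.sq _ u.2)
  rw [h3]
  rfl

theorem d_dich {x a : G} (hx : x ∈ normalizer (U : Set G)) (haU : a ∈ U)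
    (ha : ∀ u ∈ U, x * u * x⁻¹ * u⁻¹ = 1 ∨ x * u * x⁻¹ * u⁻¹ = a) (u : U) :
    d (ru U ⟨x, hx⟩) u = 1 ∨ d (ru U ⟨x, hx⟩) u = ⟨a, haU⟩ := by
  rcases ha u u.2 with h1 | h1
  · left; apply Subtype.ext; rw [h.coe_d hx, h1]; rfl
  · right; apply Subtype.ext; rw [h.coe_d hx, h1]

/-- **Lemma C** in `G` -/
theorem comm_of_braid {t t' s : G} (ht : t ∈ 𝒜) (htU : t ∈ normalizer (U : Set G)) (ht' : t' ∈ 𝒜)
    (ht'U : t' ∈ normalizer (U : Set G)) (hs : s ∈ 𝒜) (hsU : s ∈ normalizer (U : Set G)) {a a' c : G}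
    (haU : a ∈ U) (ha'U : a' ∈ U) (hcU : c ∈ U)
    (ha : ∀ u ∈ U, t * u * t⁻¹ * u⁻¹ = 1 ∨ t * u * t⁻¹ * u⁻¹ = a)
    (ha' : ∀ u ∈ U, t' * u * t'⁻¹ * u⁻¹ = 1 ∨ t' * u * t'⁻¹ * u⁻¹ = a')
    (hc : ∀ u ∈ U, s * u * s⁻¹ * u⁻¹ = 1 ∨ s * u * s⁻¹ * u⁻¹ = c)
    (h1 : t * a' * t⁻¹ * a'⁻¹ = a) (h2 : t' * a * t'⁻¹ * a⁻¹ = a')
    (hts : (t * s) * (s * t)⁻¹ ∈ centralizer (U : Set G)) (hne : t * s⁻¹ ∉ centralizer (U : Set G)) :
    (t' * s) * (s * t')⁻¹ ∈ centralizer (U : Set G) := by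
  have e1 : ru U ⟨t, htU⟩ * ru U ⟨s, hsU⟩ = ru U ⟨s, hsU⟩ * ru U ⟨t, htU⟩ := by
    rw [← map_mul, ← map_mul, ru_eq_iff]; exact hts
  have e2 : ru U ⟨t, htU⟩ ≠ ru U ⟨s, hsU⟩ := by rw [Ne, ru_eq_iff]; exact hne
  have hb := braid h.rdata (x := ru U ⟨t, htU⟩) (y := ru U ⟨t', ht'U⟩) ⟨_, ht, rfl⟩ ⟨_, ht', rfl⟩
    (h.d_dich htU haU ha) (h.d_dich ht'U ha'U ha') (by apply Subtype.ext; rw [h.coe_d]; exact h1)
    (by apply Subtype.ext; rw [h.coe_d]; exact h2)
  have h3 := RelAct.comm_of_braid h.rdata (t := ru U ⟨t, htU⟩) (t' := ru U ⟨t', ht'U⟩) (s := ru U ⟨s, hsU⟩)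
    ⟨_, ht, rfl⟩ ⟨_, ht', rfl⟩ ⟨_, hs, rfl⟩ (h.d_dich ht'U ha'U ha') (h.d_dich hsU hcU hc) hb e1 e2
  rw [← map_mul, ← map_mul, ru_eq_iff] at h3
  exact h3

/-- two transvections with the same centre coincide if `P` has only one transvection. -/
theorem eq_of_unique {t t' e : G} (ht' : t' ∈ 𝒜) (ht'U : t' ∈ normalizer (U : Set G)) (he : e ∈ 𝒜)
    (heU : e ∈ normalizer (U : Set G)) {a : G} (haU : a ∈ U)
    (ha : ∀ u ∈ U, t' * u * t'⁻¹ * u⁻¹ = 1 ∨ t' * u * t'⁻¹ * u⁻¹ = a)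
    (ha' : ∀ u ∈ U, e * u * e⁻¹ * u⁻¹ = 1 ∨ e * u * e⁻¹ * u⁻¹ = a)
    (ht'n : t' ∉ centralizer (U : Set G)) (hen : e ∉ centralizer (U : Set G))
    (huniq : ∀ p ∈ (P : Subgroup G), ∀ c ∈ U, (∀ u ∈ U, p * u * p⁻¹ * u⁻¹ = 1 ∨ p * u * p⁻¹ * u⁻¹ = c) →
      p ∉ centralizer (U : Set G) → p * t⁻¹ ∈ centralizer (U : Set G)) :
    t' * e⁻¹ ∈ centralizer (U : Set G) := by
  set x := ru U ⟨t', ht'U⟩ with hx
  set y := ru U ⟨e, heU⟩ with hy
  have hxm : x ∈ DU 𝒜 U := ⟨_, ht', rfl⟩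
  have hym : y ∈ DU 𝒜 U := ⟨_, he, rfl⟩
  have hxa := h.d_dich ht'U haU ha
  have hya := h.d_dich heU haU ha'
  rw [← hx] at hxa
  rw [← hy] at hya
  have hx1 : x ≠ 1 := by rw [hx, Ne, ru_eq_one_iff]; exact ht'n
  have hy1 : y ≠ 1 := by rw [hy, Ne, ru_eq_one_iff]; exact hen
  have fix : ∀ z : Gam U, z ∈ DU 𝒜 U → z ≠ 1 → (∀ u : U, d z u = 1 ∨ d z u = ⟨a, haU⟩) →
      z • (⟨a, haU⟩ : U) = ⟨a, haU⟩ := by
    intro z hz hz1 hza
    by_contra hcon
    apply hz1
    apply h.rdata.faith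
    intro u
    rw [← h.rdata.d_eq_one_iff]
    rcases hza u with h1 | h1
    · exact h1
    · exfalso
      apply hcon
      rw [← h1]
      exact h.rdata.d_self hz u
  have hxf := fix x hxm hx1 hxa
  have hyf := fix y hym hy1 hya
  have hxy : x * y = y * x := by
    refine comm_of_fix h.rdata ?_ ?_
    · intro u
      rcases hya u with h1 | h1
      · rw [h1, smul_one]
      · rw [h1, hxf]
    · intro u
      rcases hxa u with h1 | h1
      · rw [h1, smul_one]
      · rw [h1, hyf]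
  have hQ : DS (DU 𝒜 U) (zpowers x ⊔ zpowers y) := by
    refine (ds_zpowers hxm).sup_of_comm (ds_zpowers hym) ?_
    intro a ha b hb
    obtain ⟨m, rfl⟩ := mem_zpowers_iff.1 ha
    obtain ⟨n, rfl⟩ := mem_zpowers_iff.1 hb
    exact ((show Commute x y from hxy).zpow_zpow m n).eq
  obtain ⟨g, hg⟩ := h.exists_conj hQ
  have key : ∀ z : Gam U, z ∈ zpowers x ⊔ zpowers y → z ≠ 1 → (∀ u : U, d z u = 1 ∨ d z u = ⟨a, haU⟩) →
      ∀ p : G, ∀ hp : p ∈ (P : Subgroup G), g * z * g⁻¹ = ru U ⟨p, h.norm hp⟩ →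
      p * t⁻¹ ∈ centralizer (U : Set G) := by
    intro z hz hz1 hza p hp hpz
    refine huniq p hp ((g • (⟨a, haU⟩ : U) : U) : G) (g • (⟨a, haU⟩ : U)).2 ?_ ?_
    · intro u hu
      have e1 : d (g * z * g⁻¹) (⟨u, hu⟩ : U) = g • d z (g⁻¹ • ⟨u, hu⟩) := by
        unfold d
        rw [smul_mul', smul_smul, smul_smul, smul_inv_smul]
      have e2 := h.coe_d (h.norm hp) ⟨u, hu⟩
      rw [← hpz, e1] at e2
      rcases hza (g⁻¹ • ⟨u, hu⟩) with h1 | h1
      · left
        rw [← e2, h1, smul_one]; rfl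
      · right
        rw [← e2, h1]
    · intro hpc
      apply hz1
      have h1 : ru U ⟨p, h.norm hp⟩ = 1 := (ru_eq_one_iff U _).2 hpc
      rw [← hpz] at h1
      exact conj_eq_one_iff.1 h1
  obtain ⟨p, hp, hpx⟩ := hg x (mem_sup_left (mem_zpowers x))
  obtain ⟨q, hq, hqy⟩ := hg y (mem_sup_right (mem_zpowers y))
  have h1 := key x (mem_sup_left (mem_zpowers x)) hx1 hxa p hp hpx
  have h2 := key y (mem_sup_right (mem_zpowers y)) hy1 hya q hq hqy
  have h3 : p * q⁻¹ ∈ centralizer (U : Set G) := by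
    have := mul_mem h1 (inv_mem h2)
    have e1 : p * t⁻¹ * (q * t⁻¹)⁻¹ = p * q⁻¹ := by group
    rwa [e1] at this
  have h4 : ru U ⟨p, h.norm hp⟩ = ru U ⟨q, h.norm hq⟩ := (ru_eq_iff U _ _).2 h3
  rw [← hpx, ← hqy] at h4
  have h5 : x = y := by
    have := congrArg (fun z => g⁻¹ * z * g) h4
    simpa [mul_assoc] using this
  exact (ru_eq_iff U _ _).1 h5

end UAct

end Action

end Cfsg.Agent.ClassTwoFusion.RelAct
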