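import Mathlib
import Cfsg.Agent.ClassTwoFusion.Quad
import Cfsg.Agent.ClassificationK.SpreadField
import Cfsg.Agent.LieClassical.SLTwoUnipotent

/-!
# Two opposite quadratic groups generate `SL₂(F)`

`T` and `T'` act on an elementary abelian 2-group `V`, `C = C_V(T)`, `C' = C_V(T')`, `U = C ∩ C'`, `V = CC'`, and
on `V/U = C/U × C'/U` the commutator maps of `T` and `T'` are mutually inverse (`Spread`).  Then `V/U` is the
natural module of `⟨T, T'⟩/C(V/U) = SL₂(F)`, `|F| = |T|`.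
-/

set_option autoImplicit false
set_option linter.unusedSectionVars false

namespace Cfsg.Agent.ClassTwoFusion.SpreadSL

open Subgroup
open Cfsg.Agent.ClassTwoFusion.Quad

/-- Two opposite quadratic groups. -/
structure Spread {L V : Type*} [Group L] [Group V] [MulDistribMulAction L V] (T T' : Subgroup L)
    (U C C' : Subgroup V) : Prop where
  comm : ∀ v w : V, v * w = w * v
  sq : ∀ v : V, v * v = 1
  inf : C ⊓ C' = U
  sup : ∀ v : V, ∃ a ∈ C, ∃ b ∈ C', a * b = v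
  fix : ∀ t ∈ T, ∀ v ∈ C, t • v = v
  fix' : ∀ s ∈ T', ∀ v ∈ C', s • v = v
  mem : ∀ t ∈ T, ∀ v : V, d t v ∈ C
  mem' : ∀ s ∈ T', ∀ v : V, d s v ∈ C'
  card : Nat.card T = U.relIndex C'
  inj : ∀ t ∈ T, ∀ v ∈ C', d t v ∈ U → t = 1 ∨ v ∈ U
  inj' : ∀ s ∈ T', ∀ v ∈ C, d s v ∈ U → s = 1 ∨ v ∈ U
  inv : ∀ t ∈ T, t ≠ 1 → ∃ s ∈ T', ∀ v ∈ C', d s (d t v) * v ∈ U
  inv' : ∀ s ∈ T', s ≠ 1 → ∃ t ∈ T, ∀ v ∈ C', d s (d t v) * v ∈ U
  ne : ∃ t ∈ T, t ≠ 1
  lt : ∃ v ∈ C', v ∉ U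

section Comm

variable {L V : Type*} [Group L] [CommGroup V] [MulDistribMulAction L V]

/-- `v ↦ [v, x]` -/
def dHom (x : L) : V →* V := MonoidHom.mk' (fun v => d x v) (fun v w => by
  show (x • (v * w)) * (v * w) = (x • v) * v * ((x • w) * w)
  rw [smul_mul']
  exact mul_mul_mul_comm _ _ _ _)

theorem d_mul' (x : L) (v w : V) : d x (v * w) = d x v * d x w := (dHom (V := V) x).map_mul v w

theorem d_one' (x : L) : d x (1 : V) = 1 := (dHom (V := V) x).map_one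

theorem d_inv' (x : L) (v : V) : d x v⁻¹ = (d x v)⁻¹ := (dHom (V := V) x).map_inv v

namespace Spread

variable {T T' : Subgroup L} {U C C' : Subgroup V} (h : Spread T T' U C C')
include h

theorem inv_eq (v : V) : v⁻¹ = v := inv_eq_of_mul_eq_one_left (h.sq v)

theorem U_le : U ≤ C := by rw [← h.inf]; exact inf_le_left
theorem U_le' : U ≤ C' := by rw [← h.inf]; exact inf_le_right

theorem smul_eq (x : L) (v : V) : x • v = d x v * v := by
  rw [d, mul_assoc, h.sq, mul_one]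

theorem d_fix {x : L} {v : V} (hx : x • v = v) : d x v = 1 := by rw [d, hx, h.sq]

theorem mem_iff {v w : V} : v * w ∈ U ↔ w * v ∈ U := by rw [mul_comm]

/-- congruence modulo `U` is transitive -/
theorem tr {u v w : V} (h1 : u * v ∈ U) (h2 : v * w ∈ U) : u * w ∈ U := by
  have := mul_mem h1 h2
  have e : u * v * (v * w) = u * w := by
    rw [mul_assoc, ← mul_assoc v, h.sq, one_mul]
  rwa [e] at this

/-- `T` and `T'` preserve congruence modulo `U` -/
theorem d_congr {t : L} (ht : t ∈ T) {v w : V} (hvw : v * w ∈ U) : d t v * d t w ∈ U := by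
  rw [← d_mul', h.d_fix (h.fix t ht _ (h.U_le hvw))]
  exact one_mem _

theorem d_congr' {s : L} (hs : s ∈ T') {v w : V} (hvw : v * w ∈ U) : d s v * d s w ∈ U := by
  rw [← d_mul', h.d_fix (h.fix' s hs _ (h.U_le' hvw))]
  exact one_mem _

theorem d_left {t t' : L} (ht : t ∈ T) (ht' : t' ∈ T) (v : V) : d (t * t') v = d t v * d t' v := by
  have h1 : t • (t' • v) = d t v * d t' v * v := by
    rw [h.smul_eq t' v, smul_mul', h.fix t ht _ (h.mem t' ht' v), h.smul_eq t v]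
    rw [← mul_assoc, mul_comm (d t' v)]
  rw [d, mul_smul, h1, mul_assoc, h.sq, mul_one]

theorem d_left' {s s' : L} (hs : s ∈ T') (hs' : s' ∈ T') (v : V) : d (s * s') v = d s v * d s' v := by
  have h1 : s • (s' • v) = d s v * d s' v * v := by
    rw [h.smul_eq s' v, smul_mul', h.fix' s hs _ (h.mem' s' hs' v), h.smul_eq s v]
    rw [← mul_assoc, mul_comm (d s' v)]
  rw [d, mul_smul, h1, mul_assoc, h.sq, mul_one]

theorem d_one_left (v : V) : d (1 : L) v = 1 := h.d_fix (one_smul L v)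

/-- if `d s` is inverse to `d t` on `C'/U`, then also on `C/U` -/
theorem inv_symm {s t : L} (hs : s ∈ T') (ht : t ∈ T) (hst : ∀ v ∈ C', d s (d t v) * v ∈ U) :
    ∀ a ∈ C, d t (d s a) * a ∈ U := by
  intro a ha
  have hs1 : s ≠ 1 := by
    rintro rfl
    obtain ⟨v, hv, hvU⟩ := h.lt
    have h1 := hst v hv
    rw [h.d_one_left, one_mul] at h1
    exact hvU h1
  have h1 := hst (d s a) (h.mem' s hs a)
  rw [← d_mul'] at h1
  exact (h.inj' s hs _ (mul_mem (h.mem t ht _) ha) h1).resolve_left hs1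

/-- `C'/U` -/
abbrev Q (U C' : Subgroup V) : Type _ := C' ⧸ U.subgroupOf C'

end Spread

/-- the class of `v ∈ C'`, in additive notation -/
def cls (U C' : Subgroup V) (v : C') : Additive (Spread.Q U C') := Additive.ofMul (QuotientGroup.mk v)

theorem cls_surj (U C' : Subgroup V) (x : Additive (Spread.Q U C')) : ∃ v : C', cls U C' v = x := by
  obtain ⟨v, hv⟩ := QuotientGroup.mk_surjective (Additive.toMul x)
  exact ⟨v, by rw [cls, hv]; rfl⟩

theorem cls_mul (U C' : Subgroup V) (v w : C') : cls U C' (v * w) = cls U C' v + cls U C' w := rfl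

theorem cls_one (U C' : Subgroup V) : cls U C' 1 = 0 := rfl

theorem cls_eq {U C' : Subgroup V} (hsq : ∀ v : V, v * v = 1) {v w : C'} :
    cls U C' v = cls U C' w ↔ (v : V) * w ∈ U := by
  have h1 : cls U C' v = cls U C' w ↔ (QuotientGroup.mk v : Spread.Q U C') = QuotientGroup.mk w :=
    Additive.ofMul.injective.eq_iff
  rw [h1, QuotientGroup.eq, mem_subgroupOf]
  have h2 : ((v⁻¹ * w : C') : V) = v * w := by
    rw [Subgroup.coe_mul, Subgroup.coe_inv, inv_eq_of_mul_eq_one_left (hsq (v : V))]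
  rw [h2]

theorem cls_eq_zero {U C' : Subgroup V} (hsq : ∀ v : V, v * v = 1) {v : C'} :
    cls U C' v = 0 ↔ (v : V) ∈ U := by
  rw [← cls_one, cls_eq hsq, OneMemClass.coe_one, mul_one]

namespace Spread

variable {T T' : Subgroup L} {U C C' : Subgroup V} (h : Spread T T' U C C')
include h

/-- `v ↦ [v, t, s]` on `C'`, `t ∈ T`, `s ∈ T'` -/
theorem kap_mem {s : L} (hs : s ∈ T') (t : L) (v : V) : d s (d t v) ∈ C' := h.mem' s hs _

/-- existence of the endomorphism of `C'/U` induced by `v ↦ [v, t, s]` -/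
theorem exists_end {s t : L} (hs : s ∈ T') (ht : t ∈ T) : ∃ f : AddMonoid.End (Additive (Q U C')),
    ∀ v : C', f (cls U C' v) = cls U C' ⟨d s (d t (v : V)), h.kap_mem hs t v⟩ := by
  let κ : C' →* C' := MonoidHom.mk' (fun v => ⟨d s (d t (v : V)), h.kap_mem hs t (v : V)⟩) (fun v w => by
    apply Subtype.ext
    show d s (d t ((v : V) * w)) = d s (d t (v : V)) * d s (d t (w : V))
    rw [d_mul', d_mul'])
  have hκ : U.subgroupOf C' ≤ (U.subgroupOf C').comap κ := by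
    intro v hv
    rw [mem_subgroupOf] at hv
    rw [mem_comap, mem_subgroupOf]
    show d s (d t (v : V)) ∈ U
    rw [h.d_fix (h.fix t ht _ (h.U_le hv)), d_one']
    exact one_mem _
  let f : Q U C' →* Q U C' := QuotientGroup.map _ _ κ hκ
  exact ⟨MonoidHom.toAdditive f, fun v => rfl⟩

theorem end_ext {f g : AddMonoid.End (Additive (Q U C'))} (hfg : ∀ v : C', f (cls U C' v) = g (cls U C' v)) :
    f = g := by
  ext x
  obtain ⟨v, rfl⟩ := cls_surj U C' x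
  exact hfg v

theorem two (x : Additive (Q U C')) : x + x = 0 := by
  obtain ⟨v, rfl⟩ := cls_surj U C' x
  rw [← cls_mul, cls_eq_zero h.sq]
  rw [Subgroup.coe_mul, h.sq]
  exact one_mem _

variable {s₀ t₀ : L}

/-- the additive group of the `v ↦ [v, t, s₀]` -/
def K (hs₀ : s₀ ∈ T') : AddSubgroup (AddMonoid.End (Additive (Q U C'))) where
  carrier := {f | ∃ t ∈ T, ∀ v : C', f (cls U C' v) = cls U C' ⟨d s₀ (d t (v : V)), h.kap_mem hs₀ t v⟩}
  zero_mem' := by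
    refine ⟨1, one_mem _, fun v => ?_⟩
    show 0 = _
    symm
    rw [cls_eq_zero h.sq]
    show d s₀ (d (1 : L) (v : V)) ∈ U
    rw [h.d_one_left, d_one']
    exact one_mem _
  add_mem' := by
    rintro f g ⟨t, ht, hf⟩ ⟨t', ht', hg⟩
    refine ⟨t * t', mul_mem ht ht', fun v => ?_⟩
    show f _ + g _ = _
    rw [hf, hg, ← cls_mul]
    congr 1
    apply Subtype.ext
    show d s₀ (d t (v : V)) * d s₀ (d t' (v : V)) = d s₀ (d (t * t') (v : V))
    rw [h.d_left ht ht', d_mul']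
  neg_mem' := by
    rintro f ⟨t, ht, hf⟩
    refine ⟨t, ht, fun v => ?_⟩
    show - f _ = _
    rw [neg_eq_of_add_eq_zero_left (h.two _), hf]

theorem mem_K {hs₀ : s₀ ∈ T'} {f : AddMonoid.End (Additive (Q U C'))} :
    f ∈ h.K hs₀ ↔ ∃ t ∈ T, ∀ v : C', f (cls U C' v) = cls U C' ⟨d s₀ (d t (v : V)), h.kap_mem hs₀ t v⟩ :=
  Iff.rfl

/-- the additive group of the `v ↦ [v, t₀, s]` -/
def K' (ht₀ : t₀ ∈ T) : AddSubgroup (AddMonoid.End (Additive (Q U C'))) where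
  carrier := {f | ∃ s, ∃ hs : s ∈ T', ∀ v : C', f (cls U C' v) = cls U C' ⟨d s (d t₀ (v : V)), h.kap_mem hs t₀ v⟩}
  zero_mem' := by
    refine ⟨1, one_mem _, fun v => ?_⟩
    show 0 = _
    symm
    rw [cls_eq_zero h.sq]
    show d (1 : L) (d t₀ (v : V)) ∈ U
    rw [h.d_one_left]
    exact one_mem _
  add_mem' := by
    rintro f g ⟨s, hs, hf⟩ ⟨s', hs', hg⟩
    refine ⟨s * s', mul_mem hs hs', fun v => ?_⟩
    show f _ + g _ = _
    rw [hf, hg, ← cls_mul]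
    congr 1
    apply Subtype.ext
    show d s (d t₀ (v : V)) * d s' (d t₀ (v : V)) = d (s * s') (d t₀ (v : V))
    rw [h.d_left' hs hs']
  neg_mem' := by
    rintro f ⟨s, hs, hf⟩
    refine ⟨s, hs, fun v => ?_⟩
    show - f _ = _
    rw [neg_eq_of_add_eq_zero_left (h.two _), hf]

theorem mem_K' {ht₀ : t₀ ∈ T} {f : AddMonoid.End (Additive (Q U C'))} :
    f ∈ h.K' ht₀ ↔ ∃ s, ∃ hs : s ∈ T', ∀ v : C', f (cls U C' v) = cls U C' ⟨d s (d t₀ (v : V)), h.kap_mem hs t₀ v⟩ :=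
  Iff.rfl

theorem card_K [Finite V] [Finite T] (hs₀ : s₀ ∈ T') (hs₁ : s₀ ≠ 1) :
    Nat.card (h.K hs₀) = Nat.card (Additive (Q U C')) := by
  have hcard : Nat.card (Additive (Q U C')) = Nat.card T := by
    rw [h.card]
    rfl
  rw [hcard]
  -- `t ↦ [·, t, s₀]` is a bijection
  have hex : ∀ t : T, ∃ f : h.K hs₀, ∀ v : C', (f : AddMonoid.End (Additive (Q U C'))) (cls U C' v) =
      cls U C' ⟨d s₀ (d (t : L) v), h.kap_mem hs₀ t v⟩ := by
    intro t
    obtain ⟨f, hf⟩ := h.exists_end hs₀ t.2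
    exact ⟨⟨f, t, t.2, hf⟩, hf⟩
  choose F hF using hex
  symm
  refine Nat.card_congr (Equiv.ofBijective F ⟨?_, ?_⟩)
  · intro t t' htt
    have h1 : ∀ v : C', d s₀ (d (t : L) (v : V)) * d s₀ (d (t' : L) (v : V)) ∈ U := by
      intro v
      have h2 := hF t v
      rw [htt, hF t' v, cls_eq h.sq] at h2
      rw [mul_comm]
      exact h2
    obtain ⟨v, hv, hvU⟩ := h.lt
    have h2 := h1 ⟨v, hv⟩
    rw [← d_mul', ← h.d_left t.2 t'.2] at h2
    have h3 := (h.inj' s₀ hs₀ _ (h.mem _ (mul_mem t.2 t'.2) v) h2).resolve_left hs₁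
    have h4 := (h.inj _ (mul_mem t.2 t'.2) v hv h3).resolve_right hvU
    have h5 : (t : L) * t = 1 := by
      have h6 : d ((t : L) * t) v ∈ U := by
        rw [h.d_left t.2 t.2, h.sq]; exact one_mem _
      exact (h.inj _ (mul_mem t.2 t.2) v hv h6).resolve_right hvU
    apply Subtype.ext
    exact mul_left_cancel (h5.trans h4.symm)
  · rintro ⟨f, t, ht, hf⟩
    refine ⟨⟨t, ht⟩, ?_⟩
    apply Subtype.ext
    apply h.end_ext
    intro v
    rw [hF, hf]

theorem K_inv {s₀ t₀ : L} (hs₀ : s₀ ∈ T') (ht₀ : t₀ ∈ T) (h0 : ∀ v ∈ C', d s₀ (d t₀ v) * v ∈ U)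
    {s t : L} (hs : s ∈ T') (ht : t ∈ T) (hst : ∀ v ∈ C', d s (d t v) * v ∈ U)
    {f g : AddMonoid.End (Additive (Q U C'))}
    (hf : ∀ v : C', f (cls U C' v) = cls U C' ⟨d s₀ (d t (v : V)), h.kap_mem hs₀ t v⟩)
    (hg : ∀ v : C', g (cls U C' v) = cls U C' ⟨d s (d t₀ (v : V)), h.kap_mem hs t₀ v⟩) :
    f * g = 1 ∧ g * f = 1 := by
  have h0' := h.inv_symm hs₀ ht₀ h0
  have hst' := h.inv_symm hs ht hst
  constructor
  · apply h.end_ext
    intro v
    show f (g _) = _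
    rw [hg, hf]
    show cls U C' _ = cls U C' v
    rw [cls_eq h.sq]
    show d s₀ (d t (d s (d t₀ (v : V)))) * v ∈ U
    have h1 : d t (d s (d t₀ (v : V))) * d t₀ (v : V) ∈ U := hst' _ (h.mem t₀ ht₀ _)
    exact h.tr (h.d_congr' hs₀ h1) (h0 v v.2)
  · apply h.end_ext
    intro v
    show g (f _) = _
    rw [hf, hg]
    show cls U C' _ = cls U C' v
    rw [cls_eq h.sq]
    show d s (d t₀ (d s₀ (d t (v : V)))) * v ∈ U
    have h1 : d t₀ (d s₀ (d t (v : V))) * d t (v : V) ∈ U := h0' _ (h.mem t ht _)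
    exact h.tr (h.d_congr' hs h1) (hst v v.2)

/-- the field -/
theorem exists_field [Finite V] [Finite T] {s₀ t₀ : L} (hs₀ : s₀ ∈ T') (ht₀ : t₀ ∈ T)
    (h0 : ∀ v ∈ C', d s₀ (d t₀ v) * v ∈ U) :
    ∃ (F : Type) (_ : Field F) (_ : Fintype F), Fintype.card F = Nat.card T ∧
      ∃ e : Additive (Q U C') ≃+ F,
        (∀ t ∈ T, ∃ c : F, ∀ v : C', e (cls U C' ⟨d s₀ (d t (v : V)), h.kap_mem hs₀ t v⟩) = c * e (cls U C' v)) ∧
        (∀ s (hs : s ∈ T'), ∃ c : F, ∀ v : C', e (cls U C' ⟨d s (d t₀ (v : V)), h.kap_mem hs t₀ v⟩) =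
          c * e (cls U C' v)) ∧
        (∀ c : F, ∃ t ∈ T, ∀ v : C', e (cls U C' ⟨d s₀ (d t (v : V)), h.kap_mem hs₀ t v⟩) = c * e (cls U C' v)) ∧
        (∀ c : F, ∃ s, ∃ hs : s ∈ T', ∀ v : C', e (cls U C' ⟨d s (d t₀ (v : V)), h.kap_mem hs t₀ v⟩) =
          c * e (cls U C' v)) := by
  have hs₁ : s₀ ≠ 1 := by
    rintro rfl
    obtain ⟨v, hv, hvU⟩ := h.lt
    have h1 := h0 v hv
    rw [h.d_one_left, one_mul] at h1
    exact hvU h1
  have : Nontrivial (Additive (Q U C')) := by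
    obtain ⟨v, hv, hvU⟩ := h.lt
    refine ⟨cls U C' ⟨v, hv⟩, 0, fun h1 => hvU ((cls_eq_zero h.sq).1 h1)⟩
  have : Finite (Additive (Q U C')) := by
    unfold Q
    infer_instance
  have a1 : 1 ∈ h.K hs₀ := by
    refine ⟨t₀, ht₀, fun v => ?_⟩
    show cls U C' v = _
    rw [cls_eq h.sq, mul_comm]
    exact h0 v v.2
  have a2 : ∀ f ∈ h.K hs₀, f ≠ 0 → ∃ g ∈ h.K' ht₀, f * g = 1 ∧ g * f = 1 := by
    rintro f ⟨t, ht, hf⟩ hf0
    have ht1 : t ≠ 1 := by
      rintro rfl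
      apply hf0
      apply h.end_ext
      intro v
      rw [hf]
      show _ = 0
      rw [cls_eq_zero h.sq]
      show d s₀ (d (1 : L) (v : V)) ∈ U
      rw [h.d_one_left, d_one']
      exact one_mem _
    obtain ⟨s, hs, hst⟩ := h.inv t ht ht1
    obtain ⟨g, hg⟩ := h.exists_end hs ht₀
    have := h.K_inv hs₀ ht₀ h0 hs ht hst hf hg
    exact ⟨g, ⟨s, hs, hg⟩, this.1, this.2⟩
  have a3 : ∀ g ∈ h.K' ht₀, g ≠ 0 → ∃ f ∈ h.K hs₀, f * g = 1 ∧ g * f = 1 := by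
    rintro g ⟨s, hs, hg⟩ hg0
    have hs1 : s ≠ 1 := by
      rintro rfl
      apply hg0
      apply h.end_ext
      intro v
      rw [hg]
      show _ = 0
      rw [cls_eq_zero h.sq]
      show d (1 : L) (d t₀ (v : V)) ∈ U
      rw [h.d_one_left]
      exact one_mem _
    obtain ⟨t, ht, hst⟩ := h.inv' s hs hs1
    obtain ⟨f, hf⟩ := h.exists_end hs₀ ht
    have := h.K_inv hs₀ ht₀ h0 hs ht hst hf hg
    exact ⟨f, ⟨t, ht, hf⟩, this.1, this.2⟩
  obtain ⟨F, hF, hFt, hcard, e, hK, hK'⟩ := Cfsg.Agent.ClassificationK.SpreadField.exists_field h.two (h.K hs₀)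
    (h.K' ht₀) (h.card_K hs₀ hs₁) a1 a2 a3
  refine ⟨F, hF, hFt, ?_, e, ?_, ?_, ?_, ?_⟩
  · rw [hcard, h.card]
    rfl
  · intro t ht
    obtain ⟨f, hf⟩ := h.exists_end hs₀ ht
    obtain ⟨c, hc⟩ := (hK f).1 ⟨t, ht, hf⟩
    exact ⟨c, fun v => by rw [← hf, hc]⟩
  · intro s hs
    obtain ⟨f, hf⟩ := h.exists_end hs ht₀
    obtain ⟨c, hc⟩ := (hK' f).1 ⟨s, hs, hf⟩
    exact ⟨c, fun v => by rw [← hf, hc]⟩
  · intro c
    have h1 : (e.symm.toAddMonoidHom.comp ((AddMonoidHom.mulLeft c).comp e.toAddMonoidHom) :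
        AddMonoid.End (Additive (Q U C'))) ∈ h.K hs₀ :=
      (hK _).2 ⟨c, fun a => e.apply_symm_apply (c * e a)⟩
    obtain ⟨t, ht, hf⟩ := h1
    exact ⟨t, ht, fun v => by rw [← hf]; exact e.apply_symm_apply (c * e (cls U C' v))⟩
  · intro c
    have h1 : (e.symm.toAddMonoidHom.comp ((AddMonoidHom.mulLeft c).comp e.toAddMonoidHom) :
        AddMonoid.End (Additive (Q U C'))) ∈ h.K' ht₀ :=
      (hK' _).2 ⟨c, fun a => e.apply_symm_apply (c * e a)⟩
    obtain ⟨s, hs, hf⟩ := h1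
    exact ⟨s, hs, fun v => by rw [← hf]; exact e.apply_symm_apply (c * e (cls U C' v))⟩

open Cfsg.Agent.LieClassical in
/-- **The natural module.** -/
theorem exists_natural [Finite V] [Finite T] : ∃ (F : Type) (_ : Field F) (_ : Fintype F),
    Fintype.card F = Nat.card T ∧ ∃ π : V → (Fin 2 → F),
      (∀ v w, π (v * w) = π v + π w) ∧ Function.Surjective π ∧ (∀ v, π v = 0 ↔ v ∈ U) ∧
      (∀ v, π v 1 = 0 ↔ v ∈ C) ∧ (∀ v, π v 0 = 0 ↔ v ∈ C') ∧
      (∀ t ∈ T, ∃ c : F, ∀ v, π (t • v) = (SLTwoUnipotent.u c).1.mulVec (π v)) ∧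
      (∀ s ∈ T', ∃ c : F, ∀ v, π (s • v) = (SLTwoUnipotent.l c).1.mulVec (π v)) ∧
      (∀ c : F, ∃ t ∈ T, ∀ v, π (t • v) = (SLTwoUnipotent.u c).1.mulVec (π v)) ∧
      (∀ c : F, ∃ s ∈ T', ∀ v, π (s • v) = (SLTwoUnipotent.l c).1.mulVec (π v)) := by
  obtain ⟨t₀, ht₀, ht₁⟩ := h.ne
  obtain ⟨s₀, hs₀, h0⟩ := h.inv t₀ ht₀ ht₁
  have h0' := h.inv_symm hs₀ ht₀ h0
  have hs₁ : s₀ ≠ 1 := by
    rintro rfl
    obtain ⟨v, hv, hvU⟩ := h.lt
    have h1 := h0 v hv
    rw [h.d_one_left, one_mul] at h1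
    exact hvU h1
  obtain ⟨F, hF, hFt, hcard, e, hT, hT', hT1, hT1'⟩ := h.exists_field hs₀ ht₀ h0
  -- `ε` on `C'`
  let ε : C' → F := fun v => e (cls U C' v)
  have hε : ∀ v, ε v = e (cls U C' v) := fun v => rfl
  have ε_mul : ∀ v w, ε (v * w) = ε v + ε w := fun v w => by rw [hε, hε, hε, cls_mul, map_add]
  have ε_congr : ∀ v w : C', (v : V) * w ∈ U → ε v = ε w := fun v w hvw => by
    rw [hε, hε, (cls_eq h.sq).2 hvw]
  have ε_zero : ∀ v : C', ε v = 0 ↔ (v : V) ∈ U := fun v => by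
    rw [hε, map_eq_zero_iff e e.injective, cls_eq_zero h.sq]
  have ε_surj : Function.Surjective ε := by
    intro c
    obtain ⟨v, hv⟩ := cls_surj U C' (e.symm c)
    exact ⟨v, by rw [hε, hv, e.apply_symm_apply]⟩
  -- the coordinates
  let x : V → F := fun v => ε ⟨d s₀ v, h.mem' s₀ hs₀ v⟩
  let y : V → F := fun v => ε ⟨d s₀ (d t₀ v), h.mem' s₀ hs₀ _⟩
  have hx : ∀ v, x v = ε ⟨d s₀ v, h.mem' s₀ hs₀ v⟩ := fun v => rfl
  have hy : ∀ v, y v = ε ⟨d s₀ (d t₀ v), h.mem' s₀ hs₀ _⟩ := fun v => rfl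
  have x_mul : ∀ v w, x (v * w) = x v + x w := by
    intro v w
    rw [hx, hx, hx, ← ε_mul]
    congr 1
    exact Subtype.ext (d_mul' s₀ v w)
  have y_mul : ∀ v w, y (v * w) = y v + y w := by
    intro v w
    rw [hy, hy, hy, ← ε_mul]
    congr 1
    apply Subtype.ext
    show d s₀ (d t₀ (v * w)) = d s₀ (d t₀ v) * d s₀ (d t₀ w)
    rw [d_mul', d_mul']
  have x_C' : ∀ b ∈ C', x b = 0 := by
    intro b hb
    rw [hx, ε_zero]
    show d s₀ b ∈ U
    rw [h.d_fix (h.fix' s₀ hs₀ b hb)]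
    exact one_mem _
  have y_C : ∀ a ∈ C, y a = 0 := by
    intro a ha
    rw [hy, ε_zero]
    show d s₀ (d t₀ a) ∈ U
    rw [h.d_fix (h.fix t₀ ht₀ a ha), d_one']
    exact one_mem _
  have y_C' : ∀ (b : V) (hb : b ∈ C'), y b = ε ⟨b, hb⟩ := fun b hb => ε_congr _ _ (h0 b hb)
  have x_C : ∀ a ∈ C, x a = 0 → a ∈ U := by
    intro a ha hxa
    rw [hx, ε_zero] at hxa
    exact (h.inj' s₀ hs₀ a ha hxa).resolve_left hs₁
  have y_C'0 : ∀ b ∈ C', y b = 0 → b ∈ U := by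
    intro b hb hyb
    rw [y_C' b hb, ε_zero] at hyb
    exact hyb
  have actT : ∀ t ∈ T, ∀ c : F, (∀ v : C', e (cls U C' ⟨d s₀ (d t (v : V)), h.kap_mem hs₀ t v⟩) =
      c * e (cls U C' v)) → ∀ v, (![x (t • v), y (t • v)] : Fin 2 → F) =
        (SLTwoUnipotent.u c).1.mulVec ![x v, y v] := by
    intro t ht c hc v
    have h1 : x (t • v) = x v + c * y v := by
      obtain ⟨a, ha, b, hb, rfl⟩ := h.sup v
      rw [h.smul_eq t, x_mul, add_comm, x_mul a b, y_mul a b, y_C a ha, zero_add, d_mul',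
        h.d_fix (h.fix t ht a ha), one_mul, y_C' b hb]
      congr 1
      exact hc ⟨b, hb⟩
    have h2 : y (t • v) = y v := by
      rw [h.smul_eq t, y_mul, y_C _ (h.mem t ht v), zero_add]
    rw [h1, h2, SLTwoUnipotent.coe_u]
    ext i
    fin_cases i
    · simp [Matrix.mulVec, dotProduct, Fin.sum_univ_two]
    · simp [Matrix.mulVec, dotProduct, Fin.sum_univ_two]
  have actT' : ∀ (s : L) (hs : s ∈ T') (c : F), (∀ v : C', e (cls U C' ⟨d s (d t₀ (v : V)), h.kap_mem hs t₀ v⟩) =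
      c * e (cls U C' v)) → ∀ v, (![x (s • v), y (s • v)] : Fin 2 → F) =
        (SLTwoUnipotent.l c).1.mulVec ![x v, y v] := by
    intro s hs c hc v
    have h1 : x (s • v) = x v := by
      rw [h.smul_eq s, x_mul, x_C' _ (h.mem' s hs v), zero_add]
    have h2 : y (s • v) = y v + c * x v := by
      obtain ⟨a, ha, b, hb, rfl⟩ := h.sup v
      rw [h.smul_eq s, y_mul, add_comm, x_mul a b, x_C' b hb, add_zero, d_mul',
        h.d_fix (h.fix' s hs b hb), mul_one, y_C' _ (h.mem' s hs a)]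
      congr 1
      rw [hx, hε, ← hc]
      apply ε_congr
      show d s a * d s (d t₀ (d s₀ a)) ∈ U
      refine h.d_congr' hs ?_
      rw [mul_comm]
      exact h0' a ha
    rw [h1, h2, SLTwoUnipotent.coe_l]
    ext i
    fin_cases i
    · simp [Matrix.mulVec, dotProduct, Fin.sum_univ_two]
    · simp [Matrix.mulVec, dotProduct, Fin.sum_univ_two, add_comm]
  refine ⟨F, hF, hFt, hcard, fun v => ![x v, y v], ?_, ?_, ?_, ?_, ?_, ?_, ?_, ?_, ?_⟩
  · intro v w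
    ext i
    fin_cases i
    · exact x_mul v w
    · exact y_mul v w
  · intro c
    obtain ⟨b, hb⟩ := ε_surj (c 0)
    obtain ⟨b', hb'⟩ := ε_surj (c 1)
    refine ⟨d t₀ (b : V) * b', ?_⟩
    ext i
    fin_cases i
    · show x (d t₀ (b : V) * b') = c 0
      rw [x_mul, x_C' _ b'.2, add_zero, ← hb, hx]
      exact ε_congr _ _ (h0 b b.2)
    · show y (d t₀ (b : V) * b') = c 1
      rw [y_mul, y_C _ (h.mem t₀ ht₀ _), zero_add, ← hb', y_C' _ b'.2]
  · intro v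
    constructor
    · intro h1
      have h2 : x v = 0 := congrFun h1 0
      have h3 : y v = 0 := congrFun h1 1
      obtain ⟨a, ha, b, hb, rfl⟩ := h.sup v
      rw [x_mul, x_C' b hb, add_zero] at h2
      rw [y_mul, y_C a ha, zero_add] at h3
      exact mul_mem (x_C a ha h2) (y_C'0 b hb h3)
    · intro hv
      ext i
      fin_cases i
      · exact x_C' v (h.U_le' hv)
      · exact y_C v (h.U_le hv)
  · intro v
    constructor
    · intro h3
      replace h3 : y v = 0 := h3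
      obtain ⟨a, ha, b, hb, rfl⟩ := h.sup v
      rw [y_mul, y_C a ha, zero_add] at h3
      exact mul_mem ha (h.U_le (y_C'0 b hb h3))
    · intro hv
      exact y_C v hv
  · intro v
    constructor
    · intro h2
      replace h2 : x v = 0 := h2
      obtain ⟨a, ha, b, hb, rfl⟩ := h.sup v
      rw [x_mul, x_C' b hb, add_zero] at h2
      exact mul_mem (h.U_le' (x_C a ha h2)) hb
    · intro hv
      exact x_C' v hv
  · intro t ht
    obtain ⟨c, hc⟩ := hT t ht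
    exact ⟨c, actT t ht c hc⟩
  · intro s hs
    obtain ⟨c, hc⟩ := hT' s hs
    exact ⟨c, actT' s hs c hc⟩
  · intro c
    obtain ⟨t, ht, hc⟩ := hT1 c
    exact ⟨t, ht, actT t ht c hc⟩
  · intro c
    obtain ⟨s, hs, hc⟩ := hT1' c
    exact ⟨s, hs, actT' s hs c hc⟩

end Spread

end Comm

section Hom

variable {L V F : Type*} [Group L] [Group V] [MulDistribMulAction L V] [Field F]

theorem mulVec_unique {π : V → (Fin 2 → F)} (hs : Function.Surjective π) {M N : Matrix (Fin 2) (Fin 2) F}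
    (hMN : ∀ v, M.mulVec (π v) = N.mulVec (π v)) : M = N := by
  have h1 : ∀ w : Fin 2 → F, M.mulVec w = N.mulVec w := by
    intro w
    obtain ⟨v, rfl⟩ := hs w
    exact hMN v
  exact Matrix.mulVec_injective (funext h1)

/-- the matrix representation of the subgroup generated by two subgroups -/
theorem exists_hom {T T' : Subgroup L} {π : V → (Fin 2 → F)} (hs : Function.Surjective π)
    (hT : ∀ x ∈ T, ∃ M : Matrix.SpecialLinearGroup (Fin 2) F, ∀ v, π (x • v) = M.1.mulVec (π v))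
    (hT' : ∀ x ∈ T', ∃ M : Matrix.SpecialLinearGroup (Fin 2) F, ∀ v, π (x • v) = M.1.mulVec (π v)) :
    ∃ φ : ↥(T ⊔ T') →* Matrix.SpecialLinearGroup (Fin 2) F,
      ∀ (x : ↥(T ⊔ T')) (v : V), π ((x : L) • v) = (φ x).1.mulVec (π v) := by
  let R : Subgroup L :=
    { carrier := {x | ∃ M : Matrix.SpecialLinearGroup (Fin 2) F, ∀ v, π (x • v) = M.1.mulVec (π v)}
      one_mem' := ⟨1, fun v => by rw [one_smul, Matrix.SpecialLinearGroup.coe_one, Matrix.one_mulVec]⟩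
      mul_mem' := by
        rintro x y ⟨M, hM⟩ ⟨N, hN⟩
        exact ⟨M * N, fun v => by
          rw [mul_smul, hM, hN, Matrix.SpecialLinearGroup.coe_mul, Matrix.mulVec_mulVec]⟩
      inv_mem' := by
        rintro x ⟨M, hM⟩
        refine ⟨M⁻¹, fun v => ?_⟩
        have h1 : π v = M.1.mulVec (π (x⁻¹ • v)) := by rw [← hM, smul_inv_smul]
        rw [h1, Matrix.mulVec_mulVec, ← Matrix.SpecialLinearGroup.coe_mul, inv_mul_cancel,
          Matrix.SpecialLinearGroup.coe_one, Matrix.one_mulVec] }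
  have hR : T ⊔ T' ≤ R := sup_le hT hT'
  choose M hM using fun x : ↥(T ⊔ T') => hR x.2
  refine ⟨MonoidHom.mk' M ?_, hM⟩
  intro x y
  apply Subtype.ext
  apply mulVec_unique hs
  intro v
  rw [← hM, Matrix.SpecialLinearGroup.coe_mul, ← Matrix.mulVec_mulVec, ← hM, ← hM, Subgroup.coe_mul, mul_smul]

end Hom

open Cfsg.Agent.LieClassical in
/-- **Two opposite quadratic groups generate `SL₂(F)`** (modulo the kernel of the action on `V/U`). -/
theorem Spread.exists_SL {L V : Type*} [Group L] [Group V] [MulDistribMulAction L V] {T T' : Subgroup L}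
    {U C C' : Subgroup V} (h : Spread T T' U C C') [Finite V] [Finite T] :
    ∃ (F : Type) (_ : Field F) (_ : Fintype F), Fintype.card F = Nat.card T ∧
      ∃ (π : V → (Fin 2 → F)) (φ : ↥(T ⊔ T') →* Matrix.SpecialLinearGroup (Fin 2) F),
      (∀ v w, π (v * w) = π v + π w) ∧ Function.Surjective π ∧ (∀ v, π v = 0 ↔ v ∈ U) ∧
      (∀ v, π v 1 = 0 ↔ v ∈ C) ∧ (∀ v, π v 0 = 0 ↔ v ∈ C') ∧
      (∀ (x : ↥(T ⊔ T')) (v : V), π ((x : L) • v) = (φ x).1.mulVec (π v)) ∧ Function.Surjective φ ∧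
      (∀ x : ↥(T ⊔ T'), (x : L) ∈ T → ∃ c : F, φ x = SLTwoUnipotent.u c) ∧
      (∀ x : ↥(T ⊔ T'), (x : L) ∈ T' → ∃ c : F, φ x = SLTwoUnipotent.l c) ∧
      (∀ c : F, ∃ x : ↥(T ⊔ T'), (x : L) ∈ T ∧ φ x = SLTwoUnipotent.u c) ∧
      (∀ c : F, ∃ x : ↥(T ⊔ T'), (x : L) ∈ T' ∧ φ x = SLTwoUnipotent.l c) := by
  letI : CommGroup V := { (inferInstance : Group V) with mul_comm := h.comm }
  obtain ⟨F, hF, hFt, hcard, π, hmul, hs, hU, hC, hC', hT, hT', hT1, hT1'⟩ := h.exists_natural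
  obtain ⟨φ, hφ⟩ := exists_hom (T := T) (T' := T') hs
    (fun x hx => (hT x hx).imp' SLTwoUnipotent.u fun c hc => hc)
    (fun x hx => (hT' x hx).imp' SLTwoUnipotent.l fun c hc => hc)
  have hu : ∀ (x : ↥(T ⊔ T')) (M : Matrix.SpecialLinearGroup (Fin 2) F),
      (∀ v, π ((x : L) • v) = M.1.mulVec (π v)) → φ x = M := by
    intro x M hM
    apply Subtype.ext
    apply mulVec_unique hs
    intro v
    rw [← hφ, hM]
  have hT2 : ∀ c : F, ∃ x : ↥(T ⊔ T'), (x : L) ∈ T ∧ φ x = SLTwoUnipotent.u c := by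
    intro c
    obtain ⟨t, ht, hc⟩ := hT1 c
    exact ⟨⟨t, mem_sup_left ht⟩, ht, hu _ _ hc⟩
  have hT2' : ∀ c : F, ∃ x : ↥(T ⊔ T'), (x : L) ∈ T' ∧ φ x = SLTwoUnipotent.l c := by
    intro c
    obtain ⟨t, ht, hc⟩ := hT1' c
    exact ⟨⟨t, mem_sup_right ht⟩, ht, hu _ _ hc⟩
  refine ⟨F, hF, hFt, hcard, π, φ, hmul, hs, hU, hC, hC', hφ, ?_, ?_, ?_, hT2, hT2'⟩
  · rw [← MonoidHom.range_eq_top]
    apply SLTwoUnipotent.eq_top_of_u_mem_of_l_mem
    · intro c
      obtain ⟨x, -, hx⟩ := hT2 c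
      exact ⟨x, hx⟩
    · intro c
      obtain ⟨x, -, hx⟩ := hT2' c
      exact ⟨x, hx⟩
  · intro x hx
    obtain ⟨c, hc⟩ := hT x hx
    exact ⟨c, hu _ _ hc⟩
  · intro x hx
    obtain ⟨c, hc⟩ := hT' x hx
    exact ⟨c, hu _ _ hc⟩

end Cfsg.Agent.ClassTwoFusion.SpreadSL
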