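import Mathlib
import Cfsg.Agent.ClassTwoFusion.SpreadSL

/-!
# Quadratic TI-subgroups acting on an elementary abelian 2-group: `L = SL₂(F)`, natural module

`L` acts faithfully on the elementary abelian 2-group `V` and is generated by the conjugates of `T`, which acts
quadratically, `U = C_V(T)`, `C = C_V(L)`, `|V : U| = |U : C| = |T|`, `U ∩ U^g = C` for `g ∉ N(T)`, and products of
two involutions of different conjugates of `T` have odd order.  Then `L = SL₂(F)`, `|F| = |T|`, and `V/C` is the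
natural module.
-/

set_option autoImplicit false
set_option linter.unusedSectionVars false
set_option linter.unusedVariables false
set_option linter.style.haveILetI false

namespace Cfsg.Agent.ClassTwoFusion.SL2Field

open Subgroup
open Cfsg.Agent.ClassTwoFusion.Quad
open Cfsg.Agent.ClassTwoFusion.SpreadSL

/-- The hypotheses. -/
structure Ctx {L V : Type*} [Group L] [Group V] [MulDistribMulAction L V] (T : Subgroup L) (U C : Subgroup V) :
    Prop where
  comm : ∀ v w : V, v * w = w * v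
  sq : ∀ v : V, v * v = 1
  faith : ∀ x : L, (∀ v : V, x • v = v) → x = 1
  hU : ∀ v, v ∈ U ↔ ∀ t ∈ T, t • v = v
  hC : ∀ v, v ∈ C ↔ ∀ x : L, x • v = v
  sqT : ∀ t ∈ T, t * t = 1
  quad : ∀ t ∈ T, ∀ v, (t • v) * v ∈ U
  reg : ∀ t ∈ T, t ≠ 1 → ∀ v, t • v = v → v ∈ U
  two_le : 2 ≤ Nat.card T
  hVU : U.index = Nat.card T
  hUC : C.relIndex U = Nat.card T
  gen : ∀ K : Subgroup L, (∀ g, ∀ t ∈ T, g * t * g⁻¹ ∈ K) → K = ⊤
  ti : ∀ g, g ∉ normalizer (T : Set L) → ∀ v ∈ U, g • v ∈ U → g • v ∈ C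
  odd : ∀ g, g ∉ normalizer (T : Set L) → ∀ t ∈ T, ∀ s ∈ T, t ≠ 1 → s ≠ 1 → Odd (orderOf (t * (g * s * g⁻¹)))

section Comm

variable {L V : Type*} [Group L] [Finite L] [CommGroup V] [Finite V] [MulDistribMulAction L V]

/-- `gU` -/
def tr (g : L) (U : Subgroup V) : Subgroup V := U.comap (MulDistribMulAction.toMonoidHom V g⁻¹)

theorem mem_tr {g : L} {U : Subgroup V} {v : V} : v ∈ tr g U ↔ g⁻¹ • v ∈ U := Iff.rfl

/-- `gTg⁻¹` -/
def cj (g : L) (T : Subgroup L) : Subgroup L := T.comap (MulAut.conj g⁻¹).toMonoidHom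

theorem mem_cj {g : L} {T : Subgroup L} {x : L} : x ∈ cj g T ↔ g⁻¹ * x * g ∈ T := by
  unfold cj
  rw [mem_comap]
  simp

theorem conj_mem_cj {g : L} {T : Subgroup L} {x : L} (hx : x ∈ T) : g * x * g⁻¹ ∈ cj g T := by
  rw [mem_cj]
  have : g⁻¹ * (g * x * g⁻¹) * g = x := by group
  rwa [this]

namespace Ctx

variable {T : Subgroup L} {U C : Subgroup V} (h : Ctx T U C)
include h

theorem C_le : C ≤ U := fun v hv => (h.hU v).2 fun t _ => (h.hC v).1 hv t

theorem smul_C {v : V} (hv : v ∈ C) (x : L) : x • v = v := (h.hC v).1 hv x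

theorem mem_U_of_normalizer {n : L} (hn : n ∈ normalizer (T : Set L)) {v : V} (hv : v ∈ U) : n • v ∈ U := by
  rw [h.hU]
  intro t ht
  have h1 : n⁻¹ * t * n ∈ T := (mem_normalizer_iff''.1 hn t).1 ht
  have h2 : t • n • v = n • ((n⁻¹ * t * n) • v) := by
    rw [← mul_smul, ← mul_smul]
    congr 1
    group
  rw [h2, (h.hU v).1 hv _ h1]

/-- strong form of `ti` -/
theorem ti' {g : L} {v : V} (hv : v ∈ U) (hgv : g • v ∈ U) (hvC : v ∉ C) : g ∈ normalizer (T : Set L) := by
  by_contra hg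
  apply hvC
  have h1 := h.ti g hg v hv hgv
  have h2 : v = g⁻¹ • g • v := (inv_smul_smul g v).symm
  rw [h2, h.smul_C h1]
  exact h1

/-- there is a second conjugate -/
theorem exists_g : ∃ g : L, g ∉ normalizer (T : Set L) := by
  by_contra hcon
  push Not at hcon
  have h1 : T = ⊤ := h.gen T (fun g t ht => (mem_normalizer_iff.1 (hcon g) t).1 ht)
  have h2 : U ≤ C := by
    intro v hv
    rw [h.hC]
    intro x
    exact (h.hU v).1 hv x (by rw [h1]; exact mem_top x)
  have h3 := h.hUC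
  rw [relIndex_eq_one.2 h2] at h3
  have := h.two_le
  omega

theorem exists_ne_one : ∃ t ∈ T, t ≠ 1 := by
  by_contra hcon
  push Not at hcon
  have h1 : T = ⊥ := by
    rw [eq_bot_iff]
    intro t ht
    exact mem_bot.2 (hcon t ht)
  have h2 := h.two_le
  rw [h1, Subgroup.card_bot] at h2
  omega

variable {g : L}

theorem fix' {s : L} (hs : s ∈ cj g T) {v : V} (hv : v ∈ tr g U) : s • v = v := by
  have h1 := (h.hU _).1 (mem_tr.1 hv) _ (mem_cj.1 hs)
  have h2 : (g⁻¹ * s * g) • g⁻¹ • v = g⁻¹ • s • v := by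
    rw [← mul_smul, ← mul_smul]
    congr 1
    group
  rw [h2, smul_left_cancel_iff] at h1
  exact h1

theorem quad' {s : L} (hs : s ∈ cj g T) (v : V) : d s v ∈ tr g U := by
  rw [mem_tr]
  have h1 := h.quad _ (mem_cj.1 hs) (g⁻¹ • v)
  have h2 : (g⁻¹ * s * g) • g⁻¹ • v = g⁻¹ • s • v := by
    rw [← mul_smul, ← mul_smul]
    congr 1
    group
  rw [h2, ← smul_mul'] at h1
  exact h1

theorem C_le' : C ≤ tr g U := by
  intro v hv
  rw [mem_tr, h.smul_C hv]
  exact h.C_le hv

theorem inv_not_mem (hg : g ∉ normalizer (T : Set L)) : g⁻¹ ∉ normalizer (T : Set L) := fun h1 =>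
  hg (by simpa using inv_mem h1)

theorem inf_eq (hg : g ∉ normalizer (T : Set L)) : U ⊓ tr g U = C := by
  apply le_antisymm
  · rintro v ⟨hv, hv'⟩
    by_contra hvC
    exact h.inv_not_mem hg (h.ti' hv (mem_tr.1 hv') hvC)
  · exact le_inf h.C_le h.C_le'

theorem index_tr : (tr g U).index = U.index := by
  unfold tr
  apply index_comap_of_surjective
  intro v
  exact ⟨g • v, inv_smul_smul g v⟩

theorem pos : 0 < Nat.card T := by have := h.two_le; omega

theorem relIndex_tr : C.relIndex (tr g U) = Nat.card T := by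
  have h1 := relIndex_mul_index (h.C_le' (g := g))
  have h2 := relIndex_mul_index h.C_le
  rw [← h2, h.index_tr, h.hUC] at h1
  refine Nat.eq_of_mul_eq_mul_right ?_ h1
  rw [h.hVU]
  exact h.pos

theorem sup_eq (hg : g ∉ normalizer (T : Set L)) : U ⊔ tr g U = ⊤ := by
  have h1 : (tr g U).relIndex (U ⊔ tr g U) * (U ⊔ tr g U).index = (tr g U).index :=
    relIndex_mul_index le_sup_right
  have h2 : (tr g U).relIndex U ≤ (tr g U).relIndex (U ⊔ tr g U) :=
    relIndex_le_of_le_right le_sup_left index_ne_zero_of_finite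
  have h3 : (tr g U).relIndex U = Nat.card T := by
    rw [← inf_relIndex_right, inf_comm, h.inf_eq hg, h.hUC]
  rw [h.index_tr, h.hVU] at h1
  rw [h3] at h2
  have hp := h.pos
  have hpos : (U ⊔ tr g U).index ≠ 0 := index_ne_zero_of_finite
  rw [← index_eq_one]
  by_contra hcon
  have h4 : 2 ≤ (U ⊔ tr g U).index := by omega
  have : Nat.card T * 2 ≤ (tr g U).relIndex (U ⊔ tr g U) * (U ⊔ tr g U).index := Nat.mul_le_mul h2 h4
  omega

theorem exists_mul (hg : g ∉ normalizer (T : Set L)) (v : V) : ∃ a ∈ U, ∃ b ∈ tr g U, a * b = v := by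
  have : v ∈ U ⊔ tr g U := by rw [h.sup_eq hg]; exact mem_top v
  exact mem_sup.1 this

/-- `(0)` -/
theorem eq_one_of_fix {s t : L} (hodd : Odd (orderOf (t * s))) {v c : V} (hs : s • v = v) (ht : t • v = c * v)
    (hc : c ∈ C) : c = 1 := by
  have h1 : ∀ n : ℕ, (t * s) ^ n • v = c ^ n * v := by
    intro n
    induction n with
    | zero => simp
    | succ n ih =>
      rw [pow_succ, mul_smul, mul_smul t s, hs, ht, smul_mul', h.smul_C hc, ih, ← mul_assoc, ← pow_succ']
  obtain ⟨k, hk⟩ := hodd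
  have h2 := h1 (orderOf (t * s))
  rw [pow_orderOf_eq_one, one_smul] at h2
  have h3 : c ^ orderOf (t * s) = 1 := mul_eq_right.1 h2.symm
  rw [hk, pow_succ, pow_mul, pow_two, h.sq, one_pow, one_mul] at h3
  exact h3

theorem odd' (hg : g ∉ normalizer (T : Set L)) {t s : L} (ht : t ∈ T) (hs : s ∈ cj g T) (ht1 : t ≠ 1)
    (hs1 : s ≠ 1) : Odd (orderOf (t * s)) := by
  have h1 := h.odd g hg t ht _ (mem_cj.1 hs) ht1 (by
    intro h2
    apply hs1
    have : s = g * (g⁻¹ * s * g) * g⁻¹ := by group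
    rw [this, h2]; group)
  have h2 : g * (g⁻¹ * s * g) * g⁻¹ = s := by group
  rwa [h2] at h1

theorem exists_ne_one' : ∃ s ∈ cj g T, s ≠ 1 := by
  obtain ⟨t, ht, ht1⟩ := h.exists_ne_one
  refine ⟨g * t * g⁻¹, conj_mem_cj ht, ?_⟩
  intro h1
  apply ht1
  have : t = g⁻¹ * (g * t * g⁻¹) * g := by group
  rw [this, h1]; group

theorem inj (hg : g ∉ normalizer (T : Set L)) {t : L} (ht : t ∈ T) {v : V} (hv : v ∈ tr g U)
    (hd : d t v ∈ C) : t = 1 ∨ v ∈ C := by
  by_cases ht1 : t = 1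
  · exact Or.inl ht1
  right
  obtain ⟨s, hs, hs1⟩ := h.exists_ne_one' (g := g)
  have h1 : d t v = 1 := by
    refine h.eq_one_of_fix (h.odd' hg ht hs ht1 hs1) (h.fix' hs hv) ?_ hd
    rw [d, mul_assoc, h.sq, mul_one]
  have h2 : t • v = v := by
    rw [d] at h1
    rw [eq_inv_of_mul_eq_one_left h1, inv_eq_of_mul_eq_one_left (h.sq v)]
  rw [← h.inf_eq hg]
  exact ⟨h.reg t ht ht1 v h2, hv⟩

theorem inj' (hg : g ∉ normalizer (T : Set L)) {s : L} (hs : s ∈ cj g T) {v : V} (hv : v ∈ U)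
    (hd : d s v ∈ C) : s = 1 ∨ v ∈ C := by
  have h1 := h.inj (h.inv_not_mem hg) (mem_cj.1 hs) (v := g⁻¹ • v) (by
    rw [mem_tr, inv_inv, smul_inv_smul]; exact hv) (by
    have h2 : d (g⁻¹ * s * g) (g⁻¹ • v) = g⁻¹ • d s v := by
      rw [d, d, smul_mul', ← mul_smul, ← mul_smul]
      congr 2
      group
    rw [h2, h.smul_C hd]
    exact hd)
  rcases h1 with h1 | h1
  · left
    have : s = g * (g⁻¹ * s * g) * g⁻¹ := by group
    rw [this, h1]; group
  · right
    have h2 := h.smul_C h1 g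
    rw [smul_inv_smul] at h2
    rw [h2]
    exact h1

theorem d_left {t t' : L} (ht : t ∈ T) (ht' : t' ∈ T) (v : V) : d (t * t') v = d t v * d t' v := by
  have h0 : ∀ (x : L) (w : V), x • w = d x w * w := fun x w => by rw [d, mul_assoc, h.sq, mul_one]
  have e : t • d t' v = d t' v := (h.hU _).1 (h.quad t' ht' v) t ht
  have h1 : t • (t' • v) = d t v * d t' v * v := by
    rw [h0 t' v, smul_mul', e, h0 t v]
    rw [← mul_assoc, mul_comm (d t' v)]
  rw [d, mul_smul, h1, mul_assoc, h.sq, mul_one]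

/-- surjectivity -/
theorem surj (hg : g ∉ normalizer (T : Set L)) {b : V} (hb : b ∈ tr g U) (hbC : b ∉ C) {a : V} (ha : a ∈ U) :
    ∃ t ∈ T, d t b * a ∈ C := by
  let F : ↥T → U ⧸ (C.subgroupOf U) := fun t => QuotientGroup.mk (⟨d (t : L) b, h.quad t t.2 b⟩ : U)
  have hfun : Function.Injective F := by
    intro t t' htt
    have h1 := QuotientGroup.eq.1 htt
    rw [mem_subgroupOf] at h1
    have h2 : d ((t : L) * t') b ∈ C := by
      rw [h.d_left t.2 t'.2]
      have e : (((⟨d (t : L) b, h.quad t t.2 b⟩ : U)⁻¹ * ⟨d (t' : L) b, h.quad t' t'.2 b⟩ : U) : V) =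
          d (t : L) b * d (t' : L) b := by
        rw [Subgroup.coe_mul, Subgroup.coe_inv, inv_eq_of_mul_eq_one_left (h.sq _)]
      rwa [e] at h1
    have h3 := (h.inj hg (mul_mem t.2 t'.2) hb h2).resolve_right hbC
    apply Subtype.ext
    exact mul_left_cancel ((h.sqT t t.2).trans h3.symm)
  have hcard : Nat.card T = Nat.card (U ⧸ (C.subgroupOf U)) := h.hUC.symm
  have hbij : Function.Bijective F := (Nat.bijective_iff_injective_and_card F).2 ⟨hfun, hcard⟩
  obtain ⟨t, ht⟩ := hbij.2 (QuotientGroup.mk (⟨a, ha⟩ : U))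
  refine ⟨t, t.2, ?_⟩
  have h1 := QuotientGroup.eq.1 ht
  rw [mem_subgroupOf] at h1
  have e : (((⟨d (t : L) b, h.quad t t.2 b⟩ : U)⁻¹ * ⟨a, ha⟩ : U) : V) = d (t : L) b * a := by
    rw [Subgroup.coe_mul, Subgroup.coe_inv, inv_eq_of_mul_eq_one_left (h.sq _)]
  rwa [e] at h1

/-- the second form of the surjectivity -/
theorem surj' (hg : g ∉ normalizer (T : Set L)) {a : V} (ha : a ∈ U) (haC : a ∉ C) {b : V} (hb : b ∈ tr g U) :
    ∃ s ∈ cj g T, d s a * b ∈ C := by
  obtain ⟨t, ht, h1⟩ := h.surj (h.inv_not_mem hg) (b := g⁻¹ • a) (by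
    rw [mem_tr, inv_inv, smul_inv_smul]; exact ha) (by
    intro h2
    apply haC
    have h3 := h.smul_C h2 g
    rw [smul_inv_smul] at h3
    rw [h3]
    exact h2) (a := g⁻¹ • b) (mem_tr.1 hb)
  refine ⟨g * t * g⁻¹, conj_mem_cj ht, ?_⟩
  have h2 : g • (d t (g⁻¹ • a) * g⁻¹ • b) = d (g * t * g⁻¹) a * b := by
    rw [smul_mul', smul_inv_smul, d, d, smul_mul', smul_inv_smul, ← mul_smul, ← mul_smul]
  rw [← h2, h.smul_C h1]
  exact h1

/-- `τ_t` is inverse to some `σ_s` -/
theorem exists_inv (hg : g ∉ normalizer (T : Set L)) {t : L} (ht : t ∈ T) (ht1 : t ≠ 1) :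
    ∃ s ∈ cj g T, ∀ v ∈ tr g U, d s (d t v) * v ∈ C := by
  have h0 : ∀ (x : L) (w : V), x • w = d x w * w := fun x w => by rw [d, mul_assoc, h.sq, mul_one]
  -- a vector of `U'` outside `C`
  obtain ⟨v, hv, hvC⟩ : ∃ v ∈ tr g U, v ∉ C := by
    by_contra hcon
    push Not at hcon
    have h1 := h.relIndex_tr (g := g)
    rw [relIndex_eq_one.2 hcon] at h1
    have := h.two_le
    omega
  have ha : d t v ∈ U := h.quad t ht v
  have haC : d t v ∉ C := fun h1 => ((h.inj hg ht hv h1).resolve_left ht1 |> hvC)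
  obtain ⟨s, hs, hsv⟩ := h.surj' hg ha haC hv
  -- `s t U' = U`
  have h1 : (s * t) • v ∈ U := by
    rw [mul_smul, h0 t v, smul_mul', h.fix' hs hv, h0 s, mul_assoc, mul_comm (d t v), ← mul_assoc]
    exact mul_mem (h.C_le hsv) ha
  have h2 : s * t * g ∈ normalizer (T : Set L) := by
    refine h.ti' (v := g⁻¹ • v) (mem_tr.1 hv) ?_ ?_
    · rw [mul_smul, smul_inv_smul]; exact h1
    · intro h3
      apply hvC
      have h4 := h.smul_C h3 g
      rw [smul_inv_smul] at h4
      rw [h4]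
      exact h3
  refine ⟨s, hs, fun w hw => ?_⟩
  have h3 : (s * t) • w ∈ U := by
    have h4 := h.mem_U_of_normalizer h2 (mem_tr.1 hw)
    rwa [mul_smul, smul_inv_smul] at h4
  rw [mul_smul, h0 t w, smul_mul', h.fix' hs hw, h0 s, mul_assoc, mul_comm (d t w), ← mul_assoc] at h3
  rw [← h.inf_eq hg]
  refine mem_inf.2 ⟨?_, mul_mem (h.quad' hs _) hw⟩
  exact (Subgroup.mul_mem_cancel_right U (h.quad t ht w)).1 h3

/-- `τ_t` and `σ_s` are inverse on both sides -/
theorem exists_inv' (hg : g ∉ normalizer (T : Set L)) {s : L} (hs : s ∈ cj g T) (hs1 : s ≠ 1) :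
    ∃ t ∈ T, ∀ v ∈ tr g U, d s (d t v) * v ∈ C := by
  obtain ⟨x, hx, h1⟩ := h.exists_inv (h.inv_not_mem hg) (mem_cj.1 hs) (by
    intro h2
    apply hs1
    have : s = g * (g⁻¹ * s * g) * g⁻¹ := by group
    rw [this, h2]; group)
  rw [mem_cj, inv_inv] at hx
  refine ⟨g * x * g⁻¹, hx, ?_⟩
  set t := g * x * g⁻¹ with ht
  -- `d t (d s a) * a ∈ C` for `a ∈ U`
  have h2 : ∀ a ∈ U, d t (d s a) * a ∈ C := by
    intro a ha
    have h3 := h1 (g⁻¹ • a) (by rw [mem_tr, inv_inv, smul_inv_smul]; exact ha)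
    have e1 : d (g⁻¹ * s * g) (g⁻¹ • a) = g⁻¹ • d s a := by
      rw [d, d, smul_mul', ← mul_smul, ← mul_smul]
      congr 2
      group
    have e2 : ∀ w : V, d x (g⁻¹ • w) = g⁻¹ • d t w := by
      intro w
      rw [d, d, smul_mul', ht, ← mul_smul, ← mul_smul]
      congr 2
      group
    rw [e1, e2, ← smul_mul'] at h3
    have h4 := h.smul_C h3 g
    rw [smul_inv_smul] at h4
    rw [h4]
    exact h3
  have ht1 : t ≠ 1 := by
    intro e
    have h3 : U ≤ C := by
      intro a ha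
      have h4 := h2 a ha
      rw [e] at h4
      have h5 : d (1 : L) (d s a) = 1 := by rw [d, one_smul, h.sq]
      rwa [h5, one_mul] at h4
    have h4 := h.hUC
    rw [relIndex_eq_one.2 h3] at h4
    have := h.two_le
    omega
  intro v hv
  have h3 := h2 (d t v) (h.quad t hx v)
  have h4 : d t (d s (d t v) * v) ∈ C := by
    have e : d t (d s (d t v) * v) = d t (d s (d t v)) * d t v := d_mul' t _ _
    rw [e]
    exact h3
  exact (h.inj hg hx (mul_mem (h.quad' hs _) hv) h4).resolve_left ht1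

theorem spread (hg : g ∉ normalizer (T : Set L)) : Spread T (cj g T) C U (tr g U) where
  comm := h.comm
  sq := h.sq
  inf := h.inf_eq hg
  sup := h.exists_mul hg
  fix := fun t ht v hv => (h.hU v).1 hv t ht
  fix' := fun s hs v hv => h.fix' hs hv
  mem := fun t ht v => h.quad t ht v
  mem' := fun s hs v => h.quad' hs v
  card := h.relIndex_tr.symm
  inj := fun t ht v hv hd => h.inj hg ht hv hd
  inj' := fun s hs v hv hd => h.inj' hg hs hv hd
  inv := fun t ht ht1 => h.exists_inv hg ht ht1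
  inv' := fun s hs hs1 => h.exists_inv' hg hs hs1
  ne := h.exists_ne_one
  lt := by
    by_contra hcon
    push Not at hcon
    have h1 := h.relIndex_tr (g := g)
    rw [relIndex_eq_one.2 hcon] at h1
    have := h.two_le
    omega

/-- `L = ⟨T, T'⟩` -/
theorem sup_cj (hg : g ∉ normalizer (T : Set L)) : T ⊔ cj g T = ⊤ := by
  apply h.gen
  intro k t ht
  by_cases hk : k ∈ normalizer (T : Set L)
  · exact mem_sup_left ((mem_normalizer_iff.1 hk t).1 ht)
  -- a vector of `kU` outside `C`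
  obtain ⟨v, hv, hvC⟩ : ∃ v ∈ tr k U, v ∉ C := by
    by_contra hcon
    push Not at hcon
    have h1 := h.relIndex_tr (g := k)
    rw [relIndex_eq_one.2 hcon] at h1
    have := h.two_le
    omega
  obtain ⟨a, ha, b, hb, rfl⟩ := h.exists_mul hg v
  by_cases hbC : b ∈ C
  · exfalso
    apply hk
    have h1 : a * b ∈ U := mul_mem ha (h.C_le hbC)
    have h2 := h.ti' (g := k⁻¹) h1 (mem_tr.1 hv) hvC
    simpa using inv_mem h2
  · obtain ⟨x, hx, hxb⟩ := h.surj hg hb hbC ha
    -- `a b ∈ x g U`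
    have h1 : (x * g)⁻¹ • (a * b) ∈ U := by
      have h0 : x • b = d x b * b := by rw [d, mul_assoc, h.sq, mul_one]
      have e1 : a * b = (d x b * a) * (x • b) := by
        rw [h0]
        have : d x b * a * (d x b * b) = (d x b * d x b) * (a * b) := by
          rw [mul_mul_mul_comm]
        rw [this, h.sq, one_mul]
      rw [e1, smul_mul', h.smul_C hxb, mul_inv_rev, mul_smul, inv_smul_smul]
      exact mul_mem (h.C_le hxb) (mem_tr.1 hb)
    have h2 : (x * g)⁻¹ * k ∈ normalizer (T : Set L) := by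
      refine h.ti' (v := k⁻¹ • (a * b)) (mem_tr.1 hv) ?_ ?_
      · rw [mul_smul, smul_inv_smul]; exact h1
      · intro h3
        apply hvC
        have h4 := h.smul_C h3 k
        rw [smul_inv_smul] at h4
        rw [h4]
        exact h3
    have h3 := (mem_normalizer_iff.1 h2 t).1 ht
    have h4 : k * t * k⁻¹ = x * (g * ((x * g)⁻¹ * k * t * ((x * g)⁻¹ * k)⁻¹) * g⁻¹) * x⁻¹ := by group
    rw [h4]
    exact mul_mem (mul_mem (mem_sup_left hx) (mem_sup_right (conj_mem_cj h3))) (inv_mem (mem_sup_left hx))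

/-- only the identity acts trivially on `V/C` -/
theorem eq_one_of_d_mem {x : L} (hx : ∀ v : V, d x v ∈ C) : x = 1 := by
  have h0 : ∀ (x : L) (w : V), x • w = d x w * w := fun x w => by rw [d, mul_assoc, h.sq, mul_one]
  -- the normal 2-group of all such `x`
  have hxx : ∀ y : L, (∀ v : V, d y v ∈ C) → y * y = 1 := by
    intro y hy
    apply h.faith
    intro v
    rw [mul_smul, h0 y v, smul_mul', h.smul_C (hy v), h0 y v, ← mul_assoc, h.sq, one_mul]
  have hmul : ∀ y z : L, (∀ v : V, d y v ∈ C) → (∀ v : V, d z v ∈ C) → ∀ v : V, d (y * z) v ∈ C := by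
    intro y z hy hz v
    have : d (y * z) v = d y v * d z v := by
      rw [d, mul_smul, h0 z v, smul_mul', h.smul_C (hz v), h0 y v, mul_assoc, mul_assoc, h.sq, mul_one,
        mul_comm]
    rw [this]
    exact mul_mem (hy v) (hz v)
  have hconj : ∀ y k : L, (∀ v : V, d y v ∈ C) → ∀ v : V, d (k * y * k⁻¹) v ∈ C := by
    intro y k hy v
    have e : d (k * y * k⁻¹) v = k • d y (k⁻¹ • v) := by
      rw [d, d, smul_mul', smul_inv_smul, ← mul_smul, ← mul_smul]
    rw [e, h.smul_C (hy _)]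
    exact hy _
  -- `K ∩ T = 1`
  have hKT : ∀ y ∈ T, (∀ v : V, d y v ∈ C) → y = 1 := by
    intro y hyT hy
    obtain ⟨g, hg⟩ := h.exists_g
    obtain ⟨v, hv, hvC⟩ := (h.spread hg).lt
    exact (h.inj hg hyT hv (hy v)).resolve_right hvC
  have hinv : ∀ y : L, (∀ v : V, d y v ∈ C) → y⁻¹ = y := fun y hy => inv_eq_of_mul_eq_one_left (hxx y hy)
  -- `K` centralises `T`
  have hcomm : ∀ k : L, (∀ v : V, d k v ∈ C) → ∀ t ∈ T, k * t * k⁻¹ = t := by
    intro k hk
    have hkN : k ∈ normalizer (T : Set L) := by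
      by_contra hkN
      have h1 : ∀ t ∈ T, k * t * k⁻¹ = t := by
        intro t ht
        by_cases ht1 : t = 1
        · rw [ht1]; group
        have hodd := h.odd k hkN t ht t ht ht1 ht1
        have h2 : ∀ v : V, d (t * (k * t * k⁻¹)) v ∈ C := by
          have e : t * (k * t * k⁻¹) = (t * k * t⁻¹) * k⁻¹ := by
            rw [inv_eq_of_mul_eq_one_left (h.sqT t ht)]
            group
          rw [e, hinv k hk]
          exact hmul _ _ (hconj k t hk) hk
        have h3 := hxx _ h2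
        have h4 : t * (k * t * k⁻¹) = 1 := by
          have h5 : orderOf (t * (k * t * k⁻¹)) ∣ 2 := orderOf_dvd_of_pow_eq_one (by rw [pow_two, h3])
          rcases (Nat.dvd_prime Nat.prime_two).1 h5 with h6 | h6
          · exact orderOf_eq_one_iff.1 h6
          · rw [h6] at hodd
            exact absurd hodd (by decide)
        rw [← inv_eq_of_mul_eq_one_right h4, inv_eq_of_mul_eq_one_left (h.sqT t ht)]
      apply hkN
      rw [mem_normalizer_iff]
      intro t
      constructor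
      · intro ht
        rw [h1 t ht]; exact ht
      · intro ht
        have h2 := h1 _ ht
        have h3 : t = k * t * k⁻¹ := by
          have h4 : k * (k * t * k⁻¹) * k⁻¹ = k * t * k⁻¹ := h2
          have h5 : k * t * k⁻¹ = t := by
            have := congrArg (fun z => k⁻¹ * z * k) h4
            simpa [mul_assoc] using this
          exact h5.symm
        rw [h3]; exact ht
    intro t ht
    have h1 : k * t * k⁻¹ ∈ T := (mem_normalizer_iff.1 hkN t).1 ht
    have h2 : t * (k * t * k⁻¹) = 1 := by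
      apply hKT _ (mul_mem ht h1)
      have e : t * (k * t * k⁻¹) = (t * k * t⁻¹) * k⁻¹ := by
        rw [inv_eq_of_mul_eq_one_left (h.sqT t ht)]
        group
      rw [e, hinv k hk]
      exact hmul _ _ (hconj k t hk) hk
    rw [← inv_eq_of_mul_eq_one_right h2, inv_eq_of_mul_eq_one_left (h.sqT t ht)]
  -- `x` is central
  have hcen : ∀ k : L, k * x * k⁻¹ = x := by
    have h1 : (centralizer {x} : Subgroup L) = ⊤ := by
      apply h.gen
      intro k t ht
      rw [mem_centralizer_singleton_iff]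
      have h2 := hcomm (k⁻¹ * x * k) (by simpa using hconj x k⁻¹ hx) t ht
      have h3 : k⁻¹ * x * k * t = t * (k⁻¹ * x * k) := mul_inv_eq_iff_eq_mul.1 h2
      calc k * t * k⁻¹ * x = k * (t * (k⁻¹ * x * k)) * k⁻¹ := by group
        _ = k * (k⁻¹ * x * k * t) * k⁻¹ := by rw [h3]
        _ = x * (k * t * k⁻¹) := by group
    intro k
    have h2 : k ∈ (centralizer {x} : Subgroup L) := by rw [h1]; exact mem_top k
    rw [mem_centralizer_singleton_iff] at h2
    rw [h2, mul_inv_cancel_right]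
  obtain ⟨g, hg⟩ := h.exists_g
  have hxU : ∀ a ∈ U, x • a = a := by
    intro a ha
    obtain ⟨v, hv, hvC⟩ := (h.spread hg).lt
    obtain ⟨t, ht, hta⟩ := h.surj hg hv hvC ha
    have h1 : x • d t v = d t v := by
      have h2 := hcen t
      have h3 : x * t = t * x := by
        have := congrArg (fun z => z * t) h2
        simpa [mul_assoc] using this.symm
      have h4 : x • d t v = d t (x • v) := by
        rw [d, d, smul_mul', ← mul_smul, ← mul_smul, h3]
      have h5 : d t (x • v) = d t (d x v) * d t v := by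
        rw [h0 x v]; exact d_mul' t _ _
      have h6 : d t (d x v) = 1 := by rw [d, h.smul_C (hx v), h.sq]
      rw [h4, h5, h6, one_mul]
    have h2 : a = d t v * (d t v * a) := by rw [← mul_assoc, h.sq, one_mul]
    rw [h2, smul_mul', h1, h.smul_C hta]
  apply h.faith
  intro v
  obtain ⟨a, ha, b, hb, rfl⟩ := h.exists_mul hg v
  rw [smul_mul', hxU a ha]
  congr 1
  have h1 := hxU _ (mem_tr.1 hb)
  have h2 : x * g = g * x := by
    have := congrArg (fun z => z * g) (hcen g)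
    simpa [mul_assoc] using this.symm
  have h3 : b = g • g⁻¹ • b := (smul_inv_smul g b).symm
  rw [h3, ← mul_smul, h2, mul_smul, h1]

end Ctx

end Comm

/-- **The field theorem** (without the covering hypothesis). -/
theorem exists_field' {L V : Type*} [Group L] [Finite L] [Group V] [Finite V] [MulDistribMulAction L V]
    (T : Subgroup L) (U C : Subgroup V)
    (comm : ∀ v w : V, v * w = w * v) (sq : ∀ v : V, v * v = 1)
    (faith : ∀ x : L, (∀ v : V, x • v = v) → x = 1)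
    (hU : ∀ v, v ∈ U ↔ ∀ t ∈ T, t • v = v) (hC : ∀ v, v ∈ C ↔ ∀ x : L, x • v = v)
    (sqT : ∀ t ∈ T, t * t = 1) (quad : ∀ t ∈ T, ∀ v, (t • v) * v ∈ U)
    (reg : ∀ t ∈ T, t ≠ 1 → ∀ v, t • v = v → v ∈ U)
    (two_le : 2 ≤ Nat.card T) (hVU : U.index = Nat.card T) (hUC : C.relIndex U = Nat.card T)
    (gen : ∀ K : Subgroup L, (∀ g, ∀ t ∈ T, g * t * g⁻¹ ∈ K) → K = ⊤)
    (ti : ∀ g, g ∉ normalizer (T : Set L) → ∀ v ∈ U, g • v ∈ U → g • v ∈ C)
    (odd : ∀ g, g ∉ normalizer (T : Set L) → ∀ t ∈ T, ∀ s ∈ T, t ≠ 1 → s ≠ 1 →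
      Odd (orderOf (t * (g * s * g⁻¹)))) :
    ∃ (F : Type) (_ : Field F) (_ : Fintype F) (_ : CharP F 2) (φ : L ≃* Matrix.SpecialLinearGroup (Fin 2) F)
      (e : V → (Fin 2 → F)), Nat.card F = Nat.card T ∧ (∀ v w, e (v * w) = e v + e w) ∧
      Function.Surjective e ∧ (∀ v, e v = 0 ↔ v ∈ C) ∧ (∀ x v, e (x • v) = (φ x).1.mulVec (e v)) ∧
      (∀ v, v ∈ U ↔ e v 1 = 0) ∧ (∀ x, x ∈ T ↔ ∃ a : F, (φ x).1 = !![1, a; 0, 1]) := by
  let _ : CommGroup V := { (inferInstance : Group V) with mul_comm := comm }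
  have h : Ctx T U C := ⟨comm, sq, faith, hU, hC, sqT, quad, reg, two_le, hVU, hUC, gen, ti, odd⟩
  obtain ⟨g, hg⟩ := h.exists_g
  obtain ⟨F, hF, hFt, hcard, e, φ, hmul, hs, he, heU, -, hφ, hφs, hT, -, hT1, -⟩ := (h.spread hg).exists_SL
  have htop := h.sup_cj hg
  -- `φ` on `L`
  let ι : L ≃* ↥(T ⊔ cj g T) := (Subgroup.topEquiv (G := L)).symm.trans (MulEquiv.subgroupCongr htop.symm)
  have hι : ∀ x : L, ((ι x : ↥(T ⊔ cj g T)) : L) = x := fun x => rfl
  have hinj : Function.Injective φ := by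
    rw [injective_iff_map_eq_one]
    intro x hx
    apply Subtype.ext
    apply h.eq_one_of_d_mem
    intro v
    rw [← he]
    have h1 : e (d (x : L) v) = e ((x : L) • v) + e v := hmul _ _
    rw [h1, hφ, hx, Matrix.SpecialLinearGroup.coe_one, Matrix.one_mulVec, ← hmul, he, sq]
    exact one_mem _
  let ψ : L ≃* Matrix.SpecialLinearGroup (Fin 2) F := ι.trans (MulEquiv.ofBijective φ ⟨hinj, hφs⟩)
  have hψ : ∀ x : L, ψ x = φ (ι x) := fun x => rfl
  have h2 : CharP F 2 := by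
    have h3 : (1 : F) + 1 = 0 := by
      obtain ⟨v, hv⟩ := hs ![1, 1]
      have h4 := hmul v v
      rw [sq, hv, (he 1).2 (one_mem _)] at h4
      have h5 := congrFun h4 0
      simpa using h5.symm
    exact CharTwo.of_one_ne_zero_of_two_eq_zero one_ne_zero (by rw [← one_add_one_eq_two]; exact h3)
  refine ⟨F, hF, hFt, h2, ψ, e, ?_, hmul, hs, he, ?_, fun v => (heU v).symm, ?_⟩
  · rw [Nat.card_eq_fintype_card, hcard]
  · intro x v
    rw [hψ, ← hφ, hι]
  · intro x
    constructor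
    · intro hx
      obtain ⟨c, hc⟩ := hT (ι x) hx
      exact ⟨c, by rw [hψ, hc]; rfl⟩
    · rintro ⟨a, ha⟩
      obtain ⟨y, hyT, hy⟩ := hT1 a
      have h3 : φ (ι x) = φ y := by
        apply Subtype.ext
        rw [← hψ, ha, hy]
        rfl
      have h4 := hinj h3
      have h5 : x = (y : L) := by rw [← hι x, h4]
      rw [h5]
      exact hyT

/-- **The field theorem.** -/
theorem exists_field {L V : Type*} [Group L] [Finite L] [Group V] [Finite V] [MulDistribMulAction L V]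
    (T : Subgroup L) (U C : Subgroup V)
    (comm : ∀ v w : V, v * w = w * v) (sq : ∀ v : V, v * v = 1)
    (faith : ∀ x : L, (∀ v : V, x • v = v) → x = 1)
    (hU : ∀ v, v ∈ U ↔ ∀ t ∈ T, t • v = v) (hC : ∀ v, v ∈ C ↔ ∀ x : L, x • v = v)
    (sqT : ∀ t ∈ T, t * t = 1) (quad : ∀ t ∈ T, ∀ v, (t • v) * v ∈ U)
    (reg : ∀ t ∈ T, t ≠ 1 → ∀ v, t • v = v → v ∈ U)
    (two_le : 2 ≤ Nat.card T) (hVU : U.index = Nat.card T) (hUC : C.relIndex U = Nat.card T)
    (gen : ∀ K : Subgroup L, (∀ g, ∀ t ∈ T, g * t * g⁻¹ ∈ K) → K = ⊤)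
    (ti : ∀ g, g ∉ normalizer (T : Set L) → ∀ v ∈ U, g • v ∈ U → g • v ∈ C)
    (odd : ∀ g, g ∉ normalizer (T : Set L) → ∀ t ∈ T, ∀ s ∈ T, t ≠ 1 → s ≠ 1 →
      Odd (orderOf (t * (g * s * g⁻¹))))
    (cov : ∀ v : V, ∃ g : L, g • v ∈ U) :
    ∃ (F : Type) (_ : Field F) (_ : Fintype F) (_ : CharP F 2) (φ : L ≃* Matrix.SpecialLinearGroup (Fin 2) F)
      (e : V → (Fin 2 → F)), Nat.card F = Nat.card T ∧ (∀ v w, e (v * w) = e v + e w) ∧
      Function.Surjective e ∧ (∀ v, e v = 0 ↔ v ∈ C) ∧ (∀ x v, e (x • v) = (φ x).1.mulVec (e v)) ∧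
      (∀ v, v ∈ U ↔ e v 1 = 0) ∧ (∀ x, x ∈ T ↔ ∃ a : F, (φ x).1 = !![1, a; 0, 1]) :=
  exists_field' T U C comm sq faith hU hC sqT quad reg two_le hVU hUC gen ti odd

end Cfsg.Agent.ClassTwoFusion.SL2Field
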