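import Mathlib
import Cfsg.Agent.ClassTwoFusion.RelFus
import Cfsg.Agent.ClassTwoFusion.OneEdge
import Cfsg.Agent.ClassTwoFusion.SL2Field

/-!
# One edge: the data `FullEdge`

A minimal strongly closed subgroup `P` of class two with one edge `(E, F)`, `P = W_E W_F`, satisfies `FullEdge`.
-/

set_option autoImplicit false

namespace Cfsg.Agent.ClassTwoFusion.RelFull

open Subgroup Cfsg.Agent.ClassTwoFusion.Gen Cfsg.Agent.ClassTwoFusion.RelAlperin
open Cfsg.Agent.TwoFusion.ClosedFam Cfsg.Agent.ClassTwoFusion.RelSyl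
open Cfsg.Agent.ClassTwoFusion.Local (ncl le_ncl conj_mem_ncl ncl_le ncl_le_of_le oddGen oddGen_le mem_oddGen
  conj_mem_oddGen actTriv conj_mem_actTriv Cl2 Zc Om mem_Zc mem_Om Om_le_Zc Zc_le VF VV XX BB
  mem_normalizer_of_conj UE pow_mod WW CE)
open Cfsg.Agent.ClassTwoFusion.Quad (cv mem_cv mem_cv_singleton cv_anti d)
open Cfsg.Agent.ClassTwoFusion.RelQuad
open Cfsg.Agent.ClassTwoFusion.RelLocal Cfsg.Agent.ClassTwoFusion.RelFus Cfsg.Agent.ClassTwoFusion.OneEdge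
open scoped Pointwise

/-! ### The field theorem for `ND` -/

section Field

variable {L V : Type*} [Group L] [Group V] [MulDistribMulAction L V] {𝒟 : Set L} [h𝒟 : Fact (IsClosedFam 𝒟)]
  [Finite L] [Finite V]

/-- `OX` acts on `V/U` as `SL(2,F)` -/
theorem exists_field_ND (h : ND 𝒟 V) (T : Syl 𝒟) :
    ∃ (F : Type) (_ : Field F) (_ : Fintype F) (_ : CharP F 2)
      (_ : ↥(OX 𝒟) ≃* Matrix.SpecialLinearGroup (Fin 2) F), Nat.card F = Nat.card (T : Subgroup L) := by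
  have hT : (T : Subgroup L) ≤ OX 𝒟 := syl_le_OX T
  have hcard : Nat.card ((T : Subgroup L).subgroupOf (OX 𝒟)) = Nat.card (T : Subgroup L) :=
    Nat.card_congr (subgroupOfEquivOfLe hT).toEquiv
  have hTm : ∀ x : ↥(OX 𝒟), x ∈ (T : Subgroup L).subgroupOf (OX 𝒟) ↔ (x : L) ∈ (T : Subgroup L) :=
    fun x => mem_subgroupOf
  have hnorm : ∀ g : ↥(OX 𝒟), g ∉ normalizer (((T : Subgroup L).subgroupOf (OX 𝒟) : Subgroup ↥(OX 𝒟)) : Set ↥(OX 𝒟)) →
      T ≠ (g : L) • T := by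
    intro g hg e
    apply hg
    have h1 := smul_eq_iff_mem_normalizer.1 e.symm
    rw [mem_normalizer_iff] at h1 ⊢
    intro x
    rw [hTm, hTm]
    exact h1 x
  obtain ⟨F, i1, i2, i3, φ, e, hF, -⟩ := SL2Field.exists_field' (L := ↥(OX 𝒟)) (V := V)
    ((T : Subgroup L).subgroupOf (OX 𝒟)) (cv V ((T : Subgroup L) : Set L)) (UU 𝒟 V) h.comm h.sq
    (fun x hx => Subtype.ext (h.faith x hx))
    (fun v => ⟨fun hv t ht => hv _ ((hTm t).1 ht), fun hv a ha => hv ⟨a, hT ha⟩ ((hTm ⟨a, hT ha⟩).2 ha)⟩)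
    (fun v => ⟨fun hv x => hv _ x.2, fun hv a ha => hv ⟨a, ha⟩⟩)
    (fun t ht => Subtype.ext (h.q.mul_self T.ds ((hTm t).1 ht)))
    (fun t ht v => h.q.d_mem_cv T.ds ((hTm t).1 ht) v)
    (fun t ht ht1 v hv => by
      rw [← h.cv_eq T _ ((hTm t).1 ht) (fun e => ht1 (Subtype.ext e)), mem_cv_singleton]
      exact hv)
    (by rw [hcard]; exact h.two_le T)
    (by rw [hcard]; exact h.index_cv T)
    (by
      rw [hcard]
      obtain ⟨T', hne⟩ := h.exists_ne' T
      rw [h.UU_eq hne]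
      exact h.relIndex_inf hne)
    (by
      intro K hK
      obtain ⟨T', hne⟩ := h.exists_ne' T
      obtain ⟨t, ht, ht1⟩ := h.exists_ne_one T
      obtain ⟨s, hs, hs1⟩ := h.exists_ne_one T'
      have hodd := h.odd hne ht hs ht1 hs1
      have hmm : t * s ∈ OX 𝒟 := mul_mem (hT ht) (syl_le_OX T' hs)
      obtain ⟨n, hn, hn2⟩ : ∃ n ∈ zpowers (t * s), n * t * n⁻¹ = s := by
        have ht2 : t * t = 1 := h.q.mul_self T.ds ht
        have hs2 : s * s = 1 := h.q.mul_self T'.ds hs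
        obtain ⟨k, hk⟩ := hodd
        have hti : t⁻¹ = t := inv_eq_of_mul_eq_one_right ht2
        have hsi : s⁻¹ = s := inv_eq_of_mul_eq_one_right hs2
        have hc : t * (t * s) * t⁻¹ = (t * s)⁻¹ := by
          rw [mul_inv_rev, hti, hsi]
          calc t * (t * s) * t = (t * t) * s * t := by group
            _ = s * t := by rw [ht2, one_mul]
        refine ⟨(t * s) ^ k, pow_mem (mem_zpowers _) k, ?_⟩
        have h1 : t * ((t * s) ^ k)⁻¹ = (t * s) ^ k * t := by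
          have h2 : t * (t * s) ^ k * t⁻¹ = ((t * s) ^ k)⁻¹ := by rw [← conj_pow, hc, inv_pow]
          have h3 : t * (t * ((t * s) ^ k) * t⁻¹) = t * ((t * s) ^ k)⁻¹ := by rw [h2]
          rw [← h3, hti]
          calc t * (t * (t * s) ^ k * t) = (t * t) * (t * s) ^ k * t := by group
            _ = (t * s) ^ k * t := by rw [ht2, one_mul]
        rw [mul_assoc, h1, ← mul_assoc, ← pow_add]
        have h4 : (t * s) ^ (k + k) * (t * s) = 1 := by
          rw [← pow_succ, show k + k + 1 = 2 * k + 1 by ring, ← hk, pow_orderOf_eq_one]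
        have h5 : (t * s) ^ (k + k) = s * t := by
          rw [eq_inv_of_mul_eq_one_left h4, mul_inv_rev, hti, hsi]
        rw [h5, mul_assoc, ht2, mul_one]
      have hnO : n ∈ OX 𝒟 := (zpowers_le.2 hmm) hn
      have hT' : n • T = T' := by
        refine h.ti (t := s) ?_ hs hs1
        rw [mem_smul_syl, ← hn2]
        have e1 : n⁻¹ * (n * t * n⁻¹) * n = t := by group
        rw [e1]; exact ht
      have h1 : OX 𝒟 ≤ K.map (OX 𝒟).subtype := by
        refine (h.OX_eq hne).le.trans (sup_le ?_ ?_)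
        · intro a ha
          refine ⟨⟨a, hT ha⟩, ?_, rfl⟩
          have := hK 1 ⟨a, hT ha⟩ ((hTm _).2 ha)
          simpa using this
        · intro a ha
          rw [← hT', mem_smul_syl] at ha
          have h2 : a ∈ OX 𝒟 := by
            have e1 : a = n * (n⁻¹ * a * n) * n⁻¹ := by group
            rw [e1]
            exact conj_mem_OX n (hT ha)
          refine ⟨⟨a, h2⟩, ?_, rfl⟩
          have := hK ⟨n, hnO⟩ ⟨n⁻¹ * a * n, hT ha⟩ ((hTm _).2 ha)
          have e1 : (⟨n, hnO⟩ : ↥(OX 𝒟)) * ⟨n⁻¹ * a * n, hT ha⟩ * (⟨n, hnO⟩ : ↥(OX 𝒟))⁻¹ = ⟨a, h2⟩ := by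
            apply Subtype.ext
            change n * (n⁻¹ * a * n) * n⁻¹ = a
            group
          rwa [e1] at this
      rw [eq_top_iff]
      intro x _
      obtain ⟨y, hy, hyx⟩ := h1 x.2
      have : y = x := Subtype.ext hyx
      rwa [← this])
    (by
      intro g hg v hv hgv
      rw [h.UU_eq (hnorm g hg)]
      refine mem_inf.2 ⟨hgv, ?_⟩
      change (g : L) • v ∈ _
      rw [mem_cv_smul_syl, inv_smul_smul]
      exact hv)
    (by
      intro g hg t ht s hs ht1 hs1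
      have h1 : (g * s * g⁻¹ : ↥(OX 𝒟)) ∈ (((g : L) • T : Syl 𝒟) : Subgroup L).subgroupOf (OX 𝒟) := by
        rw [mem_subgroupOf, mem_smul_syl]
        have e1 : (g : L)⁻¹ * ((g * s * g⁻¹ : ↥(OX 𝒟)) : L) * (g : L) = s := by
          push_cast; group
        rw [e1]; exact (hTm s).1 hs
      have h2 := h.odd (hnorm g hg) ((hTm t).1 ht) (mem_subgroupOf.1 h1) (fun e => ht1 (Subtype.ext e)) (by
        intro e
        apply hs1
        have h3 : (g * s * g⁻¹ : ↥(OX 𝒟)) = 1 := Subtype.ext e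
        exact conj_eq_one_iff.1 h3)
      rw [← orderOf_coe] 
      exact h2)
  exact ⟨F, i1, i2, i3, φ, by rw [hF, hcard]⟩

end Field

variable {G : Type*} [Group G] {𝒜 : Set G} [h𝒜 : Fact (IsClosedFam 𝒜)] [Finite G] {P : Syl 𝒜}
  {E F : Subgroup G}

/-- `⟨𝒜 ∩ N_G(E)⟩ = X` -/
theorem fam_normalizer (h : Setup P E) : fam 𝒜 (normalizer (E : Set G)) = XX (P : Subgroup G) E := by
  apply le_antisymm
  · rw [fam_le_iff]
    intro x hx hxN
    obtain ⟨c, hc, hcx⟩ := exists_conj_le_of_le P (normalizer (E : Set G)) (zpowers x) h.P_le_N (ds_zpowers hx)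
      (by rw [zpowers_le]; exact hxN)
    have h1 := Setup.XX_conj (inv_mem hc) (h.P_le_XX (hcx x (mem_zpowers x)))
    have e1 : c⁻¹ * (c * x * c⁻¹) * c⁻¹⁻¹ = x := by group
    rwa [e1] at h1
  · refine ncl_le fun n hn a ha => mem_fam (smul_mem_fam (P.mem ha) n) ?_
    exact mul_mem (mul_mem hn (h.P_le_N ha)) (inv_mem hn)

/-- the homomorphism `X → OX` -/
noncomputable def toOX (h : Good P E) : ↥(XG 𝒜 E) →* ↥(OX (DD h.toSetup)) where
  toFun x := ⟨rr h.toSetup ⟨x, fam_le _ _ x.2⟩, by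
    rw [← h.img_XX, h.mem_img h.XX_le_N]
    exact ⟨x, by rw [← fam_normalizer h.toSetup]; exact x.2, rfl⟩⟩
  map_one' := Subtype.ext (map_one (rr h.toSetup))
  map_mul' x y := Subtype.ext (map_mul (rr h.toSetup) ⟨x, fam_le _ _ x.2⟩ ⟨y, fam_le _ _ y.2⟩)

theorem toOX_surjective (h : Good P E) : Function.Surjective (toOX h) := by
  rintro ⟨x, hx⟩
  obtain ⟨y, hy, rfl⟩ := h.exists_lift hx
  exact ⟨⟨y, by change y ∈ fam 𝒜 _; rw [fam_normalizer h.toSetup]; exact hy⟩, rfl⟩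

theorem toOX_eq_one_iff (h : Good P E) (x : ↥(XG 𝒜 E)) :
    toOX h x = 1 ↔ (x : G) ∈ centralizer (VV (P : Subgroup G) E : Set G) := by
  rw [← Setup.rr_eq_one_iff h.toSetup ⟨x, fam_le _ _ x.2⟩]
  exact ⟨fun e => congrArg Subtype.val e, fun e => Subtype.ext e⟩

/-- `E` is elementary abelian -/
theorem eq_VV (e : Edge P E F) (hP : (P : Subgroup G) ≤ WW (P : Subgroup G) E ⊔ WW (P : Subgroup G) F) :
    E = VV (P : Subgroup G) E := by
  apply le_antisymm _ e.gi.VV_le_E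
  intro x hx
  obtain ⟨w₂, hw₂, w₁, hw₁, rfl⟩ := exists_mul_of_mem_sup (P := WW (P : Subgroup G) F) (K := WW (P : Subgroup G) E)
    (fun p hp k hk => e.gi.WW_conj (e.gi.P_le_N (e.symm.Vi_le_P (e.gj.WW_le_VV hp))) hk)
    (hP (e.gi.E_le hx))
  have h1 : w₁ ∈ VV (P : Subgroup G) E := e.gi.WW_le_VV hw₁
  have h2 : w₂ ∈ E := by
    have := mul_mem hx (inv_mem (e.gi.VV_le_E h1))
    simpa using this
  exact mul_mem (e.gi.Om_le_VV (e.symm.mem_Om (e.gj.WW_le_VV hw₂) h2)) h1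

theorem inf_eq_Om (e : Edge P E F) (hP : (P : Subgroup G) ≤ WW (P : Subgroup G) E ⊔ WW (P : Subgroup G) F) :
    E ⊓ F = Om (P : Subgroup G) := by
  apply le_antisymm _ e.Om_le
  rintro x ⟨hx, hxF⟩
  rw [eq_VV e hP] at hx
  exact e.mem_Om hx hxF

theorem card_eq (e : Edge P E F) (hP : (P : Subgroup G) ≤ WW (P : Subgroup G) E ⊔ WW (P : Subgroup G) F) :
    Nat.card E = E.relIndex (P : Subgroup G) * Nat.card ↥(E ⊓ F) := by
  rw [inf_eq_Om e hP]
  have h1 := relIndex_mul_relIndex (⊥ : Subgroup G) (Om (P : Subgroup G)) (VV (P : Subgroup G) E) bot_le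
    e.gi.Om_le_VV
  rw [relIndex_bot_left, relIndex_bot_left, e.gi.relIndex_Om, ← eq_VV e hP] at h1
  rw [← h1, mul_comm]

theorem inf_centralizer (e : Edge P E F) (hP : (P : Subgroup G) ≤ WW (P : Subgroup G) E ⊔ WW (P : Subgroup G) F) :
    E ⊓ centralizer (XG 𝒜 E : Set G) = UE (P : Subgroup G) E := by
  unfold UE XG
  rw [fam_normalizer e.gi.toSetup, ← eq_VV e hP]

theorem card_eq' (e : Edge P E F) (hP : (P : Subgroup G) ≤ WW (P : Subgroup G) E ⊔ WW (P : Subgroup G) F) :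
    E.relIndex (P : Subgroup G) * Nat.card ↥(E ⊓ centralizer (XG 𝒜 E : Set G)) = Nat.card ↥(E ⊓ F) := by
  rw [inf_eq_Om e hP, inf_centralizer e hP]
  have h1 := relIndex_mul_relIndex (⊥ : Subgroup G) (UE (P : Subgroup G) E) (Om (P : Subgroup G)) bot_le
    e.gi.UE_le_Om
  rw [relIndex_bot_left, relIndex_bot_left, e.gi.relIndex_UE_Om] at h1
  rw [← h1, mul_comm]

omit h𝒜 [Finite G] in
theorem UE_map {g : G} (hg : g ∈ normalizer ((P : Subgroup G) : Set G)) :
    (UE (P : Subgroup G) E).map (MulAut.conj g).toMonoidHom =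
      UE (P : Subgroup G) (E.map (MulAut.conj g).toMonoidHom) := by
  unfold UE
  rw [Subgroup.map_inf _ _ _ (MulAut.conj g).injective, VV_map hg, RelFus.centralizer_map, XX_map hg]

/-- `U_E ∩ U_F = 1` -/
theorem disj (m : Minim P) (e : Edge P E F)
    (hess : ∀ X : Subgroup G, IsEss 𝒜 (P : Subgroup G) X → X = E ∨ X = F) :
    UE (P : Subgroup G) E ⊓ UE (P : Subgroup G) F = ⊥ := by
  refine m.eq_bot_of_comm (inf_le_left.trans (e.gi.UE_le_VV.trans e.Vi_le_P)) ?_ ?_ ?_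
  · intro x hx y hy
    exact e.gi.VV_comm_E (e.gi.UE_le_VV hx.1) (e.gi.VV_le_E (e.gi.UE_le_VV hy.1))
  · intro g hg x hx
    have h1 : (UE (P : Subgroup G) E ⊓ UE (P : Subgroup G) F).map (MulAut.conj g).toMonoidHom =
        UE (P : Subgroup G) (E.map (MulAut.conj g).toMonoidHom) ⊓
          UE (P : Subgroup G) (F.map (MulAut.conj g).toMonoidHom) := by
      rw [Subgroup.map_inf _ _ _ (MulAut.conj g).injective, UE_map hg, UE_map hg]
    have h2 := hess _ (isEss_map h𝒜.out e.gi.ess hg)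
    have h3 := hess _ (isEss_map h𝒜.out e.gj.ess hg)
    have hne : E.map (MulAut.conj g).toMonoidHom ≠ F.map (MulAut.conj g).toMonoidHom := by
      intro h4
      have h5 := Subgroup.map_injective (MulAut.conj g).injective h4
      exact e.nij (by rw [← h5]; exact e.gi.VV_le_E)
    have h6 : g * x * g⁻¹ ∈ UE (P : Subgroup G) (E.map (MulAut.conj g).toMonoidHom) ⊓
          UE (P : Subgroup G) (F.map (MulAut.conj g).toMonoidHom) := by
      rw [← h1]; exact ⟨x, hx, rfl⟩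
    rcases h2 with h2 | h2 <;> rcases h3 with h3 | h3
    · exact absurd (h2.trans h3.symm) hne
    · rwa [h2, h3] at h6
    · rw [h2, h3] at h6; exact ⟨h6.2, h6.1⟩
    · exact absurd (h2.trans h3.symm) hne
  · intro X hX b hb x hx _
    have key : b * x * b⁻¹ = x := by
      rcases hess X hX with rfl | rfl
      · exact (e.gi.mem_UE.1 hx.1).2 b (e.gi.BB_le_XX hb)
      · exact (e.gj.mem_UE.1 hx.2).2 b (e.gj.BB_le_XX hb)
    rw [key]; exact hx

/-- **the data of one edge** -/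
theorem full (m : Minim P) (e : Edge P E F)
    (hP : (P : Subgroup G) = WW (P : Subgroup G) E ⊔ WW (P : Subgroup G) F)
    (hess : ∀ X : Subgroup G, IsEss 𝒜 (P : Subgroup G) X → X = E ∨ X = F) :
    ∃ (K : Type) (_ : Field K) (_ : Fintype K) (_ : CharP K 2),
      Nonempty (FullEdge K 𝒜 (P : Subgroup G) E F) := by
  obtain ⟨K₁, i1, i2, i3, φ₁, hK₁⟩ := exists_field_ND e.gi.nd e.gi.Tb
  obtain ⟨K₂, j1, j2, j3, φ₂, hK₂⟩ := exists_field_ND e.gj.nd e.gj.Tb
  rw [e.gi.card_Tb] at hK₁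
  rw [e.gj.card_Tb, ← e.q_eq] at hK₂
  have hcard : Fintype.card K₂ = Fintype.card K₁ := by
    rw [← Nat.card_eq_fintype_card, ← Nat.card_eq_fintype_card, hK₁, hK₂]
  obtain ⟨ψ⟩ : Nonempty (K₂ ≃+* K₁) := ⟨FiniteField.ringEquivOfCardEq hcard⟩
  have hP' := hP.le
  have hP'' : (P : Subgroup G) ≤ WW (P : Subgroup G) F ⊔ WW (P : Subgroup G) E := by rw [sup_comm]; exact hP'
  have hE := eq_VV e hP'
  have hF := eq_VV e.symm hP''
  let θ : Matrix.SpecialLinearGroup (Fin 2) K₂ →* Matrix.SpecialLinearGroup (Fin 2) K₁ :=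
    Matrix.SpecialLinearGroup.map ψ.toRingHom
  have hθ : Function.Bijective θ := by
    have hcomp : ∀ x : Matrix.SpecialLinearGroup (Fin 2) K₂,
        Matrix.SpecialLinearGroup.map ψ.symm.toRingHom (θ x) = x := by
      intro x
      apply Subtype.ext
      ext i j
      exact ψ.symm_apply_apply _
    have hcomp' : ∀ x : Matrix.SpecialLinearGroup (Fin 2) K₁,
        θ (Matrix.SpecialLinearGroup.map ψ.symm.toRingHom x) = x := by
      intro x
      apply Subtype.ext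
      ext i j
      exact ψ.apply_symm_apply _
    exact ⟨Function.LeftInverse.injective hcomp, Function.RightInverse.surjective hcomp'⟩
  refine ⟨K₁, i1, i2, i3, ⟨{
    syl := P.isSyl
    sup := ?_
    sq₁ := ?_
    sq₂ := ?_
    cent₁ := e.gi.ess.cent
    cent₂ := e.gj.ess.cent
    ess := hess
    φ₁ := φ₁.toMonoidHom.comp (toOX e.gi)
    φ₂ := θ.comp (φ₂.toMonoidHom.comp (toOX e.gj))
    surj₁ := φ₁.surjective.comp (toOX_surjective e.gi)
    surj₂ := hθ.2.comp (φ₂.surjective.comp (toOX_surjective e.gj))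
    ker₁ := ?_
    ker₂ := ?_
    card₁ := ?_
    card₂ := ?_
    cardC₁ := ?_
    cardC₂ := ?_
    disj := ?_
    nor₁ := e.gi.P_le_N
    nor₂ := e.gj.P_le_N
    ess₁ := e.gi.ess
    ess₂ := e.gj.ess }⟩⟩
  · apply le_antisymm (sup_le e.gi.E_le e.gj.E_le)
    rw [hP]
    exact sup_le_sup (e.gi.WW_le_VV.trans e.gi.VV_le_E) (e.gj.WW_le_VV.trans e.gj.VV_le_E)
  · intro x hx
    rw [hE] at hx
    exact e.gi.VV_sq hx
  · intro x hx
    rw [hF] at hx
    exact e.gj.VV_sq hx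
  · intro x
    have h1 : (φ₁.toMonoidHom.comp (toOX e.gi)) x = φ₁ (toOX e.gi x) := rfl
    rw [h1, map_eq_one_iff φ₁ φ₁.injective, toOX_eq_one_iff, ← hE]
  · intro x
    have h1 : (θ.comp (φ₂.toMonoidHom.comp (toOX e.gj))) x = θ (φ₂ (toOX e.gj x)) := rfl
    rw [h1, map_eq_one_iff θ hθ.1, map_eq_one_iff φ₂ φ₂.injective, toOX_eq_one_iff, ← hF]
  · rw [hK₁]; exact card_eq e hP'
  · rw [hK₁, e.q_eq, inf_comm]; exact card_eq e.symm hP''
  · rw [hK₁]; exact card_eq' e hP'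
  · rw [hK₁, e.q_eq, inf_comm E F]; exact card_eq' e.symm hP''
  · rw [inf_centralizer e hP', inf_centralizer e.symm hP'']
    exact disj m e hess

end Cfsg.Agent.ClassTwoFusion.RelFull
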