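import Mathlib
import Cfsg.Agent.ClassTwoFusion.RelFus
import Cfsg.Agent.PermParts.OfProd

/-!
# The internal product decomposition of a minimal strongly closed subgroup of class two

For an edge `(E, F)` put `A = W_E W_F`.  If `W_K ≤ C_E(B_E)` for all essential `K` not in the edge of `E`, then the
subgroups `A` are independent and their union is strongly closed.
-/

set_option autoImplicit false
set_option linter.unusedSectionVars false

namespace Cfsg.Agent.ClassTwoFusion.RelProd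

open Subgroup Cfsg.Agent.ClassTwoFusion.Gen Cfsg.Agent.ClassTwoFusion.RelAlperin
open Cfsg.Agent.TwoFusion.ClosedFam Cfsg.Agent.ClassTwoFusion.RelSyl
open Cfsg.Agent.ClassTwoFusion.Local (Cl2 Zc Om mem_Zc mem_Om Om_le_Zc Zc_le VF VV XX BB UE WW CE)
open Cfsg.Agent.ClassTwoFusion.RelLocal Cfsg.Agent.ClassTwoFusion.RelFus

variable {G : Type*} [Group G] {𝒜 : Set G}

/-- `⟨W_E, W_F⟩` -/
abbrev AA (P E F : Subgroup G) : Subgroup G := WW P E ⊔ WW P F

section

variable [h𝒜 : Fact (IsClosedFam 𝒜)] [Finite G] {P : Syl 𝒜}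

/-- the product over an edge -/
def Idx (P : Syl 𝒜) : Type _ :=
  {A : Subgroup G // ∃ E F, Edge P E F ∧ A = WW (P : Subgroup G) E ⊔ WW (P : Subgroup G) F}

/-- `W_K ≤ C_E(B_E)` if `K` is not in the edge of `E` -/
def Six (P : Syl 𝒜) : Prop :=
  ∀ {E F K L : Subgroup G}, Edge P E F → Edge P K L → K ≠ E → K ≠ F → WW (P : Subgroup G) K ≤ CE (P : Subgroup G) E

/-! ### Edges -/

theorem AA_comm (P E F : Subgroup G) : AA P E F = AA P F E := sup_comm _ _

/-- `W_E` is not contained in `U_E` -/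
theorem not_WW_le_UE {E : Subgroup G} (h : Good P E) : ¬ WW (P : Subgroup G) E ≤ UE (P : Subgroup G) E := by
  intro hle
  obtain ⟨y, hy, hodd, v, hv, hyv⟩ := h.exists_odd
  have h1 : y * v * y⁻¹ * v⁻¹ ∈ WW (P : Subgroup G) E :=
    h.comm_BB_mem (Cfsg.Agent.ClassTwoFusion.Local.mem_oddGen hy hodd) (h.VV_le_E hv)
  have h2 := (h.mem_UE.1 (hle h1)).2 y hy
  have e1 : y * v * y⁻¹ = (y * v * y⁻¹ * v⁻¹) * v := by group
  have h3 := eq_of_odd_of_fixed h.isPGroup_E (h.VV_le_E (h.WW_le_VV h1)) hodd e1 h2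
  rw [h3, one_mul] at e1
  exact hyv e1

/-- `W_E` is not contained in `Ω` -/
theorem not_WW_le_Om {E : Subgroup G} (h : Good P E) : ¬ WW (P : Subgroup G) E ≤ Om (P : Subgroup G) := by
  intro hle
  have h1 : VV (P : Subgroup G) E ≤ Om (P : Subgroup G) := by
    intro v hv
    obtain ⟨w, hw, u, hu, rfl⟩ := h.exists_mul_UE h.WW_le_VV (fun x hx w hw => h.WW_conj (h.XX_le_N hx) hw)
      (not_WW_le_UE h) hv
    exact mul_mem (hle hw) (h.UE_le_Om hu)
  have h2 := h.two_le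
  rw [← h.relIndex_Om, relIndex_eq_one.2 h1] at h2
  omega

/-- `W_E` contains two different involutions -/
theorem exists_two {E : Subgroup G} (h : Good P E) : ∃ v ∈ WW (P : Subgroup G) E, ∃ w ∈ WW (P : Subgroup G) E,
    v ≠ 1 ∧ w ≠ 1 ∧ v ≠ w := by
  obtain ⟨v, hv, hvU⟩ := SetLike.not_le_iff_exists.1 (not_WW_le_UE h)
  have hv1 : v ≠ 1 := fun e => hvU (e ▸ one_mem _)
  have h1 : ¬ ∀ x ∈ XX (P : Subgroup G) E, x * v * x⁻¹ = v := fun h2 => hvU (h.mem_UE.2 ⟨h.WW_le_VV hv, h2⟩)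
  push Not at h1
  obtain ⟨x, hx, hxv⟩ := h1
  refine ⟨v, hv, x * v * x⁻¹, h.WW_conj (h.XX_le_N hx) hv, hv1, ?_, Ne.symm hxv⟩
  intro e
  apply hv1
  calc v = x⁻¹ * (x * v * x⁻¹) * x := by group
    _ = 1 := by rw [e]; group

theorem WW_le_P {E : Subgroup G} (h : Setup P E) : WW (P : Subgroup G) E ≤ (P : Subgroup G) :=
  h.WW_le_VV.trans (h.VV_le_E.trans h.E_le)

theorem edge_map {E F : Subgroup G} (e : Edge P E F) {g : G} (hg : g ∈ normalizer ((P : Subgroup G) : Set G)) :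
    Edge P (E.map (MulAut.conj g).toMonoidHom) (F.map (MulAut.conj g).toMonoidHom) := by
  refine edge_of_not_le ⟨e.gi.cl, isEss_map h𝒜.out e.gi.ess hg⟩ ⟨e.gj.cl, isEss_map h𝒜.out e.gj.ess hg⟩ ?_
  rw [← VV_map hg]
  intro h1
  exact e.nij ((Subgroup.map_le_map_iff_of_injective (MulAut.conj g).injective).1 h1)

/-- edges meeting in a vertex are equal -/
theorem AA_eq {E F K L : Subgroup G} (e : Edge P E F) (e' : Edge P K L) (h : K = E ∨ K = F) :
    AA (P : Subgroup G) K L = AA (P : Subgroup G) E F := by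
  rcases h with rfl | rfl
  · rw [e.unique e']
  · rw [e.symm.unique e', AA_comm]

/-- different edges have no common vertex -/
theorem ne_of_AA_ne {E F K L : Subgroup G} (e : Edge P E F) (e' : Edge P K L)
    (h : AA (P : Subgroup G) K L ≠ AA (P : Subgroup G) E F) : K ≠ E ∧ K ≠ F ∧ L ≠ E ∧ L ≠ F := by
  have h1 : ∀ {K L : Subgroup G}, Edge P K L → AA (P : Subgroup G) K L ≠ AA (P : Subgroup G) E F → K ≠ E ∧ K ≠ F :=
    fun e' h => ⟨fun h2 => h (AA_eq e e' (Or.inl h2)), fun h2 => h (AA_eq e e' (Or.inr h2))⟩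
  exact ⟨(h1 e' h).1, (h1 e' h).2, (h1 e'.symm (by rwa [AA_comm])).1, (h1 e'.symm (by rwa [AA_comm])).2⟩

section six

variable (six : Six P)
include six

/-- `W_K` commutes with `W_E` -/
theorem WW_commute {E F K L : Subgroup G} (e : Edge P E F) (e' : Edge P K L) (h1 : K ≠ E) (h2 : K ≠ F) {x y : G}
    (hx : x ∈ WW (P : Subgroup G) E) (hy : y ∈ WW (P : Subgroup G) K) : x * y = y * x :=
  e.gi.VV_comm_E (e.gi.WW_le_VV hx) (six e e' h1 h2 hy).1

omit six in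
/-- if `K ∉ {E, F}`, then the neighbour of `K` is not in `{E, F}` -/
theorem ne_symm {E F K L : Subgroup G} (e : Edge P E F) (e' : Edge P K L) (h1 : K ≠ E) (h2 : K ≠ F) :
    L ≠ E ∧ L ≠ F := by
  constructor
  · rintro rfl
    exact h2 (e.unique e'.symm)
  · rintro rfl
    exact h1 (e.symm.unique e'.symm)

/-- `A ≤ C_K(B_K)` for `K` outside the edge -/
theorem AA_le_CE {E F K L : Subgroup G} (e : Edge P E F) (e' : Edge P K L) (h1 : K ≠ E) (h2 : K ≠ F) :
    AA (P : Subgroup G) E F ≤ CE (P : Subgroup G) K := by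
  obtain ⟨h3, h4⟩ := ne_symm e e' h1 h2
  exact sup_le (six e' e h1.symm h3.symm) (six e' e.symm h2.symm h4.symm)

theorem AA_commute_WW {E F K L : Subgroup G} (e : Edge P E F) (e' : Edge P K L) (h1 : K ≠ E) (h2 : K ≠ F) {x y : G}
    (hx : x ∈ AA (P : Subgroup G) E F) (hy : y ∈ WW (P : Subgroup G) K) : x * y = y * x :=
  (e'.gi.VV_comm_E (e'.gi.WW_le_VV hy) (AA_le_CE six e e' h1 h2 hx).1).symm

/-- **the `A` are not abelian** -/
theorem exists_ne_comm (m : Minim P) {E F : Subgroup G} (e : Edge P E F) : ∃ x ∈ WW (P : Subgroup G) E,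
    ∃ y ∈ WW (P : Subgroup G) F, x * y ≠ y * x := by
  by_contra hcon
  push Not at hcon
  apply not_WW_le_Om e.gi
  intro w hw
  refine mem_Om.2 ⟨WW_le_P e.gi.toSetup hw, ?_, e.gi.VV_sq (e.gi.WW_le_VV hw)⟩
  have h1 : (P : Subgroup G) ≤ centralizer ({w} : Set G) := by
    refine m.eq_iSup.symm.le.trans (iSup_le ?_)
    rintro ⟨K, hK⟩ y hy
    rw [mem_centralizer_singleton_iff]
    by_cases h1 : K = E
    · subst h1
      exact (e.gi.VV_comm_E (e.gi.WW_le_VV hw) (e.gi.VV_le_E (e.gi.WW_le_VV hy))).symm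
    by_cases h2 : K = F
    · subst h2
      exact (hcon w hw y hy).symm
    · obtain ⟨L, e'⟩ := m.exists_edge hK
      exact (WW_commute six e e' h1 h2 hw hy).symm
  exact fun x hx => mem_centralizer_singleton_iff.1 (h1 hx)

omit six in
/-- the elements of the centre centralised by all the `B_E` -/
theorem eq_one_of_fixed (m : Minim P) {z : G} (hz : z ∈ Zc (P : Subgroup G))
    (hB : ∀ E : Subgroup G, IsEss 𝒜 (P : Subgroup G) E → ∀ b ∈ BB (P : Subgroup G) E, b * z * b⁻¹ = z) : z = 1 := by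
  let Z : Subgroup G :=
    { carrier := {z | z ∈ Zc (P : Subgroup G) ∧
        ∀ E : Subgroup G, IsEss 𝒜 (P : Subgroup G) E → ∀ b ∈ BB (P : Subgroup G) E, b * z * b⁻¹ = z}
      one_mem' := ⟨one_mem _, fun E _ b _ => by group⟩
      mul_mem' := by
        rintro x y ⟨hx, hx'⟩ ⟨hy, hy'⟩
        refine ⟨mul_mem hx hy, fun E hE b hb => ?_⟩
        calc b * (x * y) * b⁻¹ = (b * x * b⁻¹) * (b * y * b⁻¹) := by group
          _ = x * y := by rw [hx' E hE b hb, hy' E hE b hb]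
      inv_mem' := by
        rintro x ⟨hx, hx'⟩
        refine ⟨inv_mem hx, fun E hE b hb => ?_⟩
        calc b * x⁻¹ * b⁻¹ = (b * x * b⁻¹)⁻¹ := by group
          _ = x⁻¹ := by rw [hx' E hE b hb] }
  have hZ : Z = ⊥ := by
    refine m.eq_bot_of_comm (fun x hx => Zc_le _ hx.1)
      (fun x hx y hy => (mem_Zc.1 hy.1).2 x (Zc_le _ hx.1)) ?_ ?_
    · rintro g hg x ⟨hx, hx'⟩
      refine ⟨?_, fun E hE b hb => ?_⟩
      · have : g * x * g⁻¹ ∈ (Zc (P : Subgroup G)).map (MulAut.conj g).toMonoidHom := ⟨x, hx, rfl⟩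
        rwa [Zc_map hg] at this
      · have hE' := isEss_map h𝒜.out hE (inv_mem hg)
        have hb' : g⁻¹ * b * g ∈ BB (P : Subgroup G) (E.map (MulAut.conj g⁻¹).toMonoidHom) := by
          rw [← BB_map (inv_mem hg)]
          exact ⟨b, hb, by simp⟩
        have h1 := hx' _ hE' _ hb'
        calc b * (g * x * g⁻¹) * b⁻¹ = g * ((g⁻¹ * b * g) * x * (g⁻¹ * b * g)⁻¹) * g⁻¹ := by group
          _ = g * x * g⁻¹ := by rw [h1]
    · rintro E hE b hb x hx -
      rw [hx.2 E hE b hb]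
      exact hx
  have h1 : z ∈ Z := ⟨hz, hB⟩
  rw [hZ, mem_bot] at h1
  exact h1

/-- elements of one `A` in the product of the others -/
theorem indep_aux (m : Minim P) {E F : Subgroup G} (e : Edge P E F) {x : G} (hx : x ∈ AA (P : Subgroup G) E F)
    {R : Subgroup G} (hxR : x ∈ R)
    (hR : R ≤ ⨆ B : {B : Subgroup G // ∃ K L, Edge P K L ∧ K ≠ E ∧ K ≠ F ∧ B = AA (P : Subgroup G) K L}, B.1) :
    x = 1 := by
  set R' : Subgroup G :=
    ⨆ B : {B : Subgroup G // ∃ K L, Edge P K L ∧ K ≠ E ∧ K ≠ F ∧ B = AA (P : Subgroup G) K L}, B.1 with hR'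
  have hRE : R' ≤ CE (P : Subgroup G) E := by
    refine iSup_le ?_
    rintro ⟨B, K, L, e', h1, h2, rfl⟩
    obtain ⟨h3, h4⟩ := ne_symm e e' h1 h2
    exact sup_le (six e e' h1 h2) (six e e'.symm h3 h4)
  have hRF : R' ≤ CE (P : Subgroup G) F := by
    refine iSup_le ?_
    rintro ⟨B, K, L, e', h1, h2, rfl⟩
    obtain ⟨h3, h4⟩ := ne_symm e e' h1 h2
    exact sup_le (six e.symm e' h2 h1) (six e.symm e'.symm h4 h3)
  -- `x` lies in `C_K(B_K)` for all `K`
  have hC : ∀ K : Subgroup G, IsEss 𝒜 (P : Subgroup G) K → x ∈ CE (P : Subgroup G) K := by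
    intro K hK
    by_cases h1 : K = E
    · rw [h1]; exact hRE (hR hxR)
    by_cases h2 : K = F
    · rw [h2]; exact hRF (hR hxR)
    · obtain ⟨L, e'⟩ := m.exists_edge hK
      exact AA_le_CE six e e' h1 h2 hx
  refine eq_one_of_fixed m (mem_Zc.2 ⟨?_, ?_⟩) ?_
  · exact (sup_le (WW_le_P e.gi.toSetup) (WW_le_P e.gj.toSetup)) hx
  · have h1 : (P : Subgroup G) ≤ centralizer ({x} : Set G) := by
      refine m.eq_iSup.symm.le.trans (iSup_le ?_)
      rintro ⟨K, hK⟩ y hy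
      rw [mem_centralizer_singleton_iff]
      have h := m.setup hK
      exact h.VV_comm_E (h.WW_le_VV hy) (hC K hK).1
    exact fun y hy => mem_centralizer_singleton_iff.1 (h1 hy)
  · intro K hK b hb
    rw [mem_centralizer_iff.1 (hC K hK).2 b hb]
    group

omit six in
/-- the `A` are normal in `P` -/
theorem conj_mem_AA {E F : Subgroup G} (e : Edge P E F) {q x : G} (hq : q ∈ (P : Subgroup G))
    (hx : x ∈ AA (P : Subgroup G) E F) : q * x * q⁻¹ ∈ AA (P : Subgroup G) E F := by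
  have h1 : (AA (P : Subgroup G) E F).map (MulAut.conj q).toMonoidHom ≤ AA (P : Subgroup G) E F := by
    rw [Subgroup.map_sup]
    refine sup_le_sup ?_ ?_
    · rintro _ ⟨w, hw, rfl⟩
      exact e.gi.WW_conj (e.gi.P_le_N hq) hw
    · rintro _ ⟨w, hw, rfl⟩
      exact e.gj.WW_conj (e.gj.P_le_N hq) hw
  exact h1 ⟨x, hx, rfl⟩

omit six in
theorem AA_le_P {E F : Subgroup G} (e : Edge P E F) : AA (P : Subgroup G) E F ≤ (P : Subgroup G) :=
  sup_le (WW_le_P e.gi.toSetup) (WW_le_P e.gj.toSetup)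

/-- the union of the `A` is closed -/
theorem closed_aux (m : Minim P) {E F : Subgroup G} (e : Edge P E F) {x : G} (hx : x ∈ AA (P : Subgroup G) E F)
    {g : G} (hg : g * x * g⁻¹ ∈ (P : Subgroup G)) :
    ∃ K L, Edge P K L ∧ g * x * g⁻¹ ∈ AA (P : Subgroup G) K L := by
  refine closed_of (𝒜 := 𝒜) m.cl {x | ∃ K L, Edge P K L ∧ x ∈ AA (P : Subgroup G) K L} ?_ ?_ ⟨E, F, e, hx⟩
    (AA_le_P e hx) hg
  · rintro g hg x ⟨K, L, e', hx⟩
    refine ⟨_, _, edge_map e' hg, ?_⟩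
    have h1 : g * x * g⁻¹ ∈ (AA (P : Subgroup G) K L).map (MulAut.conj g).toMonoidHom := ⟨x, hx, rfl⟩
    rwa [Subgroup.map_sup, WW_map hg, WW_map hg] at h1
  · rintro M hM b hb x ⟨K, L, e', hx⟩ hxM
    obtain ⟨M', e''⟩ := m.exists_edge hM
    by_cases h1 : M = K ∨ M = L
    · refine ⟨K, L, e', ?_⟩
      have h2 := (m.setup hM).comm_BB_mem hb hxM
      have h3 : b * x * b⁻¹ * x⁻¹ ∈ AA (P : Subgroup G) K L := by
        rcases h1 with rfl | rfl
        · exact mem_sup_left h2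
        · exact mem_sup_right h2
      have h4 := mul_mem h3 hx
      have e1 : b * x * b⁻¹ * x⁻¹ * x = b * x * b⁻¹ := by group
      rwa [e1] at h4
    · push Not at h1
      have h2 := AA_le_CE six e' e'' h1.1 h1.2 hx
      have h3 : b * x * b⁻¹ = x := by
        rw [mem_centralizer_iff.1 h2.2 b hb]
        group
      rw [h3]
      exact ⟨K, L, e', hx⟩

/-- every involution of `A` commutes with another one -/
theorem rich_aux (m : Minim P) {E F : Subgroup G} (e : Edge P E F) {x : G} (hx : x ∈ AA (P : Subgroup G) E F)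
    (_ : orderOf x = 2) : ∃ y ∈ AA (P : Subgroup G) E F, orderOf y = 2 ∧ y ≠ x ∧ x * y = y * x := by
  have ho : ∀ y : G, y * y = 1 → y ≠ 1 → orderOf y = 2 := fun y h1 h2 => orderOf_eq_prime (by rw [pow_two, h1]) h2
  have hxP := AA_le_P e hx
  obtain ⟨v, hv, w, hw, hvw⟩ := exists_ne_comm six m e
  -- a central involution
  have hc := e.gi.comm_VV_mem_Om (WW_le_P e.gj.toSetup hw) (e.gi.WW_le_VV hv)
  have hcA : w * v * w⁻¹ * v⁻¹ ∈ AA (P : Subgroup G) E F :=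
    mul_mem (mul_mem (mul_mem (mem_sup_right hw) (mem_sup_left hv)) (inv_mem (mem_sup_right hw)))
      (inv_mem (mem_sup_left hv))
  have hc1 : w * v * w⁻¹ * v⁻¹ ≠ 1 := by
    intro h1
    apply hvw
    calc v * w = 1 * v * w := by rw [one_mul]
      _ = (w * v * w⁻¹ * v⁻¹) * v * w := by rw [h1]
      _ = w * v := by group
  set c := w * v * w⁻¹ * v⁻¹ with hcdef
  obtain ⟨-, hcc, hc2⟩ := mem_Om.1 hc
  by_cases hxc : x = c
  · obtain ⟨a, ha, b, hb, ha1, hb1, hab⟩ := exists_two e.gi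
    have key : ∀ a ∈ WW (P : Subgroup G) E, a ≠ 1 → a ≠ c →
        ∃ y ∈ AA (P : Subgroup G) E F, orderOf y = 2 ∧ y ≠ x ∧ x * y = y * x := by
      intro a ha ha1 hac
      refine ⟨a, mem_sup_left ha, ho a (e.gi.VV_sq (e.gi.WW_le_VV ha)) ha1, by rwa [hxc], ?_⟩
      rw [hxc]
      exact (hcc a (WW_le_P e.gi.toSetup ha)).symm
    by_cases hac : a = c
    · exact key b hb hb1 (fun h1 => hab (hac.trans h1.symm))
    · exact key a ha ha1 hac
  · exact ⟨c, hcA, ho c hc2 hc1, Ne.symm hxc, hcc x hxP⟩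

/-- **the decomposition** -/
theorem data (m : Minim P) (S : Sylow 2 G) (hS : fam 𝒜 (S : Subgroup G) = (P : Subgroup G)) :
    Cfsg.Agent.PermParts.OfProd.Data 𝒜 S (fun i : Idx P => i.1) ∧
      (∀ i : Idx P, ∀ x ∈ i.1, orderOf x = 2 → ∃ y ∈ i.1, orderOf y = 2 ∧ y ≠ x ∧ x * y = y * x) ∧
      Nonempty (Idx P) := by
  have hPS : (P : Subgroup G) ≤ (S : Subgroup G) := hS ▸ fam_le 𝒜 _
  have hSP : ∀ x ∈ (S : Subgroup G), x ∈ 𝒜 → x ∈ (P : Subgroup G) := fun x hx hx' => hS ▸ mem_fam hx' hx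
  refine ⟨⟨h𝒜.out, ?_, ?_, ?_, ?_⟩, ?_, ?_⟩
  · rintro ⟨A, E, F, e, rfl⟩ x hx
    exact ⟨P.mem (AA_le_P e hx), hPS (AA_le_P e hx)⟩
  · rintro ⟨A, E, F, e, rfl⟩ x hx q hq hq'
    exact conj_mem_AA e (hSP q hq hq') hx
  · rintro ⟨A, E, F, e, rfl⟩ x hx hxR
    refine indep_aux six m e hx hxR ?_
    refine iSup_le ?_
    rintro ⟨⟨B, K, L, e', rfl⟩, hne⟩
    have hne' : AA (P : Subgroup G) K L ≠ AA (P : Subgroup G) E F := fun h1 => hne (Subtype.ext h1)
    obtain ⟨h1, h2, -, -⟩ := ne_of_AA_ne e e' hne'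
    exact le_iSup (fun B : {B : Subgroup G // ∃ K L, Edge P K L ∧ K ≠ E ∧ K ≠ F ∧ B = AA (P : Subgroup G) K L} =>
      B.1) ⟨_, K, L, e', h1, h2, rfl⟩
  · rintro ⟨A, E, F, e, rfl⟩ x hx g hg
    have h1 : g * x * g⁻¹ ∈ 𝒜 := h𝒜.out.conj_mem x (P.mem (AA_le_P e hx)) g
    obtain ⟨K, L, e', h2⟩ := closed_aux six m e hx (hSP _ hg h1)
    exact ⟨⟨_, K, L, e', rfl⟩, h2⟩
  · rintro ⟨A, E, F, e, rfl⟩ x hx hx2
    exact rich_aux six m e hx hx2
  · obtain ⟨E, hE⟩ := m.exists_ess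
    obtain ⟨F, e⟩ := m.exists_edge hE
    exact ⟨⟨_, E, F, e, rfl⟩⟩

/-- **only one factor** -/
theorem one (m : Minim P) (h : Subsingleton (Idx P)) : ∃ E F, Edge P E F ∧
    (P : Subgroup G) = WW (P : Subgroup G) E ⊔ WW (P : Subgroup G) F ∧
    ∀ X, IsEss 𝒜 (P : Subgroup G) X → X = E ∨ X = F := by
  obtain ⟨E, hE⟩ := m.exists_ess
  obtain ⟨F, e⟩ := m.exists_edge hE
  have hX : ∀ X, IsEss 𝒜 (P : Subgroup G) X → X = E ∨ X = F := by
    intro X hX
    by_contra hcon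
    push Not at hcon
    obtain ⟨Y, e'⟩ := m.exists_edge hX
    have h1 : AA (P : Subgroup G) X Y = AA (P : Subgroup G) E F :=
      congrArg Subtype.val (h.elim (⟨_, X, Y, e', rfl⟩ : Idx P) ⟨_, E, F, e, rfl⟩)
    obtain ⟨x, hx, y, hy, hxy⟩ := exists_ne_comm six m e'
    apply hxy
    have h2 : y ∈ AA (P : Subgroup G) E F := h1 ▸ mem_sup_right hy
    exact (AA_commute_WW six e e' hcon.1 hcon.2 h2 hx).symm
  refine ⟨E, F, e, le_antisymm ?_ (AA_le_P e), hX⟩
  refine m.eq_iSup.symm.le.trans (iSup_le ?_)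
  rintro ⟨K, hK⟩
  rcases hX K hK with rfl | rfl
  · exact le_sup_left
  · exact le_sup_right

end six

end

end Cfsg.Agent.ClassTwoFusion.RelProd
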