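import Mathlib
import Cfsg.Agent.ClassTwoFusion.RelAct

/-!
# A third essential subgroup, `|P : E| = 2`

`E, F` neighbours, `K, L` neighbours, `K ∉ {E, F}`: `W_K ≤ C_E(B_E)`, here in the case `|P : E| = 2`.
-/

set_option autoImplicit false

namespace Cfsg.Agent.ClassTwoFusion.RelSix2

open Subgroup Cfsg.Agent.ClassTwoFusion.Gen Cfsg.Agent.ClassTwoFusion.RelAlperin
open Cfsg.Agent.TwoFusion.ClosedFam Cfsg.Agent.ClassTwoFusion.RelSyl
open Cfsg.Agent.ClassTwoFusion.Local (ncl le_ncl conj_mem_ncl ncl_le ncl_le_of_le oddGen oddGen_le mem_oddGen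
  conj_mem_oddGen actTriv conj_mem_actTriv Cl2 Zc Om mem_Zc mem_Om Om_le_Zc Zc_le VF VV XX BB
  mem_normalizer_of_conj UE pow_mod WW CE)
open Cfsg.Agent.ClassTwoFusion.Quad (cv mem_cv mem_cv_singleton cv_anti d)
open Cfsg.Agent.ClassTwoFusion.RelQuad Cfsg.Agent.ClassTwoFusion.RelLocal Cfsg.Agent.ClassTwoFusion.RelFus
open Cfsg.Agent.ClassTwoFusion.RelAct

variable {G : Type*} [Group G] {𝒜 : Set G} [h𝒜 : Fact (IsClosedFam 𝒜)] [Finite G] {P : Syl 𝒜}
  {E F K L : Subgroup G}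

/-! ### generalities -/

/-- nonadjacent essential subgroups -/
theorem VV_le_of_ne (e : Edge P E F) (hK : Setup P K) (h : K ≠ F) : VV (P : Subgroup G) E ≤ K := by
  by_contra hcon
  exact h (e.unique (edge_of_not_le e.gi.toSetup hK hcon))

theorem VV_le_of_ne' (e : Edge P E F) (hK : Setup P K) (h : K ≠ F) : VV (P : Subgroup G) K ≤ E :=
  VV_le_symm e.gi.toSetup hK (VV_le_of_ne e hK h)

/-- a neighbour of `K ∉ {E, F}` is not in `{E, F}` -/
theorem ne_of_ne (e : Edge P E F) (e' : Edge P K L) (h1 : K ≠ E) (h2 : K ≠ F) : L ≠ E ∧ L ≠ F := by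
  constructor
  · rintro rfl
    exact h2 (e.unique e'.symm)
  · rintro rfl
    exact h1 (e.symm.unique e'.symm)

/-- `P = K E` -/
theorem exists_mul_KE (e : Edge P E F) (e' : Edge P K L) (h1 : K ≠ E) (h2 : K ≠ F) {p : G}
    (hp : p ∈ (P : Subgroup G)) : ∃ k ∈ K, ∃ x ∈ E, p = k * x := by
  obtain ⟨k, hk, v, hv, rfl⟩ := exists_mul_of_mem_sup (P := K) (K := VV (P : Subgroup G) L)
    (fun p hp k hk => e'.gj.VV_conj (e'.gj.P_le_N (e'.gi.E_le hp)) hk) (e'.supi hp)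
  exact ⟨k, hk, v, VV_le_of_ne' e e'.gj.toSetup (ne_of_ne e e' h1 h2).2 hv, rfl⟩

theorem not_le (e : Edge P E F) (e' : Edge P K L) (h1 : K ≠ E) (h2 : K ≠ F) : ¬ K ≤ E := by
  intro hle
  have : (P : Subgroup G) ≤ E := by
    intro p hp
    obtain ⟨k, hk, x, hx, rfl⟩ := exists_mul_KE e e' h1 h2 hp
    exact mul_mem (hle hk) hx
  exact absurd this (not_le_of_gt e.gi.ess.lt)

theorem two_mem (hq : E.relIndex (P : Subgroup G) = 2) {x y : G} (hx : x ∈ (P : Subgroup G))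
    (hy : y ∈ (P : Subgroup G)) (hxE : x ∉ E) (hyE : y ∉ E) : x * y⁻¹ ∈ E := by
  have h1 : (E.subgroupOf (P : Subgroup G)).index = 2 := hq
  have h2 := mul_mem_iff_of_index_two h1 (a := (⟨x, hx⟩ : (P : Subgroup G)))
    (b := (⟨y, hy⟩ : (P : Subgroup G))⁻¹)
  rw [inv_mem_iff] at h2
  simp only [mem_subgroupOf] at h2
  exact h2.2 ⟨fun h => absurd h hxE, fun h => absurd h hyE⟩

/-- `W ≰ Ω` -/
theorem exists_WW (h : Good P E) : ∃ w ∈ WW (P : Subgroup G) E, w ∉ Om (P : Subgroup G) := by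
  by_contra hcon
  push Not at hcon
  have hle : WW (P : Subgroup G) E ≤ Om (P : Subgroup G) := hcon
  have h1 : ¬ WW (P : Subgroup G) E ≤ UE (P : Subgroup G) E := by
    intro hU
    obtain ⟨y, hy, hodd, v, hv, hyv⟩ := h.exists_odd
    have h2 := hU (h.comm_BB_mem (mem_oddGen hy hodd) (h.VV_le_E hv))
    apply hyv
    have e1 : y * v * y⁻¹ = (y * v * y⁻¹ * v⁻¹) * v := by group
    have h3 := eq_of_odd_of_fixed h.isPGroup_E (h.VV_le_E (h.UE_le_VV h2)) hodd e1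
      ((h.mem_UE.1 h2).2 y hy)
    rw [e1, h3, one_mul]
  have h3 : VV (P : Subgroup G) E ≤ Om (P : Subgroup G) := by
    intro v hv
    obtain ⟨m, hm, u, hu, rfl⟩ := h.exists_mul_UE h.WW_le_VV
      (fun x hx m hm => h.WW_conj (h.XX_le_N hx) hm) h1 hv
    exact mul_mem (hle hm) (h.UE_le_Om hu)
  have h4 : (Om (P : Subgroup G)).relIndex (VV (P : Subgroup G) E) = 1 := relIndex_eq_one.2 h3
  have h5 := h.two_le
  rw [← h.relIndex_Om, h4] at h5
  omega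

/-- the transvection data -/
theorem exists_center (h : Good P E) (hq : E.relIndex (P : Subgroup G) = 2) {t : G}
    (ht : t ∈ (P : Subgroup G)) (htE : t ∉ E) : ∃ a ∈ WW (P : Subgroup G) E, a ∈ Om (P : Subgroup G) ∧
      a ∉ UE (P : Subgroup G) E ∧ ∀ v ∈ VV (P : Subgroup G) E,
        (v ∈ Om (P : Subgroup G) → t * v * t⁻¹ * v⁻¹ = 1) ∧
        (v ∉ Om (P : Subgroup G) → t * v * t⁻¹ * v⁻¹ = a) := by
  obtain ⟨w, hw, hwO⟩ := exists_WW h
  have hwV := h.WW_le_VV hw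
  have hOm : ∀ v ∈ Om (P : Subgroup G), t * v * t⁻¹ = v := by
    intro v hv
    rw [(mem_Om.1 hv).2.1 t ht]; group
  refine ⟨t * w * t⁻¹ * w⁻¹, mul_mem (h.WW_conj (h.P_le_N ht) hw) (inv_mem hw), h.comm_VV_mem_Om ht hwV,
    fun hU => hwO (h.mem_Om_of_comm_mem_UE ht htE hwV hU), fun v hv => ⟨fun hvO => ?_, fun hvO => ?_⟩⟩
  · rw [hOm v hvO]; group
  · -- `v w ∈ Ω`
    have h1 : ((Om (P : Subgroup G)).subgroupOf (VV (P : Subgroup G) E)).index = 2 := by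
      have := h.relIndex_Om
      rw [hq] at this
      exact this
    have h2 := mul_mem_iff_of_index_two h1 (a := (⟨v, hv⟩ : VV (P : Subgroup G) E)) (b := ⟨w, hwV⟩)
    simp only [mem_subgroupOf] at h2
    have h3 : v * w ∈ Om (P : Subgroup G) := h2.2 ⟨fun h => absurd h hvO, fun h => absurd h hwO⟩
    have h4 := hOm _ h3
    have hvw : v * w = w * v := h.VV_comm_E hv (h.VV_le_E hwV)
    have hws : w⁻¹ = w := inv_eq_of_mul_eq_one_right (h.VV_sq hwV)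
    have hvs : v⁻¹ = v := inv_eq_of_mul_eq_one_right (h.VV_sq hv)
    have e1 : v = (v * w) * w := by rw [mul_assoc, h.VV_sq hwV, mul_one]
    have e2 : t * v * t⁻¹ = (v * w) * (t * w * t⁻¹) := by
      nth_rewrite 1 [e1]
      calc t * (v * w * w) * t⁻¹ = (t * (v * w) * t⁻¹) * (t * w * t⁻¹) := by group
        _ = _ := by rw [h4]
    have hzc := h.comm_VV_mem_Om ht hwV
    have hc := (mem_Om.1 hzc).2.1 v (h.E_le (h.VV_le_E hv))
    rw [e2]
    have e3 : t * w * t⁻¹ = (t * w * t⁻¹ * w⁻¹) * w := by group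
    set z := t * w * t⁻¹ * w⁻¹ with hz
    have hcw := (mem_Om.1 hzc).2.1 w (h.E_le (h.VV_le_E hwV))
    calc v * w * (t * w * t⁻¹) * v⁻¹ = v * (w * z) * w * v⁻¹ := by rw [e3]; group
      _ = (v * z) * (w * w) * v⁻¹ := by rw [hcw]; group
      _ = z * (v * v⁻¹) := by rw [h.VV_sq hwV, hc]; group
      _ = z := by group

/-- an element of `B` moving `T` -/
theorem exists_move (h : Good P E) : ∃ b ∈ BB (P : Subgroup G) E,
    (∀ z ∈ Om (P : Subgroup G), b⁻¹ * z * b ∈ Om (P : Subgroup G) → z ∈ UE (P : Subgroup G) E) ∧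
    (∀ z ∈ Om (P : Subgroup G), b * z * b⁻¹ ∈ Om (P : Subgroup G) → z ∈ UE (P : Subgroup G) E) := by
  obtain ⟨T', hne⟩ := h.nd.exists_ne' h.Tb
  obtain ⟨t, ht, ht1⟩ := h.nd.exists_ne_one h.Tb
  obtain ⟨s, hs, hs1⟩ := h.nd.exists_ne_one T'
  have hodd := h.nd.odd hne ht hs ht1 hs1
  obtain ⟨j, hj, -, hj1, -⟩ := Cfsg.Agent.TwoFusion.StronglyEmbeddedBasic.exists_swap t s
    (h.nd.orderOf_eq_two ht ht1) (h.nd.orderOf_eq_two hs hs1) hodd
  have hjX : j ∈ OX (DD h.toSetup) := by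
    have : closure ({t, s} : Set (LL h.toSetup)) ≤ OX (DD h.toSetup) := by
      rw [closure_le]
      rintro x (rfl | rfl)
      · exact syl_le_OX h.Tb ht
      · exact syl_le_OX T' hs
    exact this hj
  have hjT : j • h.Tb = T' := by
    refine h.nd.ti (t := s) ?_ hs hs1
    rw [mem_smul_syl, ← hj1]
    have e : j⁻¹ * (j * t * j⁻¹) * j = t := by group
    rw [e]; exact ht
  obtain ⟨y, hy, rfl⟩ := h.exists_lift hjX
  obtain ⟨p, hp, b, hb, rfl⟩ := XX_decomp h.toSetup hy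
  have hbX := h.BB_le_XX hb
  have hbN := h.XX_le_N hbX
  have hbT : rr h.toSetup ⟨b, hbN⟩ • h.Tb ≠ h.Tb := by
    intro e
    apply hne
    rw [← hjT]
    have e1 : rr h.toSetup ⟨p * b, h.XX_le_N hy⟩ = rr h.toSetup ⟨p, h.P_le_N hp⟩ * rr h.toSetup ⟨b, hbN⟩ := by
      rw [← map_mul]; rfl
    rw [e1, mul_smul, e]
    symm
    rw [smul_eq_iff_mem_normalizer]
    exact le_normalizer (h.mem_Tb.2 ⟨p, hp, rfl⟩)
  have key1 : ∀ z ∈ Om (P : Subgroup G), b⁻¹ * z * b ∈ Om (P : Subgroup G) → z ∈ UE (P : Subgroup G) E := by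
    intro z hz hbz
    have hzV := h.Om_le_VV hz
    have h1 : (⟨z, hzV⟩ : ↥(VV (P : Subgroup G) E)) ∈ UU (DD h.toSetup) ↥(VV (P : Subgroup G) E) := by
      rw [h.nd.UU_eq hbT]
      refine mem_inf.2 ⟨?_, ?_⟩
      · rw [mem_cv_smul_syl, ← h.img_P, h.mem_cv_img h.P_le_N]
        intro a ha
        have e2 : (((rr h.toSetup ⟨b, hbN⟩)⁻¹ • (⟨z, hzV⟩ : ↥(VV (P : Subgroup G) E)) :
            ↥(VV (P : Subgroup G) E)) : G) = b⁻¹ * z * b := by
          rw [← map_inv]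
          change b⁻¹ * z * (b⁻¹)⁻¹ = _
          rw [inv_inv]
        rw [e2, (mem_Om.1 hbz).2.1 a ha]; group
      · rw [← h.img_P, h.mem_cv_img h.P_le_N]
        intro a ha
        change a * z * a⁻¹ = z
        rw [(mem_Om.1 hz).2.1 a ha]; group
    exact h.mem_UU_iff.1 h1
  refine ⟨b, hb, key1, fun z hz hbz => ?_⟩
  have h1 := key1 (b * z * b⁻¹) hbz (by
    have e : b⁻¹ * (b * z * b⁻¹) * b = z := by group
    rw [e]; exact hz)
  have h2 := h.UE_conj (inv_mem hbN) h1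
  have e : b⁻¹ * (b * z * b⁻¹) * b⁻¹⁻¹ = z := by group
  rwa [e] at h2

/-! ### the subgroup `U = V_E V_K` -/

/-- two essential subgroups which are not adjacent -/
structure Non (P : Syl 𝒜) (E K : Subgroup G) : Prop where
  gi : Good P E
  gk : Good P K
  ik : VV (P : Subgroup G) E ≤ K
  ki : VV (P : Subgroup G) K ≤ E
  mul : ∀ p ∈ (P : Subgroup G), ∃ k ∈ K, ∃ x ∈ E, p = k * x

omit h𝒜 [Finite G] in
theorem mem_centralizer_iff' {U : Subgroup G} {x : G} : x ∈ centralizer (U : Set G) ↔ ∀ u ∈ U, x * u * x⁻¹ = u := by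
  rw [mem_centralizer_iff]
  refine forall₂_congr fun u _ => ?_
  constructor
  · intro h; rw [← h]; group
  · intro h; calc u * x = (x * u * x⁻¹) * x := by rw [h]
      _ = x * u := by group

omit h𝒜 [Finite G] in
theorem conj_mem_centralizer {U : Subgroup G} {x y : G} (hx : x ∈ normalizer (U : Set G))
    (hy : y ∈ centralizer (U : Set G)) : x * y * x⁻¹ ∈ centralizer (U : Set G) := by
  rw [mem_centralizer_iff'] at hy ⊢
  intro u hu
  have h1 : x⁻¹ * u * x ∈ U := by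
    have := (mem_normalizer_iff.1 (inv_mem hx) u).1 hu
    simpa using this
  have h2 := hy _ h1
  calc x * y * x⁻¹ * u * (x * y * x⁻¹)⁻¹ = x * (y * (x⁻¹ * u * x) * y⁻¹) * x⁻¹ := by group
    _ = u := by rw [h2]; group

namespace Non

theorem of_edge (e : Edge P E F) (e' : Edge P K L) (h1 : K ≠ E) (h2 : K ≠ F) : Non P E K :=
  ⟨e.gi, e'.gi, VV_le_of_ne e e'.gi.toSetup h2, VV_le_of_ne' e e'.gi.toSetup h2,
    fun _ hp => exists_mul_KE e e' h1 h2 hp⟩

variable (n : Non P E K)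
include n

theorem symm : Non P K E where
  gi := n.gk
  gk := n.gi
  ik := n.ki
  ki := n.ik
  mul := by
    intro p hp
    obtain ⟨k, hk, x, hx, hp'⟩ := n.mul p⁻¹ (inv_mem hp)
    refine ⟨x⁻¹, inv_mem hx, k⁻¹, inv_mem hk, ?_⟩
    rw [← mul_inv_rev, ← hp', inv_inv]

theorem not_le : ¬ K ≤ E := by
  intro hle
  have : (P : Subgroup G) ≤ E := by
    intro p hp
    obtain ⟨k, hk, x, hx, rfl⟩ := n.mul p hp
    exact mul_mem (hle hk) hx
  exact absurd this (not_le_of_gt n.gi.ess.lt)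

theorem mem_sup {u : G} : u ∈ VV (P : Subgroup G) E ⊔ VV (P : Subgroup G) K ↔
    ∃ v ∈ VV (P : Subgroup G) E, ∃ w ∈ VV (P : Subgroup G) K, u = v * w := by
  constructor
  · intro hu
    rw [sup_comm] at hu
    exact exists_mul_of_mem_sup (P := VV (P : Subgroup G) E) (K := VV (P : Subgroup G) K)
      (fun v hv w hw => n.gk.VV_conj (n.gk.P_le_N (n.gi.E_le (n.gi.VV_le_E hv))) hw) hu
  · rintro ⟨v, hv, w, hw, rfl⟩
    exact mul_mem (mem_sup_left hv) (mem_sup_right hw)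

theorem comm {v w : G} (hv : v ∈ VV (P : Subgroup G) E) (hw : w ∈ VV (P : Subgroup G) K) : v * w = w * v :=
  n.gi.VV_comm_E hv (n.ki hw)

/-- `X_E` normalises `V_E V_K` -/
theorem XX_le : XX (P : Subgroup G) E ≤
    normalizer ((VV (P : Subgroup G) E ⊔ VV (P : Subgroup G) K : Subgroup G) : Set G) := by
  refine (XX_le_sup n.gi.toSetup).trans (sup_le ?_ ?_)
  · intro b hb
    apply mem_normalizer_of_conj
    intro u hu
    obtain ⟨v, hv, w, hw, rfl⟩ := n.mem_sup.1 hu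
    have h1 := n.gi.WW_le_VV (n.gi.comm_BB_mem hb (n.ki hw))
    have h2 := n.gi.VV_conj (n.gi.XX_le_N (n.gi.BB_le_XX hb)) hv
    have e : b * (v * w) * b⁻¹ = (b * v * b⁻¹) * ((b * w * b⁻¹ * w⁻¹) * w) := by group
    rw [e]
    exact mul_mem (mem_sup_left h2) (mul_mem (mem_sup_left h1) (mem_sup_right hw))
  · intro p hp
    apply mem_normalizer_of_conj
    intro u hu
    obtain ⟨v, hv, w, hw, rfl⟩ := n.mem_sup.1 hu
    have h1 := n.gi.VV_conj (n.gi.P_le_N hp) hv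
    have h2 := n.gk.VV_conj (n.gk.P_le_N hp) hw
    have e : p * (v * w) * p⁻¹ = (p * v * p⁻¹) * (p * w * p⁻¹) := by group
    rw [e]
    exact mul_mem (mem_sup_left h1) (mem_sup_right h2)

theorem uact : UAct P (VV (P : Subgroup G) E ⊔ VV (P : Subgroup G) K) where
  cl := n.gi.cl
  le := sup_le (n.gi.VV_le_E.trans n.gi.E_le) (n.gk.VV_le_E.trans n.gk.E_le)
  sq := by
    intro u hu
    obtain ⟨v, hv, w, hw, rfl⟩ := n.mem_sup.1 hu
    calc v * w * (v * w) = v * (w * v) * w := by group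
      _ = (v * v) * (w * w) := by rw [← n.comm hv hw]; group
      _ = 1 := by rw [n.gi.VV_sq hv, n.gk.VV_sq hw, mul_one]
  comm := by
    intro u hu u' hu'
    obtain ⟨v, hv, w, hw, rfl⟩ := n.mem_sup.1 hu
    obtain ⟨v', hv', w', hw', rfl⟩ := n.mem_sup.1 hu'
    have c1 : Commute v w := n.comm hv hw
    have c2 : Commute v w' := n.comm hv hw'
    have c3 : Commute v' w := n.comm hv' hw
    have c4 : Commute v' w' := n.comm hv' hw'
    have c5 : Commute v v' := n.gi.VV_comm_E hv (n.gi.VV_le_E hv')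
    have c6 : Commute w w' := n.gk.VV_comm_E hw (n.gk.VV_le_E hw')
    exact ((c5.mul_right c2).mul_left (c3.symm.mul_right c6)).eq
  norm := n.gi.P_le_XX.trans n.XX_le

theorem cent {x : G} (hx : x ∈ E) (hxK : x ∈ K) :
    x ∈ centralizer ((VV (P : Subgroup G) E ⊔ VV (P : Subgroup G) K : Subgroup G) : Set G) := by
  rw [mem_centralizer_iff]
  intro u hu
  obtain ⟨v, hv, w, hw, rfl⟩ := n.mem_sup.1 hu
  have c1 : Commute v x := n.gi.VV_comm_E hv hx
  have c2 : Commute w x := n.gk.VV_comm_E hw hxK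
  exact (c1.mul_left c2).eq

theorem mem_of_cent {x : G} (hx : x ∈ (P : Subgroup G))
    (hc : x ∈ centralizer ((VV (P : Subgroup G) E ⊔ VV (P : Subgroup G) K : Subgroup G) : Set G)) : x ∈ E :=
  n.gi.inf_centralizer_le_E hx (centralizer_le (by exact_mod_cast le_sup_left) hc)

/-- commutators of `t ∈ K \ E` with `V_E V_K` -/
theorem center {t a : G} (ht : t ∈ K)
    (ha : ∀ v ∈ VV (P : Subgroup G) E, (v ∈ Om (P : Subgroup G) → t * v * t⁻¹ * v⁻¹ = 1) ∧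
        (v ∉ Om (P : Subgroup G) → t * v * t⁻¹ * v⁻¹ = a)) :
    ∀ u ∈ VV (P : Subgroup G) E ⊔ VV (P : Subgroup G) K, t * u * t⁻¹ * u⁻¹ = 1 ∨ t * u * t⁻¹ * u⁻¹ = a := by
  intro u hu
  obtain ⟨v, hv, w, hw, rfl⟩ := n.mem_sup.1 hu
  have h1 : t * w * t⁻¹ = w := by
    have := n.gk.VV_comm_E hw ht
    rw [← this]; group
  have e : t * (v * w) * t⁻¹ * (v * w)⁻¹ = t * v * t⁻¹ * v⁻¹ := by
    calc t * (v * w) * t⁻¹ * (v * w)⁻¹ = t * v * t⁻¹ * (t * w * t⁻¹) * w⁻¹ * v⁻¹ := by group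
      _ = _ := by rw [h1]; group
  rw [e]
  by_cases hvO : v ∈ Om (P : Subgroup G)
  · left; exact (ha v hv).1 hvO
  · right; exact (ha v hv).2 hvO

/-- conjugated version -/
theorem center_conj {t a b : G} (hb : b ∈ normalizer
      ((VV (P : Subgroup G) E ⊔ VV (P : Subgroup G) K : Subgroup G) : Set G))
    (ha : ∀ u ∈ VV (P : Subgroup G) E ⊔ VV (P : Subgroup G) K, t * u * t⁻¹ * u⁻¹ = 1 ∨ t * u * t⁻¹ * u⁻¹ = a) :
    ∀ u ∈ VV (P : Subgroup G) E ⊔ VV (P : Subgroup G) K,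
      (b * t * b⁻¹) * u * (b * t * b⁻¹)⁻¹ * u⁻¹ = 1 ∨ (b * t * b⁻¹) * u * (b * t * b⁻¹)⁻¹ * u⁻¹ = b * a * b⁻¹ := by
  intro u hu
  have h1 : b⁻¹ * u * b ∈ VV (P : Subgroup G) E ⊔ VV (P : Subgroup G) K := by
    have := (mem_normalizer_iff.1 (inv_mem hb) u).1 hu
    simpa using this
  have e : (b * t * b⁻¹) * u * (b * t * b⁻¹)⁻¹ * u⁻¹ =
      b * (t * (b⁻¹ * u * b) * t⁻¹ * (b⁻¹ * u * b)⁻¹) * b⁻¹ := by group
  rw [e]
  rcases ha _ h1 with h2 | h2
  · left; rw [h2]; group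
  · right; rw [h2]

/-- the last step -/
theorem conclude (e : Edge P E F) (hKF : VV (P : Subgroup G) K ≤ F) {t b : G} (htP : t ∈ (P : Subgroup G))
    (ht : t ∈ K) (htE : t ∉ E) (hb : b ∈ BB (P : Subgroup G) E)
    (hbm : ∀ z ∈ Om (P : Subgroup G), b⁻¹ * z * b ∈ Om (P : Subgroup G) → z ∈ UE (P : Subgroup G) E)
    (hW : ∀ w ∈ WW (P : Subgroup G) K, (b * t * b⁻¹) * w * (b * t * b⁻¹)⁻¹ = w) :
    WW (P : Subgroup G) K ≤ CE (P : Subgroup G) E := by
  intro w hw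
  have hwV := n.gk.WW_le_VV hw
  obtain ⟨c, hc, z, hz, hwcz⟩ := e.exists_mul_inf (n.ki hwV) (hKF hwV)
  have h1 := hW w hw
  have hbc : b⁻¹ * c * b = c := by
    have := mem_centralizer_iff.1 hc.2 b hb
    rw [mul_assoc, ← this]; group
  have htc : t * c * t⁻¹ = c := by
    have h2 : t * w * t⁻¹ = w := by
      have := n.gk.VV_comm_E hwV ht
      rw [← this]; group
    have h3 : t * z * t⁻¹ = z := by rw [(mem_Om.1 hz).2.1 t htP]; group
    have e1 : c = w * z⁻¹ := by rw [hwcz]; group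
    calc t * c * t⁻¹ = (t * w * t⁻¹) * (t * z * t⁻¹)⁻¹ := by rw [e1]; group
      _ = c := by rw [h2, h3, e1]
  have h4 : t * (b⁻¹ * z * b) * t⁻¹ = b⁻¹ * z * b := by
    have h5 : t * (b⁻¹ * w * b) * t⁻¹ = b⁻¹ * w * b := by
      have : b⁻¹ * ((b * t * b⁻¹) * w * (b * t * b⁻¹)⁻¹) * b = b⁻¹ * w * b := by rw [h1]
      calc t * (b⁻¹ * w * b) * t⁻¹ = b⁻¹ * ((b * t * b⁻¹) * w * (b * t * b⁻¹)⁻¹) * b := by group
        _ = _ := this
    have e1 : b⁻¹ * w * b = c * (b⁻¹ * z * b) := by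
      rw [hwcz]
      calc b⁻¹ * (c * z) * b = (b⁻¹ * c * b) * (b⁻¹ * z * b) := by group
        _ = _ := by rw [hbc]
    rw [e1] at h5
    have e2 : t * (c * (b⁻¹ * z * b)) * t⁻¹ = c * (t * (b⁻¹ * z * b) * t⁻¹) := by
      calc t * (c * (b⁻¹ * z * b)) * t⁻¹ = (t * c * t⁻¹) * (t * (b⁻¹ * z * b) * t⁻¹) := by group
        _ = _ := by rw [htc]
    rw [e2] at h5
    exact mul_left_cancel h5
  have hbN := n.gi.XX_le_N (n.gi.BB_le_XX hb)
  have h5 : b⁻¹ * z * b ∈ VV (P : Subgroup G) E := by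
    simpa using n.gi.VV_conj (inv_mem hbN) (n.gi.Om_le_VV hz)
  have h6 := n.gi.mem_Om_of_fixed htP htE h5 h4
  rw [hwcz]
  exact mul_mem hc (n.gi.UE_le_CE (hbm z hz h6))

/-- a subgroup of index at most two of `V_K` -/
theorem comm_of_stable {t a y : G}
    (ha : ∀ u ∈ VV (P : Subgroup G) E ⊔ VV (P : Subgroup G) K, t * u * t⁻¹ * u⁻¹ = 1 ∨ t * u * t⁻¹ * u⁻¹ = a)
    (hy : y ∈ normalizer (K : Set G))
    (hst : ∀ v ∈ VV (P : Subgroup G) K, t * v * t⁻¹ = v ↔ t * (y * v * y⁻¹) * t⁻¹ = y * v * y⁻¹)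
    {v : G} (hv : v ∈ VV (P : Subgroup G) K) : t * (y * v * y⁻¹ * v⁻¹) * t⁻¹ = y * v * y⁻¹ * v⁻¹ := by
  have hyv := n.gk.VV_conj hy hv
  have hvi : v⁻¹ = v := inv_eq_of_mul_eq_one_right (n.gk.VV_sq hv)
  by_cases h1 : t * v * t⁻¹ = v
  · have h2 := (hst v hv).1 h1
    calc t * (y * v * y⁻¹ * v⁻¹) * t⁻¹ = (t * (y * v * y⁻¹) * t⁻¹) * (t * v * t⁻¹)⁻¹ := by group
      _ = _ := by rw [h1, h2]
  · have h2 : ¬ t * (y * v * y⁻¹) * t⁻¹ = y * v * y⁻¹ := fun h => h1 ((hst v hv).2 h)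
    have key : ∀ w : G, w ∈ VV (P : Subgroup G) K → ¬ t * w * t⁻¹ = w → t * w * t⁻¹ = a * w := by
      intro w hw hne
      rcases ha w (mem_sup_right hw) with h3 | h3
      · exact absurd (mul_inv_eq_one.1 h3) hne
      · rw [← h3]; group
    have e1 := key _ hv h1
    have e2 := key _ hyv h2
    have hcomm := n.gk.VV_comm_E hyv (n.gk.VV_le_E hv)
    calc t * (y * v * y⁻¹ * v⁻¹) * t⁻¹ = (t * v * t⁻¹)⁻¹ * (t * (y * v * y⁻¹) * t⁻¹) := by
          rw [hvi, hcomm]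
          calc t * (v * (y * v * y⁻¹)) * t⁻¹ = (t * v * t⁻¹) * (t * (y * v * y⁻¹) * t⁻¹) := by group
            _ = _ := by
              have : (t * v * t⁻¹)⁻¹ = t * v * t⁻¹ := by
                calc (t * v * t⁻¹)⁻¹ = t * v⁻¹ * t⁻¹ := by group
                  _ = _ := by rw [hvi]
              rw [this]
      _ = v⁻¹ * (y * v * y⁻¹) := by rw [e1, e2]; group
      _ = _ := by rw [hvi, ← hcomm]

/-- elements centralising each other modulo `C(U)` -/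
theorem stab_of_comm {t s : G} (ht : t ∈ normalizer
      ((VV (P : Subgroup G) E ⊔ VV (P : Subgroup G) K : Subgroup G) : Set G))
    (hsU : s ∈ normalizer
      ((VV (P : Subgroup G) E ⊔ VV (P : Subgroup G) K : Subgroup G) : Set G))
    (hts : (t * s) * (s * t)⁻¹ ∈
      centralizer ((VV (P : Subgroup G) E ⊔ VV (P : Subgroup G) K : Subgroup G) : Set G))
    {v : G} (hv : v ∈ VV (P : Subgroup G) K) :
    t * v * t⁻¹ = v ↔ t * (s * v * s⁻¹) * t⁻¹ = s * v * s⁻¹ := by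
  have hvU : v ∈ VV (P : Subgroup G) E ⊔ VV (P : Subgroup G) K := mem_sup_right hv
  have h1 : s * (t * v * t⁻¹) * s⁻¹ ∈ VV (P : Subgroup G) E ⊔ VV (P : Subgroup G) K :=
    (mem_normalizer_iff.1 hsU _).1 ((mem_normalizer_iff.1 ht _).1 hvU)
  have h2 := mem_centralizer_iff'.1 hts _ h1
  have e : t * (s * v * s⁻¹) * t⁻¹ = s * (t * v * t⁻¹) * s⁻¹ := by
    rw [← h2]; group
  rw [e]
  constructor
  · intro h; rw [h]
  · intro h
    have := congrArg (fun z => s⁻¹ * z * s) h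
    simpa [mul_assoc] using this

/-- the stabiliser of `C_{V_K}(t)` -/
def stab (_n : Non P E K) (t : G) : Subgroup G where
  carrier := {y | y ∈ normalizer (K : Set G) ∧ ∀ v ∈ VV (P : Subgroup G) K,
    (t * v * t⁻¹ = v ↔ t * (y * v * y⁻¹) * t⁻¹ = y * v * y⁻¹)}
  one_mem' := ⟨one_mem _, fun v _ => by simp⟩
  mul_mem' := by
    rintro x y ⟨hx, hx'⟩ ⟨hy, hy'⟩
    refine ⟨mul_mem hx hy, fun v hv => ?_⟩
    rw [hy' v hv, hx' _ (_n.gk.VV_conj hy hv)]
    have e : x * (y * v * y⁻¹) * x⁻¹ = x * y * v * (x * y)⁻¹ := by group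
    rw [e]
  inv_mem' := by
    rintro x ⟨hx, hx'⟩
    refine ⟨inv_mem hx, fun v hv => ?_⟩
    have h1 := hx' _ (_n.gk.VV_conj (inv_mem hx) hv)
    have e : x * (x⁻¹ * v * x⁻¹⁻¹) * x⁻¹ = v := by group
    rw [e] at h1
    exact h1.symm

theorem WW_fix {t a : G}
    (ha : ∀ u ∈ VV (P : Subgroup G) E ⊔ VV (P : Subgroup G) K, t * u * t⁻¹ * u⁻¹ = 1 ∨ t * u * t⁻¹ * u⁻¹ = a)
    (hst : BB (P : Subgroup G) K ≤ n.stab t) {w : G} (hw : w ∈ WW (P : Subgroup G) K) : t * w * t⁻¹ = w := by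
  have h1 : WW (P : Subgroup G) K ≤ centralizer ({t} : Set G) := by
    unfold WW
    rw [commutator_le]
    intro y hy v hv
    rw [mem_centralizer_singleton_iff]
    have h2 := n.comm_of_stable ha (hst hy).1 (hst hy).2 hv
    rw [commutatorElement_def]
    symm
    calc t * (y * v * y⁻¹ * v⁻¹) = (t * (y * v * y⁻¹ * v⁻¹) * t⁻¹) * t := by group
      _ = _ := by rw [h2]
  have := mem_centralizer_singleton_iff.1 (h1 hw)
  rw [← this]; group

theorem K_le_stab (t : G) : K ≤ n.stab t := by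
  intro x hx
  refine ⟨le_normalizer hx, fun v hv => ?_⟩
  have h1 : x * v * x⁻¹ = v := by
    rw [← n.gk.VV_comm_E hv hx]; group
  rw [h1]

/-- case `|P : K| = 2` -/
theorem stab_case_two (hqK : K.relIndex (P : Subgroup G) = 2) {t a b : G}
    (htP : t ∈ (P : Subgroup G)) (ht : t ∈ K) (hb : b ∈ BB (P : Subgroup G) E)
    (haV : a ∈ WW (P : Subgroup G) E) (haO : a ∈ Om (P : Subgroup G)) (haU : a ∉ UE (P : Subgroup G) E)
    (ha : ∀ v ∈ VV (P : Subgroup G) E, (v ∈ Om (P : Subgroup G) → t * v * t⁻¹ * v⁻¹ = 1) ∧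
        (v ∉ Om (P : Subgroup G) → t * v * t⁻¹ * v⁻¹ = a))
    (hb1 : ∀ z ∈ Om (P : Subgroup G), b⁻¹ * z * b ∈ Om (P : Subgroup G) → z ∈ UE (P : Subgroup G) E)
    (hb2 : ∀ z ∈ Om (P : Subgroup G), b * z * b⁻¹ ∈ Om (P : Subgroup G) → z ∈ UE (P : Subgroup G) E) :
    XX (P : Subgroup G) K ≤ n.stab (b * t * b⁻¹) := by
  have hbN : b ∈ normalizer (E : Set G) := n.gi.XX_le_N (n.gi.BB_le_XX hb)
  have hbU : b ∈ normalizer ((VV (P : Subgroup G) E ⊔ VV (P : Subgroup G) K : Subgroup G) : Set G) :=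
    n.XX_le (n.gi.BB_le_XX hb)
  have hPU := n.uact.norm
  have haVV := n.gi.WW_le_VV haV
  have hca := n.center ht ha
  have hca' := n.center_conj hbU hca
  have hbaV : b * a * b⁻¹ ∈ VV (P : Subgroup G) E := n.gi.VV_conj hbN haVV
  have hbaV' : b⁻¹ * a * b ∈ VV (P : Subgroup G) E := by simpa using n.gi.VV_conj (inv_mem hbN) haVV
  have h1 : t * (b * a * b⁻¹) * t⁻¹ * (b * a * b⁻¹)⁻¹ = a :=
    (ha _ hbaV).2 (fun h => haU (hb2 a haO h))
  have h2 : (b * t * b⁻¹) * a * (b * t * b⁻¹)⁻¹ * a⁻¹ = b * a * b⁻¹ := by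
    have h3 := (ha _ hbaV').2 (fun h => haU (hb1 a haO h))
    have e : (b * t * b⁻¹) * a * (b * t * b⁻¹)⁻¹ * a⁻¹ =
        b * (t * (b⁻¹ * a * b) * t⁻¹ * (b⁻¹ * a * b)⁻¹) * b⁻¹ := by group
    rw [e, h3]
  obtain ⟨s, hs, hsK⟩ := SetLike.not_le_iff_exists.1 n.symm.not_le
  have hsP : s ∈ (P : Subgroup G) := n.gi.E_le hs
  obtain ⟨c, hc, -, -, hcc⟩ := exists_center n.gk hqK hsP hsK
  have hcs := n.symm.center hs hcc
  -- conjugates of `s`
  have key : ∀ y ∈ XX (P : Subgroup G) K, y * s * y⁻¹ ∈ n.stab (b * t * b⁻¹) := by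
    intro y hy
    have hyN := n.gk.XX_le_N hy
    have hyU : y ∈ normalizer ((VV (P : Subgroup G) E ⊔ VV (P : Subgroup G) K : Subgroup G) : Set G) := by
      have := n.symm.XX_le hy
      rwa [sup_comm] at this
    have hcs' : ∀ u ∈ VV (P : Subgroup G) E ⊔ VV (P : Subgroup G) K,
        (y * s * y⁻¹) * u * (y * s * y⁻¹)⁻¹ * u⁻¹ = 1 ∨
        (y * s * y⁻¹) * u * (y * s * y⁻¹)⁻¹ * u⁻¹ = y * c * y⁻¹ := by
      refine n.center_conj hyU (fun u hu => hcs u ?_)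
      rwa [sup_comm]
    have hsU := hPU hsP
    have hs'U : y * s * y⁻¹ ∈ normalizer
        ((VV (P : Subgroup G) E ⊔ VV (P : Subgroup G) K : Subgroup G) : Set G) :=
      mul_mem (mul_mem hyU hsU) (inv_mem hyU)
    have ht'U : b * t * b⁻¹ ∈ normalizer
        ((VV (P : Subgroup G) E ⊔ VV (P : Subgroup G) K : Subgroup G) : Set G) :=
      mul_mem (mul_mem hbU (hPU htP)) (inv_mem hbU)
    refine ⟨mul_mem (mul_mem hyN (n.gk.P_le_N hsP)) (inv_mem hyN), fun v hv => ?_⟩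
    refine n.stab_of_comm ht'U hs'U ?_ hv
    refine n.uact.comm_of_braid (t := t) (P.mem htP) (hPU htP) (smul_mem_fam (P.mem htP) b) ht'U
      (smul_mem_fam (P.mem hsP) y) hs'U (a := a) (a' := b * a * b⁻¹) (c := y * c * y⁻¹)
      (mem_sup_left haVV) (mem_sup_left hbaV) (mem_sup_right (n.gk.VV_conj hyN (n.gk.WW_le_VV hc)))
      hca hca' hcs' h1 h2 ?_ ?_
    · -- `[t, s'] ∈ C(U)`
      have hk : y⁻¹ * t * y ∈ K := by simpa using n.gk.E_conj (inv_mem hyN) ht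
      have h3 := Setup.comm_mem_Zc n.gi.cl (n.gk.E_le hk) hsP
      have h4 : (y⁻¹ * t * y) * s * (y⁻¹ * t * y)⁻¹ * s⁻¹ ∈
          centralizer ((VV (P : Subgroup G) E ⊔ VV (P : Subgroup G) K : Subgroup G) : Set G) :=
        centralizer_le (by exact_mod_cast n.uact.le) h3.1
      have h5 := conj_mem_centralizer hyU h4
      have e : (t * (y * s * y⁻¹)) * ((y * s * y⁻¹) * t)⁻¹ =
          y * ((y⁻¹ * t * y) * s * (y⁻¹ * t * y)⁻¹ * s⁻¹) * y⁻¹ := by group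
      rw [e]; exact h5
    · intro hcon
      apply hsK
      refine n.gk.inf_centralizer_le_E hsP ?_
      have h3 : (t * (y * s * y⁻¹)⁻¹)⁻¹ * t ∈ centralizer (VV (P : Subgroup G) K : Set G) := by
        refine mul_mem (inv_mem (centralizer_le (by exact_mod_cast le_sup_right) hcon)) ?_
        rw [mem_centralizer_iff]
        intro v hv
        exact n.gk.VV_comm_E hv ht
      have h4 := conj_mem_centralizer (n.gk.N_le_N (inv_mem hyN)) h3
      have e : y⁻¹ * ((t * (y * s * y⁻¹)⁻¹)⁻¹ * t) * y⁻¹⁻¹ = s := by group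
      rwa [e] at h4
  -- generators
  refine ncl_le fun m hm p hp => ?_
  obtain ⟨x, hx, m', hm', rfl⟩ := N_decomp n.gk.toSetup hm
  have hp' : m' * p * m'⁻¹ ∈ (P : Subgroup G) := (mem_normalizer_iff.1 hm'.2 p).1 hp
  have e : x * m' * p * (x * m')⁻¹ = x * (m' * p * m'⁻¹) * x⁻¹ := by group
  rw [e]
  by_cases hpK : m' * p * m'⁻¹ ∈ K
  · exact n.K_le_stab _ (n.gk.E_conj (n.gk.XX_le_N hx) hpK)
  · have h3 := two_mem hqK hp' hsP hpK hsK
    have e2 : x * (m' * p * m'⁻¹) * x⁻¹ = (x * (m' * p * m'⁻¹ * s⁻¹) * x⁻¹) * (x * s * x⁻¹) := by group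
    rw [e2]
    exact mul_mem (n.K_le_stab _ (n.gk.E_conj (n.gk.XX_le_N hx) h3)) (key x hx)

/-- elements of `P` with at most one nontrivial commutator lie in `K` -/
theorem mem_K_of_rank (hqK : 4 ≤ K.relIndex (P : Subgroup G)) {p c : G} (hp : p ∈ (P : Subgroup G))
    (hc : ∀ u ∈ VV (P : Subgroup G) E ⊔ VV (P : Subgroup G) K, p * u * p⁻¹ * u⁻¹ = 1 ∨ p * u * p⁻¹ * u⁻¹ = c) :
    p ∈ K := by
  by_contra hpK
  have h0 : ∀ v ∈ VV (P : Subgroup G) K, v ∉ Om (P : Subgroup G) → p * v * p⁻¹ = c * v := by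
    intro v hv hvO
    rcases hc v (mem_sup_right hv) with h1 | h1
    · exact absurd (n.gk.mem_Om_of_fixed hp hpK hv (mul_inv_eq_one.1 h1)) hvO
    · rw [← h1]; group
  have h1 : ∀ v ∈ VV (P : Subgroup G) K, ∀ w ∈ VV (P : Subgroup G) K, v ∉ Om (P : Subgroup G) →
      w ∉ Om (P : Subgroup G) → v⁻¹ * w ∈ Om (P : Subgroup G) := by
    intro v hv w hw hvO hwO
    refine n.gk.mem_Om_of_fixed hp hpK (mul_mem (inv_mem hv) hw) ?_
    calc p * (v⁻¹ * w) * p⁻¹ = (p * v * p⁻¹)⁻¹ * (p * w * p⁻¹) := by group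
      _ = v⁻¹ * w := by rw [h0 v hv hvO, h0 w hw hwO]; group
  have h2 : (Om (P : Subgroup G)).relIndex (VV (P : Subgroup G) K) ≤ 2 := by
    by_cases h3 : VV (P : Subgroup G) K ≤ Om (P : Subgroup G)
    · rw [relIndex_eq_one.2 h3]; norm_num
    · obtain ⟨v, hv, hvO⟩ := SetLike.not_le_iff_exists.1 h3
      have h4 : ((Om (P : Subgroup G)).subgroupOf (VV (P : Subgroup G) K)).index = 2 := by
        rw [index_eq_two_iff]
        refine ⟨⟨v, hv⟩, fun w => ?_⟩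
        simp only [mem_subgroupOf]
        by_cases hw : (w : G) ∈ Om (P : Subgroup G)
        · right
          refine ⟨hw, fun h5 => hvO ?_⟩
          have := mul_mem (inv_mem hw) h5
          simpa using this
        · left
          refine ⟨?_, hw⟩
          have := h1 (w : G)⁻¹ (inv_mem w.2) v hv (fun h5 => hw (by simpa using h5)) hvO
          simpa using this
      exact h4.le
  rw [n.gk.relIndex_Om] at h2
  omega

/-- case `|P : K| ≥ 4` -/
theorem stab_case_four (hq : E.relIndex (P : Subgroup G) = 2) (hqK : 4 ≤ K.relIndex (P : Subgroup G))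
    (h6 : WW (P : Subgroup G) E ≤ CE (P : Subgroup G) K) {t a b : G}
    (htP : t ∈ (P : Subgroup G)) (ht : t ∈ K) (htE : t ∉ E) (hb : b ∈ BB (P : Subgroup G) E)
    (haV : a ∈ WW (P : Subgroup G) E) (haO : a ∈ Om (P : Subgroup G)) (haU : a ∉ UE (P : Subgroup G) E)
    (ha : ∀ v ∈ VV (P : Subgroup G) E, (v ∈ Om (P : Subgroup G) → t * v * t⁻¹ * v⁻¹ = 1) ∧
        (v ∉ Om (P : Subgroup G) → t * v * t⁻¹ * v⁻¹ = a))
    (hb1 : ∀ z ∈ Om (P : Subgroup G), b⁻¹ * z * b ∈ Om (P : Subgroup G) → z ∈ UE (P : Subgroup G) E) :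
    BB (P : Subgroup G) K ≤ n.stab (b * t * b⁻¹) := by
  have hbN : b ∈ normalizer (E : Set G) := n.gi.XX_le_N (n.gi.BB_le_XX hb)
  have hbU : b ∈ normalizer ((VV (P : Subgroup G) E ⊔ VV (P : Subgroup G) K : Subgroup G) : Set G) :=
    n.XX_le (n.gi.BB_le_XX hb)
  have hPU := n.uact.norm
  have haVV := n.gi.WW_le_VV haV
  have hca := n.center ht ha
  have hca' := n.center_conj hbU hca
  have hbaW : b * a * b⁻¹ ∈ WW (P : Subgroup G) E := n.gi.WW_conj hbN haV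
  have hbaV : b * a * b⁻¹ ∈ VV (P : Subgroup G) E := n.gi.WW_le_VV hbaW
  have hbaV' : b⁻¹ * a * b ∈ VV (P : Subgroup G) E := by simpa using n.gi.VV_conj (inv_mem hbN) haVV
  have h2 : (b * t * b⁻¹) * a * (b * t * b⁻¹)⁻¹ * a⁻¹ = b * a * b⁻¹ := by
    have h3 := (ha _ hbaV').2 (fun h => haU (hb1 a haO h))
    have e : (b * t * b⁻¹) * a * (b * t * b⁻¹)⁻¹ * a⁻¹ =
        b * (t * (b⁻¹ * a * b) * t⁻¹ * (b⁻¹ * a * b)⁻¹) * b⁻¹ := by group
    rw [e, h3]
  have ha1 : a ≠ 1 := fun h => haU (h ▸ one_mem _)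
  have ht'n : b * t * b⁻¹ ∉ centralizer
      ((VV (P : Subgroup G) E ⊔ VV (P : Subgroup G) K : Subgroup G) : Set G) := by
    intro hcon
    have h3 := mem_centralizer_iff'.1 hcon a (mem_sup_left haVV)
    rw [h3, mul_inv_cancel] at h2
    exact ha1 (conj_eq_one_iff.1 h2.symm)
  have ht'U : b * t * b⁻¹ ∈ normalizer
      ((VV (P : Subgroup G) E ⊔ VV (P : Subgroup G) K : Subgroup G) : Set G) :=
    mul_mem (mul_mem hbU (hPU htP)) (inv_mem hbU)
  intro y hy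
  have hyX := n.gk.BB_le_XX hy
  have hyN := n.gk.XX_le_N hyX
  have hyU : y ∈ normalizer ((VV (P : Subgroup G) E ⊔ VV (P : Subgroup G) K : Subgroup G) : Set G) := by
    have := n.symm.XX_le hyX
    rwa [sup_comm] at this
  refine ⟨hyN, fun v hv => ?_⟩
  have hya : y * (b * a * b⁻¹) * y⁻¹ = b * a * b⁻¹ := by
    have := mem_centralizer_iff.1 (h6 hbaW).2 y hy
    rw [this]; group
  have heU : y * (b * t * b⁻¹) * y⁻¹ ∈ normalizer
      ((VV (P : Subgroup G) E ⊔ VV (P : Subgroup G) K : Subgroup G) : Set G) :=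
    mul_mem (mul_mem hyU ht'U) (inv_mem hyU)
  have hea := n.center_conj hyU hca'
  rw [hya] at hea
  have hfin := n.uact.eq_of_unique (t := t) (t' := b * t * b⁻¹) (e := y * (b * t * b⁻¹) * y⁻¹)
    (smul_mem_fam (P.mem htP) b) ht'U (smul_mem_fam (smul_mem_fam (P.mem htP) b) y) heU
    (mem_sup_left hbaV) hca' hea ht'n (by
      intro hcon
      apply ht'n
      have h3 := conj_mem_centralizer (inv_mem hyU) hcon
      have e : y⁻¹ * (y * (b * t * b⁻¹) * y⁻¹) * y⁻¹⁻¹ = b * t * b⁻¹ := by group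
      rwa [e] at h3) (by
      intro p hp c _ hpc hpn
      have hpK := n.mem_K_of_rank hqK hp hpc
      have hpE : p ∉ E := fun h => hpn (n.cent h hpK)
      exact n.cent (two_mem hq hp htP hpE htE) (mul_mem hpK (inv_mem ht)))
  -- `t' e⁻¹ ∈ C(U)`
  have hyvV : y * v * y⁻¹ ∈ VV (P : Subgroup G) K := n.gk.VV_conj hyN hv
  have h3 : (y * (b * t * b⁻¹) * y⁻¹) * (y * v * y⁻¹) * (y * (b * t * b⁻¹) * y⁻¹)⁻¹ ∈
      VV (P : Subgroup G) E ⊔ VV (P : Subgroup G) K :=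
    (mem_normalizer_iff.1 heU _).1 (mem_sup_right hyvV)
  have h4 := mem_centralizer_iff'.1 hfin _ h3
  set t' := b * t * b⁻¹ with ht'
  have e1 : t' * (y * v * y⁻¹) * t'⁻¹ = y * (t' * v * t'⁻¹) * y⁻¹ := by
    calc t' * (y * v * y⁻¹) * t'⁻¹ = (t' * (y * t' * y⁻¹)⁻¹) *
          ((y * t' * y⁻¹) * (y * v * y⁻¹) * (y * t' * y⁻¹)⁻¹) * (t' * (y * t' * y⁻¹)⁻¹)⁻¹ := by group
      _ = (y * t' * y⁻¹) * (y * v * y⁻¹) * (y * t' * y⁻¹)⁻¹ := h4
      _ = y * (t' * v * t'⁻¹) * y⁻¹ := by group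
  rw [e1]
  constructor
  · intro h; rw [h]
  · intro h
    have := congrArg (fun z => y⁻¹ * z * y) h
    simpa [mul_assoc] using this

end Non

theorem relIndex_ne (h : Good P K) (h2 : K.relIndex (P : Subgroup G) ≠ 2) : 4 ≤ K.relIndex (P : Subgroup G) := by
  haveI : Fact (Nat.Prime 2) := ⟨Nat.prime_two⟩
  obtain ⟨m, hm⟩ := P.ds.1.index (K.subgroupOf (P : Subgroup G))
  have h3 : K.relIndex (P : Subgroup G) = 2 ^ m := hm
  have h4 := h.two_le
  rw [h3] at h2 h4 ⊢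
  match m, h2, h4 with
  | 0, _, h4 => norm_num at h4
  | 1, h2, _ => norm_num at h2
  | (k + 2), _, _ =>
    have : 1 ≤ 2 ^ k := Nat.one_le_two_pow
    rw [pow_add]; omega

/-- `|P : E| = 2` -/
theorem six2 (e : Edge P E F) (e' : Edge P K L) (h1 : K ≠ E) (h2 : K ≠ F)
    (hq : E.relIndex (P : Subgroup G) = 2)
    (h6 : 4 ≤ K.relIndex (P : Subgroup G) → WW (P : Subgroup G) E ≤ CE (P : Subgroup G) K) :
    WW (P : Subgroup G) K ≤ CE (P : Subgroup G) E := by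
  have n := Non.of_edge e e' h1 h2
  have hKF : VV (P : Subgroup G) K ≤ F := (Non.of_edge e.symm e' h2 h1).ki
  obtain ⟨t, ht, htE⟩ := SetLike.not_le_iff_exists.1 n.not_le
  have htP := n.gk.E_le ht
  obtain ⟨a, haW, haO, haU, ha⟩ := exists_center n.gi hq htP htE
  obtain ⟨b, hb, hb1, hb2⟩ := exists_move n.gi
  have hbU : b ∈ normalizer ((VV (P : Subgroup G) E ⊔ VV (P : Subgroup G) K : Subgroup G) : Set G) :=
    n.XX_le (n.gi.BB_le_XX hb)
  refine n.conclude e hKF htP ht htE hb hb1 (fun w hw => ?_)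
  refine n.WW_fix (n.center_conj hbU (n.center ht ha)) ?_ hw
  by_cases hqK : K.relIndex (P : Subgroup G) = 2
  · exact n.gk.BB_le_XX.trans (n.stab_case_two hqK htP ht hb haW haO haU ha hb1 hb2)
  · exact n.stab_case_four hq (relIndex_ne n.gk hqK) (h6 (relIndex_ne n.gk hqK)) htP ht htE hb haW haO haU
      ha hb1

end Cfsg.Agent.ClassTwoFusion.RelSix2
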