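import Mathlib
import Cfsg.Agent.ClassTwoFusion.RelFus

/-!
# Step (6A): non-adjacent `W`'s are centralised, `q ≥ 4`

`six4`: for two different edges `{E,F}`, `{K,L}` and `|P:E| ≥ 4`, `W_K ≤ C_E(B_E)`.
-/

set_option autoImplicit false

namespace Cfsg.Agent.ClassTwoFusion.RelSix4

open Subgroup Cfsg.Agent.ClassTwoFusion.Gen Cfsg.Agent.ClassTwoFusion.RelAlperin
open Cfsg.Agent.TwoFusion.ClosedFam Cfsg.Agent.ClassTwoFusion.RelSyl
open Cfsg.Agent.ClassTwoFusion.Local (ncl le_ncl conj_mem_ncl ncl_le ncl_le_of_le oddGen oddGen_le mem_oddGen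
  conj_mem_oddGen actTriv conj_mem_actTriv Cl2 Zc Om mem_Zc mem_Om Om_le_Zc Zc_le VF VV XX BB
  mem_normalizer_of_conj UE pow_mod WW CE)
open Cfsg.Agent.ClassTwoFusion.Quad (cv mem_cv mem_cv_singleton cv_anti d)
open Cfsg.Agent.ClassTwoFusion.RelQuad
open Cfsg.Agent.ClassTwoFusion.RelLocal
open Cfsg.Agent.ClassTwoFusion.RelFus (XX_decomp N_decomp)
open scoped Pointwise

/-! ### an element centralising `T` -/

section ND

variable {L V : Type*} [Group L] [Group V] [MulDistribMulAction L V]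
variable {𝒟 : Set L} [h𝒟 : Fact (IsClosedFam 𝒟)] [Finite L] [Finite V]

theorem commute_OX_of_fix (h : ND 𝒟 V) {T : Syl 𝒟} {x : L}
    (hxT : ∀ t ∈ (T : Subgroup L), x * t = t * x) (hfix : ∀ T' : Syl 𝒟, x • T' = T') :
    ∀ y ∈ OX 𝒟, x * y = y * x := by
  have key : ∀ T' : Syl 𝒟, ∀ s ∈ (T' : Subgroup L), x * s = s * x := by
    intro T' s hs
    by_cases hTT : T' = T
    · rw [hTT] at hs; exact hxT s hs
    by_cases hs1 : s = 1
    · rw [hs1]; simp
    have h1 : x * s * x⁻¹ ∈ (T' : Subgroup L) := by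
      have h2 := hfix T'
      rw [← h2, mem_smul_syl]
      have e : x⁻¹ * (x * s * x⁻¹) * x = s := by group
      rw [e]; exact hs
    have h2 : (s⁻¹ * (x * s * x⁻¹)) • T = T := by
      rw [mul_smul, mul_smul, mul_smul]
      have h3 : x⁻¹ • T = T := by
        rw [inv_smul_eq_iff, hfix]
      rw [h3, hfix (s • T), inv_smul_smul]
    have h3 : s⁻¹ * (x * s * x⁻¹) ∈ (T' : Subgroup L) := mul_mem (inv_mem hs) h1
    have h4 : s⁻¹ * (x * s * x⁻¹) = 1 := by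
      by_contra hne1
      set u := s⁻¹ * (x * s * x⁻¹) with hu
      have hun : u ∈ normalizer ((T : Subgroup L) : Set L) :=
        smul_eq_iff_mem_normalizer.1 h2
      have huT : u ∈ (T : Subgroup L) := mem_of_mem_normalizer T (T'.mem h3) hun
      exact hTT (h.ti h3 huT hne1)
    have h5 : x * s * x⁻¹ = s := by
      rw [inv_mul_eq_one] at h4; exact h4.symm
    calc x * s = x * s * x⁻¹ * x := by group
      _ = s * x := by rw [h5]
  intro y hy
  have hle : OX 𝒟 ≤ centralizer ({x} : Set L) := by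
    refine iSup_le (fun T' s hs => ?_)
    rw [mem_centralizer_singleton_iff]
    exact (key T' s hs).symm
  have := hle hy
  rw [mem_centralizer_singleton_iff] at this
  exact this.symm

/-- An element centralising `T` centralises `OX` up to an element of `T`. -/
theorem exists_commute_OX (h : ND 𝒟 V) {T : Syl 𝒟} {x : L}
    (hxT : ∀ t ∈ (T : Subgroup L), x * t = t * x) :
    ∃ t ∈ (T : Subgroup L), ∀ y ∈ OX 𝒟, (t * x) * y = y * (t * x) := by
  have hxT' : x • T = T := by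
    refine Syl.ext ?_
    ext t
    rw [mem_smul_syl]
    constructor
    · intro ht
      have := hxT _ ht
      have e : t = x⁻¹ * t * x := by
        have h5 : x * (x⁻¹ * t * x) = t * x := by group
        rw [h5] at this
        exact mul_right_cancel this
      rw [e]; exact ht
    · intro ht
      have := hxT t ht
      have e : x⁻¹ * t * x = t := by rw [mul_assoc, ← this, inv_mul_cancel_left]
      rw [e]; exact ht
  obtain ⟨T', hne⟩ := h.exists_ne' T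
  rcases h.sylow_eq hne (x • T') with h1 | ⟨t, ht, h1⟩
  · exfalso
    apply hne
    have : x • T' = x • T := by rw [h1, hxT']
    exact (smul_left_cancel x this).symm
  · have hyT : ∀ s ∈ (T : Subgroup L), (t⁻¹ * x) * s = s * (t⁻¹ * x) := by
      intro s hs
      have h3 := h.q.mul_comm' T.ds (inv_mem ht) hs
      calc (t⁻¹ * x) * s = t⁻¹ * (x * s) := by group
        _ = (t⁻¹ * s) * x := by rw [hxT s hs]; group
        _ = s * (t⁻¹ * x) := by rw [h3]; group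
    have hy : (t⁻¹ * x) • T' = T' := by rw [mul_smul, h1, inv_smul_smul]
    have hyT1 : (t⁻¹ * x) • T = T := by
      rw [mul_smul, hxT', smul_eq_iff_mem_normalizer]
      exact inv_mem (le_normalizer ht)
    refine ⟨t⁻¹, inv_mem ht, commute_OX_of_fix h hyT fun S => ?_⟩
    rcases h.sylow_eq hne S with rfl | ⟨s, hs, rfl⟩
    · exact hyT1
    · rw [← mul_smul, hyT s hs, mul_smul, hy]

end ND

/-! ### the step -/

variable {G : Type*} [Group G] {𝒜 : Set G} [h𝒜 : Fact (IsClosedFam 𝒜)] [Finite G] {P : Syl 𝒜}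
  {E F K L : Subgroup G}

/-- non adjacent `V`'s -/
theorem VV_le_left (e' : Edge P K L) (e : Edge P E F) (_h1 : K ≠ E) (h2 : K ≠ F) :
    VV (P : Subgroup G) K ≤ E := by
  by_contra hcon
  have e1 : Edge P K E := edge_of_not_le e'.gi.toSetup e.gi.toSetup hcon
  exact h2 (e.unique e1.symm)

theorem Om_conj {b z : G} (hb : b ∈ normalizer ((P : Subgroup G) : Set G)) (hz : z ∈ Om (P : Subgroup G)) :
    b * z * b⁻¹ ∈ Om (P : Subgroup G) := by
  obtain ⟨h1, h2, h3⟩ := mem_Om.1 hz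
  refine mem_Om.2 ⟨(mem_normalizer_iff.1 hb z).1 h1, fun x hx => ?_, ?_⟩
  · have h4 : b⁻¹ * x * b ∈ (P : Subgroup G) := by
      have := (mem_normalizer_iff.1 (inv_mem hb) x).1 hx
      simpa using this
    have h5 := h2 _ h4
    calc x * (b * z * b⁻¹) = b * ((b⁻¹ * x * b) * z) * b⁻¹ := by group
      _ = b * z * b⁻¹ * x := by rw [h5]; group
  · calc b * z * b⁻¹ * (b * z * b⁻¹) = b * (z * z) * b⁻¹ := by group
      _ = 1 := by rw [h3]; group

/-- in the configuration of two edges, `E = F`-side elements act like elements of `E` on `V_K` -/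
theorem comm_mem_CE_of_P (e : Edge P E F) {v a : G} (hvE : v ∈ E) (hvF : v ∈ F)
    (ha : a ∈ (P : Subgroup G)) : a * v * a⁻¹ * v⁻¹ ∈ CE (P : Subgroup G) E := by
  obtain ⟨x, hx, w, hw, u, hu, rfl⟩ := e.exists_mul_P ha
  have h1 : u * v = v * u := e.gj.VV_comm_E hu hvF
  have h2 : x * w ∈ E := mul_mem hx.1 (e.gi.VV_le_E hw)
  have e1 : x * w * u * v * (x * w * u)⁻¹ * v⁻¹ = (x * w) * v * (x * w)⁻¹ * v⁻¹ := by
    calc x * w * u * v * (x * w * u)⁻¹ * v⁻¹ = x * w * (u * v) * u⁻¹ * (x * w)⁻¹ * v⁻¹ := by group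
      _ = (x * w) * v * (x * w)⁻¹ * v⁻¹ := by rw [h1]; group
  rw [e1]
  exact e.gi.comm_mem_CE h2 hvE

/-- `(6A)`, the core: `[z, b] ∈ U_E` for `b ∈ B_E ∩ N(P)` and `cz ∈ W_K`. -/
theorem comm_mem_UE (e : Edge P E F) (e' : Edge P K L) (h1 : K ≠ E) (h2 : K ≠ F)
    {w c z b : G} (hw : w ∈ WW (P : Subgroup G) K) (hc : c ∈ CE (P : Subgroup G) E)
    (hz : z ∈ Om (P : Subgroup G)) (hwcz : w = c * z)
    (hb : b ∈ BB (P : Subgroup G) E) (hbP : b ∈ normalizer ((P : Subgroup G) : Set G)) :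
    z⁻¹ * (b * z * b⁻¹) ∈ UE (P : Subgroup G) E := by
  have hKE : VV (P : Subgroup G) K ≤ E := VV_le_left e' e h1 h2
  have hKF : VV (P : Subgroup G) K ≤ F := VV_le_left e' e.symm h2 h1
  have hLE : VV (P : Subgroup G) L ≤ E := by
    by_contra hcon
    have e1 : Edge P L E := edge_of_not_le e'.gj.toSetup e.gi.toSetup hcon
    exact h1 (e'.symm.unique e1).symm
  have hEK : VV (P : Subgroup G) E ≤ K := VV_le_symm e'.gi.toSetup e.gi.toSetup hKE
  have hbN : ∀ b ∈ BB (P : Subgroup G) E, b ∈ normalizer (E : Set G) := fun b hb =>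
    e.gi.XX_le_N (e.gi.BB_le_XX hb)
  have hbC : ∀ b ∈ BB (P : Subgroup G) E, ∀ c ∈ CE (P : Subgroup G) E, b * c * b⁻¹ = c := by
    intro b hb c hc
    have := mem_centralizer_iff.1 hc.2 b hb
    rw [this]; group
  -- `b` normalises `V_K`
  have hbV : ∀ b ∈ BB (P : Subgroup G) E, b ∈ normalizer ((P : Subgroup G) : Set G) →
      ∀ v ∈ VV (P : Subgroup G) K, b * v * b⁻¹ ∈ VV (P : Subgroup G) K := by
    intro b hb hbP v hv
    obtain ⟨c, hc, z, hz, rfl⟩ := e.exists_mul_inf (hKE hv) (hKF hv)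
    have e1 : b * (c * z) * b⁻¹ = (c * z) * (z⁻¹ * (b * z * b⁻¹)) := by
      calc b * (c * z) * b⁻¹ = (b * c * b⁻¹) * (b * z * b⁻¹) := by group
        _ = _ := by rw [hbC b hb c hc]; group
    rw [e1]
    exact mul_mem hv (e'.gi.Om_le_VV (mul_mem (inv_mem hz) (Om_conj hbP hz)))
  -- `b` normalises `K`
  have hbKc : ∀ b ∈ BB (P : Subgroup G) E, b ∈ normalizer ((P : Subgroup G) : Set G) →
      ∀ k ∈ K, b * k * b⁻¹ ∈ K := by
    intro b hb hbP k hk
    refine e'.gi.inf_centralizer_le_E ((mem_normalizer_iff.1 hbP k).1 (e'.gi.E_le hk)) ?_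
    rw [mem_centralizer_iff]
    intro v hv
    have h3 := hbV b⁻¹ (inv_mem hb) (inv_mem hbP) v hv
    rw [inv_inv] at h3
    have h4 := e'.gi.VV_comm_E h3 hk
    calc v * (b * k * b⁻¹) = b * ((b⁻¹ * v * b) * k) * b⁻¹ := by group
      _ = b * k * b⁻¹ * v := by rw [h4]; group
  have hbK : b ∈ normalizer (K : Set G) := mem_normalizer_of_conj fun k hk => hbKc b hb hbP k hk
  -- `b` centralises `P / K`
  have hbPK : ∀ x ∈ (P : Subgroup G), b * x * b⁻¹ * x⁻¹ ∈ K := by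
    intro x hx
    obtain ⟨k, hk, a, ha, rfl⟩ := exists_mul_of_mem_sup (P := K) (K := VV (P : Subgroup G) L)
      (fun k hk a ha => e'.gj.VV_conj (e'.gj.P_le_N (e'.gi.E_le hk)) ha) (e'.supi hx)
    have haE := hLE ha
    have haP := e.gi.E_le haE
    have h3 : b * a * b⁻¹ * a⁻¹ ∈ K :=
      hEK (e.gi.WW_le_VV (e.gi.comm_BB_mem hb haE))
    have h4 := hbKc b hb hbP k hk
    have e1 : b * (k * a) * b⁻¹ * (k * a)⁻¹ = (b * k * b⁻¹) * (b * a * b⁻¹ * a⁻¹) * k⁻¹ := by group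
    rw [e1]
    exact mul_mem (mul_mem h4 h3) (inv_mem hk)
  -- correction by an element of `P`
  have hx : ∀ t ∈ (e'.gi.Tb : Subgroup (LL e'.gi.toSetup)),
      rr e'.gi.toSetup ⟨b, hbK⟩ * t = t * rr e'.gi.toSetup ⟨b, hbK⟩ := by
    intro t ht
    obtain ⟨s, hs, rfl⟩ := e'.gi.mem_Tb.1 ht
    rw [← map_mul, ← map_mul, Setup.rr_eq_iff]
    change b * s * (s * b)⁻¹ ∈ _
    have e1 : b * s * (s * b)⁻¹ = b * s * b⁻¹ * s⁻¹ := by group
    rw [e1, mem_centralizer_iff]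
    intro v hv
    exact e'.gi.VV_comm_E hv (hbPK s hs)
  obtain ⟨t, ht, htX⟩ := exists_commute_OX e'.gi.nd hx
  obtain ⟨p, hp, rfl⟩ := e'.gi.mem_Tb.1 ht
  set y : G := p * b with hy
  have key : ∀ x ∈ XX (P : Subgroup G) K, ∀ v ∈ VV (P : Subgroup G) K,
      y * (x * v * x⁻¹) * y⁻¹ = x * (y * v * y⁻¹) * x⁻¹ := by
    intro x hx v hv
    have h3 := htX (rr e'.gi.toSetup ⟨x, e'.gi.XX_le_N hx⟩) (by
      rw [← e'.gi.img_XX, e'.gi.mem_img e'.gi.XX_le_N]; exact ⟨x, hx, rfl⟩)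
    rw [← map_mul] at h3
    have h4 := congrArg (fun z : LL e'.gi.toSetup => ((z • (⟨v, hv⟩ : ↥(VV (P : Subgroup G) K)) :
      ↥(VV (P : Subgroup G) K)) : G)) h3
    simp only [mul_smul] at h4
    exact h4
  -- the fixed points
  let D : Subgroup G := VV (P : Subgroup G) K ⊓ centralizer ({y} : Set G)
  have hD : ∀ v, v ∈ D ↔ v ∈ VV (P : Subgroup G) K ∧ y * v * y⁻¹ = v := by
    intro v
    change v ∈ VV (P : Subgroup G) K ∧ v ∈ centralizer ({y} : Set G) ↔ _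
    rw [mem_centralizer_singleton_iff]
    refine and_congr_right fun _ => ?_
    rw [mul_inv_eq_iff_eq_mul]
    exact eq_comm
  have hDX : ∀ x ∈ XX (P : Subgroup G) K, ∀ v ∈ D, x * v * x⁻¹ ∈ D := by
    intro x hx v hv
    rw [hD] at hv ⊢
    exact ⟨e'.gi.VV_conj (e'.gi.XX_le_N hx) hv.1, by rw [key x hx v hv.1, hv.2]⟩
  have hDP : ∀ a ∈ (P : Subgroup G), ∀ v ∈ VV (P : Subgroup G) K, a * v * a⁻¹ * v⁻¹ ∈ D := by
    intro a ha v hv
    have h3 := comm_mem_CE_of_P e (hKE hv) (hKF hv) ha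
    have h4 : a * v * a⁻¹ * v⁻¹ ∈ VV (P : Subgroup G) K :=
      mul_mem (e'.gi.VV_conj (e'.gi.P_le_N ha) hv) (inv_mem hv)
    have h5 := (mem_Zc.1 (Setup.comm_mem_Zc e.gi.cl ha (e'.gi.E_le (e'.gi.VV_le_E hv)))).2 p hp
    refine (hD _).2 ⟨h4, ?_⟩
    have h6 := hbC b hb _ h3
    calc y * (a * v * a⁻¹ * v⁻¹) * y⁻¹ = p * (b * (a * v * a⁻¹ * v⁻¹) * b⁻¹) * p⁻¹ := by rw [hy]; group
      _ = p * (a * v * a⁻¹ * v⁻¹) * p⁻¹ := by rw [h6]
      _ = a * v * a⁻¹ * v⁻¹ := by rw [h5]; group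
  let S : Subgroup G :=
    { carrier := {x | x ∈ XX (P : Subgroup G) K ∧ ∀ v ∈ VV (P : Subgroup G) K, x * v * x⁻¹ * v⁻¹ ∈ D}
      one_mem' := ⟨one_mem _, fun v _ => by simp [one_mem]⟩
      mul_mem' := by
        rintro x x' ⟨hx, hxv⟩ ⟨hx', hxv'⟩
        refine ⟨mul_mem hx hx', fun v hv => ?_⟩
        have h3 := hDX x hx _ (hxv' v hv)
        have h4 := mul_mem h3 (hxv v hv)
        have e1 : x * (x' * v * x'⁻¹ * v⁻¹) * x⁻¹ * (x * v * x⁻¹ * v⁻¹) =
            x * x' * v * (x * x')⁻¹ * v⁻¹ := by group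
        rwa [e1] at h4
      inv_mem' := by
        rintro x ⟨hx, hxv⟩
        refine ⟨inv_mem hx, fun v hv => ?_⟩
        have h3 := hDX x⁻¹ (inv_mem hx) _ (inv_mem (hxv v hv))
        have e1 : x⁻¹ * (x * v * x⁻¹ * v⁻¹)⁻¹ * x⁻¹⁻¹ = x⁻¹ * v * x⁻¹⁻¹ * v⁻¹ := by group
        rwa [e1] at h3 }
  have hXS : XX (P : Subgroup G) K ≤ S := by
    refine ncl_le fun n hn a ha => ?_
    obtain ⟨x, hx, m, hm, rfl⟩ := N_decomp e'.gi.toSetup hn
    have ha' : m * a * m⁻¹ ∈ (P : Subgroup G) := (mem_normalizer_iff.1 hm.2 a).1 ha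
    have e1 : x * m * a * (x * m)⁻¹ = x * (m * a * m⁻¹) * x⁻¹ := by group
    rw [e1]
    refine ⟨Setup.XX_conj (e'.gi.XX_le_N hx) (e'.gi.P_le_XX ha'), fun v hv => ?_⟩
    have hv' : x⁻¹ * v * x ∈ VV (P : Subgroup G) K := by
      simpa using e'.gi.VV_conj (inv_mem (e'.gi.XX_le_N hx)) hv
    have h3 := hDX x hx _ (hDP _ ha' _ hv')
    have e2 : x * (m * a * m⁻¹ * (x⁻¹ * v * x) * (m * a * m⁻¹)⁻¹ * (x⁻¹ * v * x)⁻¹) * x⁻¹ =
        x * (m * a * m⁻¹) * x⁻¹ * v * (x * (m * a * m⁻¹) * x⁻¹)⁻¹ * v⁻¹ := by group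
    rwa [e2] at h3
  have hWD : WW (P : Subgroup G) K ≤ D := by
    unfold WW
    rw [commutator_le]
    intro x hx v hv
    exact (hXS (e'.gi.BB_le_XX hx)).2 v hv
  -- the end
  have hwV := e'.gi.WW_le_VV hw
  have h3 := ((hD w).1 (hWD hw)).2
  have h4 : b * w * b⁻¹ = p⁻¹ * w * p := by
    calc b * w * b⁻¹ = p⁻¹ * (p * b * w * (p * b)⁻¹) * p := by group
      _ = p⁻¹ * w * p := by rw [← hy, h3]
  have h5 : z⁻¹ * (b * z * b⁻¹) = w⁻¹ * (b * w * b⁻¹) := by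
    calc z⁻¹ * (b * z * b⁻¹) = (c * z)⁻¹ * (c * (b * z * b⁻¹)) := by group
      _ = (c * z)⁻¹ * ((b * c * b⁻¹) * (b * z * b⁻¹)) := by rw [hbC b hb c hc]
      _ = w⁻¹ * (b * w * b⁻¹) := by rw [← hwcz]; rw [hwcz]; group
  have h6 : w⁻¹ * (b * w * b⁻¹) ∈ CE (P : Subgroup G) E := by
    rw [h4]
    have h7 := comm_mem_CE_of_P e (hKE hwV) (hKF hwV) (inv_mem hp)
    have h8 := e.gi.CE_conj (inv_mem (e.gi.P_le_N (e.gi.E_le (hKE hwV)))) h7
    have e1 : w⁻¹ * (p⁻¹ * w * p⁻¹⁻¹ * w⁻¹) * w⁻¹⁻¹ = w⁻¹ * (p⁻¹ * w * p) := by group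
    rwa [e1] at h8
  refine e.gi.CE_inf_le (mem_inf.2 ⟨by rw [h5]; exact h6, ?_⟩)
  exact e.gi.Om_le_VV (mul_mem (inv_mem hz) (Om_conj hbP hz))

/-- an element of `Ω` outside two cosets of `U` -/
theorem exists_third (h : Good P E) (hq : 4 ≤ E.relIndex (P : Subgroup G)) {z : G}
    (hz : z ∈ Om (P : Subgroup G)) :
    ∃ z' ∈ Om (P : Subgroup G), z' ∉ UE (P : Subgroup G) E ∧ z * z' ∉ UE (P : Subgroup G) E := by
  classical
  by_contra hcon
  push Not at hcon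
  have h1 : ((Om (P : Subgroup G) : Subgroup G) : Set G) ⊆
      ((UE (P : Subgroup G) E : Subgroup G) : Set G) ∪
        (fun u => z⁻¹ * u) '' ((UE (P : Subgroup G) E : Subgroup G) : Set G) := by
    intro x hx
    by_cases hxU : x ∈ UE (P : Subgroup G) E
    · exact Or.inl hxU
    · exact Or.inr ⟨z * x, hcon x hx hxU, by group⟩
  have h2 : Nat.card (Om (P : Subgroup G)) ≤
      Nat.card (UE (P : Subgroup G) E) + Nat.card (UE (P : Subgroup G) E) := by
    have h3 := Set.ncard_le_ncard h1 (Set.toFinite _)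
    have h4 := Set.ncard_union_le ((UE (P : Subgroup G) E : Subgroup G) : Set G)
      ((fun u => z⁻¹ * u) '' ((UE (P : Subgroup G) E : Subgroup G) : Set G))
    have h5 := Set.ncard_image_le (f := fun u => z⁻¹ * u)
      (Set.toFinite ((UE (P : Subgroup G) E : Subgroup G) : Set G))
    have h6 : ((Om (P : Subgroup G) : Subgroup G) : Set G).ncard = Nat.card (Om (P : Subgroup G)) :=
      Nat.card_coe_set_eq _
    have h7 : ((UE (P : Subgroup G) E : Subgroup G) : Set G).ncard = Nat.card (UE (P : Subgroup G) E) :=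
      Nat.card_coe_set_eq _
    omega
  have h3 := h.relIndex_UE_Om
  have h4 : Nat.card (UE (P : Subgroup G) E) * (UE (P : Subgroup G) E).relIndex (Om (P : Subgroup G)) =
      Nat.card (Om (P : Subgroup G)) := by
    have := relIndex_mul_relIndex ⊥ (UE (P : Subgroup G) E) (Om (P : Subgroup G)) bot_le h.UE_le_Om
    rwa [relIndex_bot_left, relIndex_bot_left] at this
  rw [h3] at h4
  have h5 : 0 < Nat.card (UE (P : Subgroup G) E) := Nat.card_pos
  nlinarith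

/-- **(6A)** -/
theorem six4 (e : Edge P E F) (e' : Edge P K L) (h1 : K ≠ E) (h2 : K ≠ F)
    (hq : 4 ≤ E.relIndex (P : Subgroup G)) : WW (P : Subgroup G) K ≤ CE (P : Subgroup G) E := by
  intro w hw
  have hKE : VV (P : Subgroup G) K ≤ E := VV_le_left e' e h1 h2
  have hKF : VV (P : Subgroup G) K ≤ F := VV_le_left e' e.symm h2 h1
  have hwV := e'.gi.WW_le_VV hw
  obtain ⟨c, hc, z, hz, hwcz⟩ := e.exists_mul_inf (hKE hwV) (hKF hwV)
  have hzU : z ∈ UE (P : Subgroup G) E := by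
    by_contra hzU
    obtain ⟨z', hz', hz'U, hzz'⟩ := exists_third e.gi hq hz
    obtain ⟨x, hx, hxP, hxz⟩ := e.gi.trans_normalizer hz hz' hzU hz'U
    obtain ⟨p, hp, b, hb, rfl⟩ := XX_decomp e.gi.toSetup hx
    have hbP : b ∈ normalizer ((P : Subgroup G) : Set G) := by
      have := mul_mem (inv_mem (le_normalizer hp)) hxP
      simpa using this
    have h3 := comm_mem_UE e e' h1 h2 hw hc hz hwcz hb hbP
    have h4 := Om_conj hbP hz
    have h5 : p * b * z * (p * b)⁻¹ = b * z * b⁻¹ := by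
      have h6 := (mem_Om.1 h4).2.1 p hp
      calc p * b * z * (p * b)⁻¹ = (p * (b * z * b⁻¹)) * p⁻¹ := by group
        _ = b * z * b⁻¹ := by rw [h6]; group
    rw [h5] at hxz
    apply hzz'
    -- `z z' = (z⁻¹ b z b⁻¹)⁻¹ ...`
    have hzz : z * (b * z * b⁻¹) = (b * z * b⁻¹) * z := ((mem_Om.1 h4).2.1 z (mem_Om.1 hz).1)
    have e1 : z * z' = (z⁻¹ * (b * z * b⁻¹))⁻¹ * (b * z * b⁻¹ * z') := by
      have h7 : (z⁻¹ * (b * z * b⁻¹))⁻¹ = z * (b * z * b⁻¹)⁻¹ := by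
        have c1 : Commute z (b * z * b⁻¹) := hzz
        rw [mul_inv_rev, inv_inv]
        exact (c1.inv_right).eq.symm
      rw [h7]; group
    rw [e1]
    exact mul_mem (inv_mem h3) hxz
  rw [hwcz]
  exact mul_mem hc (e.gi.UE_le_CE hzU)

end Cfsg.Agent.ClassTwoFusion.RelSix4
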