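import Mathlib
import Cfsg.Agent.ClassTwoFusion.RelSix2
import Cfsg.Agent.ClassTwoFusion.RelSix4
import Cfsg.Agent.ClassTwoFusion.RelProd
import Cfsg.Agent.ClassTwoFusion.RelFull
import Cfsg.Agent.PermParts.Main

/-!
# Minimal strongly closed subgroups of class two: one edge

In a simple group a nonabelian minimal strongly closed subgroup of class at most two (relative to the closed family
`𝒜` of its conjugates) gives the data `FullEdge`.
-/

set_option autoImplicit false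

namespace Cfsg.Agent.ClassTwoFusion.RelMain

open Subgroup
open Cfsg.Agent.TwoFusion.ClosedFam Cfsg.Agent.ClassTwoFusion.RelSyl
open Cfsg.Agent.ClassTwoFusion.RelAlperin
open Cfsg.Agent.ClassTwoFusion.Local (Cl2 Zc Om mem_Zc mem_Om Om_le_Zc Zc_le VF VV XX BB UE WW CE)
open Cfsg.Agent.ClassTwoFusion.RelLocal Cfsg.Agent.ClassTwoFusion.RelFus Cfsg.Agent.ClassTwoFusion.RelSix2
open Cfsg.Agent.ClassTwoFusion.OneEdge
open Cfsg.Agent.PermParts
open scoped commutatorElement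

universe u

section

variable {G : Type*} [Group G] {𝒜 : Set G} [h𝒜 : Fact (IsClosedFam 𝒜)] [Finite G] {P : Syl 𝒜}
  {E F K L : Subgroup G}

/-- **(6)** -/
theorem six (e : Edge P E F) (e' : Edge P K L) (h1 : K ≠ E) (h2 : K ≠ F) :
    WW (P : Subgroup G) K ≤ CE (P : Subgroup G) E := by
  by_cases hq : E.relIndex (P : Subgroup G) = 2
  · refine six2 e e' h1 h2 hq (fun hqK => ?_)
    obtain ⟨h3, h4⟩ := ne_of_ne e e' h1 h2
    exact RelSix4.six4 e' e h1.symm h3.symm hqK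
  · exact RelSix4.six4 e e' h1 h2 (relIndex_ne e.gi hq)

theorem six' (P : Syl 𝒜) : RelProd.Six P := fun e e' h1 h2 => six e e' h1 h2

end

/-- only one edge -/
theorem subsingleton {G : Type u} [Group G] [Finite G] [IsSimpleGroup G] {𝒜 : Set G}
    [h𝒜 : Fact (IsClosedFam 𝒜)] {P : Syl 𝒜} (m : Minim P) (S : Sylow 2 G)
    (hS : fam 𝒜 (S : Subgroup G) = (P : Subgroup G)) : Subsingleton (RelProd.Idx P) := by
  obtain ⟨hd, hr, hne⟩ := RelProd.data (six' P) m S hS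
  refine ⟨fun i j => ?_⟩
  by_contra hij
  have := hne
  have hM := hd.multi
  have hR := hd.rich hr
  have hex : ∀ i : RelProd.Idx P, ∃ x ∈ i.1, x ≠ 1 := by
    rintro ⟨A, E, F, e, rfl⟩
    obtain ⟨v, hv, -, -, hv1, -⟩ := RelProd.exists_two e.gi
    exact ⟨v, mem_sup_left hv, hv1⟩
  obtain ⟨x, hx, hx1⟩ := hex i
  obtain ⟨y, hy, hy1⟩ := hex j
  have hxm := hd.le i x hx
  have hym := hd.le j y hy
  have hxy : x * y * x⁻¹ * y⁻¹ = 1 := by
    refine hd.disj hij ?_ ?_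
    · have h1 := hd.norm i x⁻¹ (inv_mem hx) y hym.2 hym.1
      have e1 : x * y * x⁻¹ * y⁻¹ = x * (y * x⁻¹ * y⁻¹) := by group
      rw [e1]; exact mul_mem hx h1
    · exact mul_mem (hd.norm j y hy x hxm.2 hxm.1) (inv_mem hy)
  have hO : Basic.Orth (OfProd.unionConj (fun i : RelProd.Idx P => i.1)) x y := by
    refine ⟨OfProd.mem_unionConj hx, OfProd.mem_unionConj hy, ?_, hd.notMem_of_ne hij hx hy hx1 hy1⟩
    calc x * y = (x * y * x⁻¹ * y⁻¹) * (y * x) := by group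
      _ = y * x := by rw [hxy, one_mul]
  exact Main.not_orth hM hR hO

/-- **one edge** -/
theorem exists_fullEdge {G : Type u} [Group G] [Finite G] [IsSimpleGroup G] {𝒜 : Set G} (h𝒜 : IsClosedFam 𝒜)
    (S : Sylow 2 G)
    (hcl : ∀ x ∈ fam 𝒜 (S : Subgroup G), ∀ y ∈ fam 𝒜 (S : Subgroup G), ∀ z ∈ fam 𝒜 (S : Subgroup G),
      Commute ⁅x, y⁆ z)
    (hna : ∃ x ∈ fam 𝒜 (S : Subgroup G), ∃ y ∈ fam 𝒜 (S : Subgroup G), x * y ≠ y * x)
    (hmin : ∀ B ≤ fam 𝒜 (S : Subgroup G), Cfsg.IsStronglyClosed B (S : Subgroup G) →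
      B = ⊥ ∨ B = fam 𝒜 (S : Subgroup G)) :
    ∃ (F : Type) (_ : Field F) (_ : Fintype F) (_ : CharP F 2) (E₁ E₂ : Subgroup G),
      Nonempty (FullEdge F 𝒜 (fam 𝒜 (S : Subgroup G)) E₁ E₂) := by
  have : Fact (IsClosedFam 𝒜) := ⟨h𝒜⟩
  let P : Syl 𝒜 := ⟨fam 𝒜 (S : Subgroup G), isSyl_fam h𝒜 S⟩
  have hP : (P : Subgroup G) = fam 𝒜 (S : Subgroup G) := rfl
  have m : Minim P := by
    refine ⟨?_, hna, ?_⟩
    · intro x hx y hy z hz
      have := hcl x hx y hy z hz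
      rw [commutatorElement_def] at this
      exact this
    · intro B hB hBP
      refine hmin B hB ⟨hB.trans (fam_le 𝒜 _), fun x hx g hg => hBP.2 x hx g ?_⟩
      rw [hP]
      exact mem_fam (h𝒜.conj_mem x (P.mem (hB hx)) g) hg
  obtain ⟨E, F, e, hEF, hess⟩ := RelProd.one (six' P) m (subsingleton m S rfl)
  obtain ⟨K, i1, i2, i3, h⟩ := RelFull.full m e hEF hess
  exact ⟨K, i1, i2, i3, E, F, h⟩

end Cfsg.Agent.ClassTwoFusion.RelMain
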